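import Cfsg.Agent.Lib.BlockPush.Thompson

/-!
The Baumann subgroup: `Z = Ω₁(Z(J(T)))`, its normal closure with `V`, and the group `J(G) C_Q(Z)`.
-/

set_option autoImplicit false
set_option linter.unusedSectionVars false
set_option linter.style.haveILetI false

namespace CfsgLib.BlockPush

open Cfsg CfsgLib CfsgLib.RootCommute CfsgLib.RootBlocks
open CfsgLib.SL2Pair (fix)
open CfsgLib.StrongFusion (cm cm_cm cm_one cm_inv_cm cm_mono card_cm conj_mem_cm)
open scoped commutatorElement Pointwise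

universe u

variable {G : Type u} [Group G] [Finite G] {p : ℕ} [hp : Fact p.Prime]

attribute [local instance] commGroupOf

/-- The join of `V` and the normal closure of `Z`. -/
def xQ (T : Sylow p G) : Subgroup G := vQ p G ⊔ Subgroup.normalClosure (tZ T : Set G)

/-- `C_Q(Z)`. -/
def qZero (T : Sylow p G) : Subgroup G := pCore p G ⊓ tB T

/-- `J(G) C_Q(Z)`. -/
def gZero (T : Sylow p G) : Subgroup G := thompsonSubgroup p G ⊔ qZero T

instance xQ_normal (T : Sylow p G) : (xQ T).Normal := by unfold xQ; infer_instance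

theorem tZ_le_xQ (T : Sylow p G) : tZ T ≤ xQ T := fun _ hz =>
  Subgroup.mem_sup_right (Subgroup.subset_normalClosure hz)

theorem vQ_le_xQ (T : Sylow p G) : vQ p G ≤ xQ T := le_sup_left

namespace Ctx

variable {T : Sylow p G} {M : Subgroup G} (c : Ctx T M) {r : ℕ} {E : Fin r → Subgroup (G ⧸ cV p G)}
  (L : Layout (qAct p G) (T.mapSurjective qC_surjective) (M.map (qC p G)) E)
include c L

theorem exists_small {A : Subgroup G} (hA : A ∈ mx p (T : Subgroup G)) :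
    ∃ D, D ∈ maxElementaryAbelianSubgroups p G ∧ D ≤ pCore p G ∧
      ∀ x ∈ D, ∀ a ∈ A, a * x * a⁻¹ * x⁻¹ ∈ vQ p G := by
  obtain ⟨⟨hel, hmx⟩, hAT⟩ := hA
  obtain ⟨h1, h2, h3⟩ := c.mx_image ⟨⟨hel, hmx⟩, hAT⟩
  have hmu := (L.offender_facts h2 h1 h3).1
  set B := A ⊓ cV p G with hB
  set D := B ⊔ vQ p G with hDdef
  have hD : D = Subgroup.closure ((B : Set G) ∪ vQ p G) := by
    rw [Subgroup.closure_union, Subgroup.closure_eq, Subgroup.closure_eq]
  have hcm : ∀ x ∈ (B : Set G) ∪ vQ p G, ∀ y ∈ (B : Set G) ∪ vQ p G, x * y = y * x := by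
    rintro x (hx | hx) y (hy | hy)
    · exact congrArg Subtype.val (hel.1.is_comm.comm ⟨x, hx.1⟩ ⟨y, hy.1⟩)
    · exact (Subgroup.mem_centralizer_iff.1 hx.2 y hy).symm
    · exact Subgroup.mem_centralizer_iff.1 hy.2 x hx
    · exact vQ_comm hx hy
  have hDel : IsElementaryAbelian p D := by
    haveI hc : IsMulCommutative ↥D := by
      rw [hD]; exact Subgroup.isMulCommutative_closure hcm
    refine ⟨hc, fun x hx => ?_⟩
    rw [hD] at hx
    induction hx using Subgroup.closure_induction with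
    | mem y hy =>
      rcases hy with hy | hy
      · exact hel.2 y hy.1
      · exact vQ_pow hy
    | one => exact one_pow p
    | mul a b ha hb e1 e2 =>
      rw [← hD] at ha hb
      rw [(show Commute a b from congrArg Subtype.val (hc.is_comm.comm ⟨a, ha⟩ ⟨b, hb⟩)).mul_pow, e1, e2, one_mul]
    | inv a _ e1 => rw [inv_pow, e1, inv_one]
  have hDQ : D ≤ pCore p G := sup_le
    ((le_inf (inf_le_left.trans hAT) inf_le_right).trans c.inf_cV_eq.le) vQ_le_core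
  have hq' : Nat.card A = Nat.card ↥B * Nat.card ↥(A.map (qC p G)) := by
    have h3 := ((qC p G).comp A.subtype).ker.card_mul_index
    rw [Subgroup.index_ker, MonoidHom.range_comp, Subgroup.range_subtype] at h3
    rw [← h3]
    congr 1
    exact Nat.card_congr
      { toFun := fun x => ⟨((x : A) : G), (x : A).2, qC_eq_one.1 x.2⟩
        invFun := fun x => ⟨⟨(x : G), x.2.1⟩, qC_eq_one.2 x.2.2⟩
        left_inv := fun x => rfl
        right_inv := fun x => rfl }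
  have hBV : Nat.card ↥(B ⊓ vQ p G) ≤ Nat.card ↥(fix (qAct p G) (A.map (qC p G))) := by
    refine Nat.card_le_card_of_injective (fun x : ↥(B ⊓ vQ p G) => (⟨av x.2.2, (mem_fix_av _).2 fun a ha => ?_⟩ :
      ↥(fix (qAct p G) (A.map (qC p G))))) fun x y e => Subtype.ext (av_eq.1 (congrArg Subtype.val e))
    have hcm : a * (x : G) = (x : G) * a := congrArg Subtype.val (hel.1.is_comm.comm ⟨a, ha⟩ ⟨x, x.2.1.1⟩)
    rw [hcm, mul_inv_cancel_right]
  have hle : Nat.card A ≤ Nat.card D := by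
    refine Nat.le_of_mul_le_mul_right ?_ (Nat.card_pos (α := ↥(B ⊓ vQ p G)))
    calc Nat.card A * Nat.card ↥(B ⊓ vQ p G)
        ≤ Nat.card ↥B * Nat.card ↥(A.map (qC p G)) * Nat.card ↥(fix (qAct p G) (A.map (qC p G))) := by
          rw [← hq']; exact Nat.mul_le_mul_left _ hBV
      _ = Nat.card ↥B * Nat.card ↥(vQ p G) := by
          rw [mul_assoc]
          exact congrArg _ (hmu.trans (Nat.card_congr Additive.toMul))
      _ ≤ _ := Products.card_mul_card_le B (vQ p G)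
  refine ⟨D, ⟨hDel, fun X hX => (hmx X hX).trans hle⟩, hDQ, fun x hx a ha => ?_⟩
  obtain ⟨b, hb, v, hv, rfl⟩ := Subgroup.mem_sup_of_normal_right.1 hx
  have hab : a * b = b * a := congrArg Subtype.val (hel.1.is_comm.comm ⟨a, ha⟩ ⟨b, hb.1⟩)
  rw [show a * (b * v) * a⁻¹ * (b * v)⁻¹ = (a * b) * v * a⁻¹ * v⁻¹ * b⁻¹ by group, hab,
    show b * a * v * a⁻¹ * v⁻¹ * b⁻¹ = b * (a * v * a⁻¹ * v⁻¹) * b⁻¹ by group]
  exact vQ_normal.conj_mem _ (mul_mem (vQ_normal.conj_mem v hv a) (inv_mem hv)) b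

/-- The conjugates of `Z` lie in every small elementary abelian subgroup of greatest order. -/
theorem conj_tZ_le {D : Subgroup G} (hD : D ∈ maxElementaryAbelianSubgroups p G) (hDQ : D ≤ pCore p G) (h : G) :
    cm h (tZ T) ≤ D := by
  have hD' : cm h⁻¹ D ∈ mx p (T : Subgroup G) := ⟨maxElem_cm h⁻¹ hD, fun x hx => by
    obtain ⟨d, hd, rfl⟩ := hx
    exact pCore_le_sylow T ((inferInstance : (pCore p G).Normal).conj_mem d (hDQ hd) h⁻¹)⟩
  have h1 := cm_mono (g := h) (tZ_le_mx hD')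
  rwa [cm_cm, mul_inv_cancel, cm_one] at h1

theorem closure_tZ_le {D : Subgroup G} (hD : D ∈ maxElementaryAbelianSubgroups p G) (hDQ : D ≤ pCore p G) :
    Subgroup.normalClosure (tZ T : Set G) ≤ D := by
  refine (Subgroup.closure_le _).2 fun x hx => ?_
  obtain ⟨z, hz, hxz⟩ := Group.mem_conjugatesOfSet_iff.1 hx
  obtain ⟨k, rfl⟩ := isConj_iff.1 hxz
  exact c.conj_tZ_le L hD hDQ k (conj_mem_cm hz)

theorem xQ_le_core : xQ T ≤ pCore p G := by
  obtain ⟨A, hA⟩ := mx_nonempty T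
  obtain ⟨D, hD, hDQ, -⟩ := c.exists_small L hA
  exact sup_le vQ_le_core ((c.closure_tZ_le L hD hDQ).trans hDQ)

theorem xQ_comm {x y : G} (hx : x ∈ xQ T) (hy : y ∈ xQ T) : x * y = y * x ∧ x ^ p = 1 := by
  obtain ⟨A, hA⟩ := mx_nonempty T
  obtain ⟨D, hD, hDQ, -⟩ := c.exists_small L hA
  have hle : xQ T ≤ vQ p G ⊔ D := sup_le_sup_left (c.closure_tZ_le L hD hDQ) _
  have hvD : ∀ v ∈ vQ p G, v ∈ D := fun v hv => by
    refine mem_of_mx (X := D) ⟨hD, le_rfl⟩ (fun d hd => ?_) (vQ_pow hv)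
    exact (BBlock.omegaOneCenter_comm p _ hv (hDQ hd)).symm
  have hD' : xQ T ≤ D := hle.trans (sup_le hvD le_rfl)
  exact ⟨congrArg Subtype.val (hD.1.1.is_comm.comm ⟨x, hD' hx⟩ ⟨y, hD' hy⟩), hD.1.2 x (hD' hx)⟩

/-- `J(G)` is trivial on `X / V`. -/
theorem jG_xQ {g x : G} (hg : g ∈ thompsonSubgroup p G) (hx : x ∈ xQ T) : g * x * g⁻¹ * x⁻¹ ∈ vQ p G := by
  let S : Subgroup G :=
    { carrier := {g | ∀ x ∈ xQ T, g * x * g⁻¹ * x⁻¹ ∈ vQ p G}
      one_mem' := fun x _ => by simp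
      mul_mem' := fun {a b} ha hb x hx => by
        have h := mul_mem (ha _ ((xQ_normal T).conj_mem x hx b)) (hb x hx)
        rwa [show a * (b * x * b⁻¹) * a⁻¹ * (b * x * b⁻¹)⁻¹ * (b * x * b⁻¹ * x⁻¹) = a * b * x * (a * b)⁻¹ * x⁻¹ by
          group] at h
      inv_mem' := fun {a} ha x hx => by
        have h := inv_mem (ha _ ((xQ_normal T).conj_mem x hx a⁻¹))
        rw [inv_inv] at h
        rwa [show (a * (a⁻¹ * x * a) * a⁻¹ * (a⁻¹ * x * a)⁻¹)⁻¹ = a⁻¹ * x * a⁻¹⁻¹ * x⁻¹ by group] at h }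
  haveI hS : S.Normal := ⟨fun a ha k x hx => by
    have h := vQ_normal.conj_mem _ (ha _ ((xQ_normal T).conj_mem x hx k⁻¹)) k
    rwa [show k * (a * (k⁻¹ * x * k⁻¹⁻¹) * a⁻¹ * (k⁻¹ * x * k⁻¹⁻¹)⁻¹) * k⁻¹ =
      k * a * k⁻¹ * x * (k * a * k⁻¹)⁻¹ * x⁻¹ by group] at h⟩
  have hle : thompsonSubgroup p G ≤ S := sSup_le fun A hA => by
    obtain ⟨k, hk, hkA⟩ := exists_conj_max T hA
    obtain ⟨D, hD, hDQ, hDc⟩ := c.exists_small L (A := cm k A) ⟨hkA, hk⟩
    intro a ha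
    have h2 : k * a * k⁻¹ ∈ S := fun y hy => by
      have hyD : y ∈ vQ p G ⊔ D := sup_le_sup_left (c.closure_tZ_le L hD hDQ) _ hy
      have hvD : vQ p G ≤ D := fun v hv => mem_of_mx (X := D) ⟨hD, le_rfl⟩
        (fun d hd => (BBlock.omegaOneCenter_comm p _ hv (hDQ hd)).symm) (vQ_pow hv)
      exact hDc y (sup_le hvD le_rfl hyD) _ (conj_mem_cm ha)
    have := hS.conj_mem _ h2 k⁻¹
    rwa [inv_inv, show k⁻¹ * (k * a * k⁻¹) * k = a by group] at this
  exact hle hg x hx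

theorem xQ_eq {x : G} (hx : x ∈ xQ T) : ∃ z ∈ tZ T, ∃ v ∈ vQ p G, x = z * v := by
  have hn : (tZ T ⊔ vQ p G).Normal := by
    refine Subgroup.normalizer_eq_top_iff.1 (top_le_iff.1 ((c.jG_sup_T L).ge.trans (sup_le (fun g hg => ?_) fun t ht => ?_)))
    · refine ZJFailure.mem_normalizer_of_forall fun y hy => ?_
      have hy' : y ∈ xQ T := sup_le (tZ_le_xQ T) (vQ_le_xQ T) hy
      have := mul_mem (Subgroup.mem_sup_right (c.jG_xQ L hg hy') : _ ∈ tZ T ⊔ vQ p G) hy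
      rwa [inv_mul_cancel_right] at this
    · refine ZJFailure.mem_normalizer_of_forall fun y hy => ?_
      obtain ⟨z, hz, v, hv, rfl⟩ := Subgroup.mem_sup_of_normal_right.1 hy
      rw [show t * (z * v) * t⁻¹ = (t * z * t⁻¹) * (t * v * t⁻¹) by group]
      exact mul_mem (Subgroup.mem_sup_left ((Subgroup.mem_normalizer_iff.1
        (normalizer_tJ_le_tZ T (le_normalizer_tJ T ht)) z).1 hz)) (Subgroup.mem_sup_right (vQ_normal.conj_mem v hv t))
  haveI := hn
  have hle : xQ T ≤ tZ T ⊔ vQ p G :=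
    sup_le le_sup_right (Subgroup.normalClosure_le_normal fun z hz => Subgroup.mem_sup_left hz)
  obtain ⟨z, hz, v, hv, rfl⟩ := Subgroup.mem_sup_of_normal_right.1 (hle hx)
  exact ⟨z, hz, v, hv, rfl⟩

/-- `[X, O_p(G)]` is centralized by `J(G)`. -/
theorem core_xQ {x q : G} (hx : x ∈ xQ T) (hq : q ∈ pCore p G) :
    x * q * x⁻¹ * q⁻¹ ∈ xQ T ⊓ Subgroup.centralizer (thompsonSubgroup p G : Set G) := by
  have hN : ⁅xQ T, pCore p G⁆ ≤ tZ T := Subgroup.commutator_le.2 fun y hy q hq => by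
    obtain ⟨z, hz, v, hv, rfl⟩ := c.xQ_eq L hy
    have hvq : q * v = v * q := BBlock.omegaOneCenter_comm p _ hv hq
    rw [commutatorElement_def, show z * v * q * (z * v)⁻¹ * q⁻¹ = z * (v * q) * v⁻¹ * z⁻¹ * q⁻¹ by group, ← hvq,
      show z * (q * v) * v⁻¹ * z⁻¹ * q⁻¹ = z * (q * z⁻¹ * q⁻¹) by group]
    exact mul_mem hz ((Subgroup.mem_normalizer_iff.1
      (normalizer_tJ_le_tZ T (le_normalizer_tJ T (pCore_le_sylow T hq))) _).1 (inv_mem hz))
  have h := Subgroup.commutator_mem_commutator hx hq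
  rw [commutatorElement_def] at h
  refine Subgroup.mem_inf.2 ⟨tZ_le_xQ T (hN h), ?_⟩
  have hle : ⁅xQ T, pCore p G⁆ ≤ Subgroup.centralizer (thompsonSubgroup p G : Set G) := by
    rw [Subgroup.le_centralizer_iff]
    refine sSup_le fun A hA => ?_
    obtain ⟨k, hk, hkA⟩ := exists_conj_max T hA
    intro a ha
    refine Subgroup.mem_centralizer_iff.2 fun n hn => ?_
    have h1 : k * n * k⁻¹ ∈ tZ T := hN ((inferInstance : (⁅xQ T, pCore p G⁆).Normal).conj_mem n hn k)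
    have h2 := tZ_comm h1 (le_tJ (A := cm k A) ⟨hkA, hk⟩ (conj_mem_cm ha))
    calc n * a = k⁻¹ * ((k * n * k⁻¹) * (k * a * k⁻¹)) * k := by group
      _ = k⁻¹ * ((k * a * k⁻¹) * (k * n * k⁻¹)) * k := by rw [h2]
      _ = a * n := by group
  exact hle h

/-- A translation by a fixed element of order dividing `p` is trivial for an element of order prime to `p`. -/
theorem eq_of_translation {y x : G} (hy : (orderOf y).Coprime p)
    (he : (y * x * y⁻¹ * x⁻¹) ^ p = 1) (hye : y * (y * x * y⁻¹ * x⁻¹) = (y * x * y⁻¹ * x⁻¹) * y) :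
    y * x * y⁻¹ = x := by
  set e := y * x * y⁻¹ * x⁻¹ with hedef
  have h1 : y * x * y⁻¹ = e * x := by rw [hedef]; group
  have h2 : ∀ n : ℕ, y ^ n * x * (y ^ n)⁻¹ = e ^ n * x := by
    intro n
    induction n with
    | zero => simp
    | succ n ih =>
      have hcomm : Commute y (e ^ n) := (show Commute y e from hye).pow_right n
      rw [pow_succ', show y * y ^ n * x * (y * y ^ n)⁻¹ = y * (y ^ n * x * (y ^ n)⁻¹) * y⁻¹ by group, ih,
        show y * (e ^ n * x) * y⁻¹ = y * e ^ n * x * y⁻¹ by group, hcomm.eq,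
        show e ^ n * y * x * y⁻¹ = e ^ n * (y * x * y⁻¹) by group, h1, ← mul_assoc, ← pow_succ]
  have h3 := h2 (orderOf y)
  rw [pow_orderOf_eq_one, one_mul, inv_one, mul_one] at h3
  have h4 : e ^ orderOf y = 1 := mul_right_cancel (b := x) (by rw [one_mul, ← h3])
  have h5 : e = 1 := by
    rw [← orderOf_eq_one_iff]
    exact Nat.dvd_one.1 (hy ▸ Nat.dvd_gcd (orderOf_dvd_of_pow_eq_one h4) (orderOf_dvd_of_pow_eq_one he))
  rw [h1, h5, one_mul]

/-- **Every element of `Z` is fixed by `J(G)` up to `V`.** -/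
theorem exists_fixed_tZ {z : G} (hz : z ∈ tZ T) :
    ∃ a ∈ vQ p G, z * a ∈ Subgroup.centralizer (thompsonSubgroup p G : Set G) := by
  set J := thompsonSubgroup p G with hJ
  obtain ⟨g, hgH, hcover⟩ := c.exists_pair L
  set H := tJ T ⊔ cm g (tJ T) with hH
  have hgJ : cm g (tJ T) ≤ J := fun x hx => by
    obtain ⟨j, hj, rfl⟩ := hx
    exact jG_normal.conj_mem j (tJ_le_jG T hj) g
  have hHJ : H ≤ J := sup_le (tJ_le_jG T) hgJ
  set ρ := qAct p G with hρ
  set Ia := img ρ ((tJ T).map (qC p G)) with hIa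
  set Ib := img ρ ((cm g (tJ T)).map (qC p G)) with hIb
  set D := Ia ⊔ Ib with hD
  have hd : ∀ h ∈ J, h * z * h⁻¹ * z⁻¹ ∈ vQ p G := fun h hh => c.jG_xQ L hh (tZ_le_xQ T hz)
  have hinvD : ∀ a : G, (qC p G a ∈ (tJ T).map (qC p G) ∨ qC p G a ∈ (cm g (tJ T)).map (qC p G)) →
      ∀ w ∈ D, ρ (qC p G a) w ∈ D := by
    intro a ha w hw
    have h1 : ρ (qC p G a) w - w ∈ D := by
      rcases ha with ha | ha
      · exact AddSubgroup.mem_sup_left (sub_mem_img ρ ha w)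
      · exact AddSubgroup.mem_sup_right (sub_mem_img ρ ha w)
    have h2 := add_mem h1 hw
    rwa [sub_add_cancel] at h2
  have hgoal : ∃ hdg : g * z * g⁻¹ * z⁻¹ ∈ vQ p G, av hdg ∈ D := by
    let S : Subgroup G :=
      { carrier := {h | (∃ hh : h * z * h⁻¹ * z⁻¹ ∈ vQ p G, av hh ∈ D) ∧ ∀ w ∈ D, ρ (qC p G h) w ∈ D}
        one_mem' := ⟨⟨by simp, by
          have h : av (p := p) (v := (1 : G) * z * 1⁻¹ * z⁻¹) (by simp) = 0 := by
            show Additive.ofMul _ = 0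
            exact congrArg Additive.ofMul (Subtype.ext (show (1 : G) * z * 1⁻¹ * z⁻¹ = 1 by simp))
          rw [h]; exact zero_mem _⟩, fun w hw => by rw [map_one, act_one]; exact hw⟩
        mul_mem' := fun {a b} ⟨⟨ha, ha'⟩, hai⟩ ⟨⟨hb, hb'⟩, hbi⟩ => by
          have e : a * b * z * (a * b)⁻¹ * z⁻¹ = a * (b * z * b⁻¹ * z⁻¹) * a⁻¹ * (a * z * a⁻¹ * z⁻¹) := by group
          refine ⟨⟨e ▸ mul_mem (vQ_normal.conj_mem _ hb a) ha, ?_⟩, fun w hw => by
            rw [map_mul, act_mul]; exact hai _ (hbi w hw)⟩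
          have h1 := add_mem (hai _ hb') ha'
          rw [hρ, qAct_av, av_add] at h1
          convert h1 using 1
          exact (av_eq (p := p)).2 e
        inv_mem' := fun {a} ⟨⟨ha, ha'⟩, hai⟩ => by
          have e : a⁻¹ * z * a⁻¹⁻¹ * z⁻¹ = (a⁻¹ * (a * z * a⁻¹ * z⁻¹) * a⁻¹⁻¹)⁻¹ := by group
          have hinv' : ∀ w ∈ D, ρ (qC p G a⁻¹) w ∈ D := by
            intro w hw
            have hbij : Function.Bijective (fun x : ↥D => (⟨ρ (qC p G a) x, hai x x.2⟩ : ↥D)) :=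
              Finite.injective_iff_bijective.1 fun x y e =>
                Subtype.ext (act_injective ρ (qC p G a) (congrArg Subtype.val e))
            obtain ⟨x, hx⟩ := hbij.2 ⟨w, hw⟩
            rw [← show ρ (qC p G a) (x : Additive ↥(vQ p G)) = w from congrArg Subtype.val hx, map_inv, act_inv]
            exact x.2
          refine ⟨⟨e ▸ inv_mem (vQ_normal.conj_mem _ ha a⁻¹), ?_⟩, hinv'⟩
          have h1 := neg_mem (hinv' _ ha')
          rw [hρ, qAct_av] at h1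
          convert h1 using 1
          exact (av_eq (p := p)).2 e }
    have hle : H ≤ S := by
      refine sup_le (fun j hj => ?_) ?_
      · refine ⟨⟨hd j (tJ_le_jG T hj), ?_⟩, hinvD j (Or.inl (Subgroup.mem_map_of_mem _ hj))⟩
        have h : j * z * j⁻¹ * z⁻¹ = (1 : G) := by rw [← tZ_comm hz hj, mul_inv_cancel_right, mul_inv_cancel]
        rw [show av (hd j (tJ_le_jG T hj)) = 0 from congrArg Additive.ofMul (Subtype.ext h)]
        exact zero_mem _
      · rintro _ ⟨j, hj, rfl⟩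
        have hmem : g * j * g⁻¹ ∈ cm g (tJ T) := conj_mem_cm hj
        refine ⟨⟨hd _ (hgJ hmem), ?_⟩, hinvD _ (Or.inr (Subgroup.mem_map_of_mem _ hmem))⟩
        have hv : g⁻¹ * z * g⁻¹⁻¹ * z⁻¹ ∈ vQ p G := hd g⁻¹ (inv_mem (hHJ hgH))
        have hgv : g * (g⁻¹ * z * g⁻¹⁻¹ * z⁻¹) * g⁻¹ ∈ vQ p G := vQ_normal.conj_mem _ hv g
        -- the cocycle on a conjugate is a displacement by it
        have e : g * j * g⁻¹ * z * (g * j * g⁻¹)⁻¹ * z⁻¹ =
            g * j * g⁻¹ * (g * (g⁻¹ * z * g⁻¹⁻¹ * z⁻¹) * g⁻¹) * (g * j * g⁻¹)⁻¹ *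
              (g * (g⁻¹ * z * g⁻¹⁻¹ * z⁻¹) * g⁻¹)⁻¹ := by
          calc g * j * g⁻¹ * z * (g * j * g⁻¹)⁻¹ * z⁻¹
              = g * j * (g⁻¹ * z * g⁻¹⁻¹ * z⁻¹) * (z * j⁻¹) * g⁻¹ * z⁻¹ := by group
            _ = g * j * (g⁻¹ * z * g⁻¹⁻¹ * z⁻¹) * (j⁻¹ * z) * g⁻¹ * z⁻¹ := by
                rw [tZ_comm hz (inv_mem hj)]
            _ = _ := by group
        have h1 : av (mul_mem (vQ_normal.conj_mem _ hgv (g * j * g⁻¹)) (inv_mem hgv)) ∈ Ib := by
          rw [← sub_av (g * j * g⁻¹) hgv]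
          exact sub_mem_img ρ (Subgroup.mem_map_of_mem _ hmem) _
        convert AddSubgroup.mem_sup_right (S := Ia) h1 using 1
        exact (av_eq (p := p)).2 e
    exact (hle hgH).1
  obtain ⟨hdg, hdgD⟩ := hgoal
  obtain ⟨xa, hxa, xb, hxb, hsum⟩ := AddSubgroup.mem_sup.1 hdgD
  obtain ⟨a, hav, rfl⟩ := exists_av xa
  obtain ⟨b, hbv, rfl⟩ := exists_av xb
  rw [av_add, av_eq] at hsum
  have hqa : ∀ j ∈ tJ T, j * a * j⁻¹ = a := by
    refine (mem_fix_av hav).1 ?_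
    rw [hIa, c.map_tJ L] at hxa
    rw [c.map_tJ L]
    exact L.quad hxa
  have hqb : ∀ j ∈ cm g (tJ T), j * b * j⁻¹ = b := by
    refine (mem_fix_av hbv).1 ?_
    rw [hIb, map_cm, c.map_tJ L] at hxb
    rw [map_cm, c.map_tJ L]
    have h1 := mem_img_cm ρ (g := (qC p G g)⁻¹) hxb
    rw [StrongFusion.cm_inv_cm] at h1
    exact (RootCommute.mem_fix_cm ρ).2 (L.quad h1)
  refine ⟨a, hav, ?_⟩
  have haX : a ∈ xQ T := vQ_le_xQ T hav
  have hbX : b ∈ xQ T := vQ_le_xQ T hbv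
  have hzX : z ∈ xQ T := tZ_le_xQ T hz
  have hx : z * a ∈ xQ T := mul_mem hzX haX
  have hJ1 : ∀ j ∈ tJ T, j * (z * a) * j⁻¹ = z * a := fun j hj => by
    rw [show j * (z * a) * j⁻¹ = (j * z) * j⁻¹ * (j * a * j⁻¹) by group, ← tZ_comm hz hj, mul_inv_cancel_right,
      hqa j hj]
  have hgz : g * z * g⁻¹ * b⁻¹ = z * a := by
    rw [show g * z * g⁻¹ = (g * z * g⁻¹ * z⁻¹) * z by group, ← hsum, (c.xQ_comm L (mul_mem haX hbX) hzX).1,
      ← mul_assoc, mul_inv_cancel_right]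
  have hJ2 : ∀ j ∈ cm g (tJ T), j * (z * a) * j⁻¹ = z * a := fun j hj => by
    obtain ⟨j₀, hj₀, rfl⟩ := hj
    have hbb := hqb _ (conj_mem_cm (g := g) hj₀)
    rw [← hgz]
    show g * j₀ * g⁻¹ * (g * z * g⁻¹ * b⁻¹) * (g * j₀ * g⁻¹)⁻¹ = g * z * g⁻¹ * b⁻¹
    calc g * j₀ * g⁻¹ * (g * z * g⁻¹ * b⁻¹) * (g * j₀ * g⁻¹)⁻¹
        = g * (j₀ * z * j₀⁻¹) * g⁻¹ * (g * j₀ * g⁻¹ * b * (g * j₀ * g⁻¹)⁻¹)⁻¹ := by group
      _ = _ := by rw [hbb, ← tZ_comm hz hj₀, mul_inv_cancel_right]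
  -- translations by what `J(G)` fixes
  set Y := xQ T ⊓ Subgroup.centralizer (J : Set G) with hY
  haveI hYn : Y.Normal := by rw [hY]; infer_instance
  let S : Subgroup G :=
    { carrier := {k | k * (z * a) * k⁻¹ * (z * a)⁻¹ ∈ Y}
      one_mem' := by simp
      mul_mem' := fun {k l} hk hl => by
        have h := mul_mem (hYn.conj_mem _ hl k) hk
        rwa [show k * (l * (z * a) * l⁻¹ * (z * a)⁻¹) * k⁻¹ * (k * (z * a) * k⁻¹ * (z * a)⁻¹) =
          k * l * (z * a) * (k * l)⁻¹ * (z * a)⁻¹ by group] at h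
      inv_mem' := fun {k} hk => by
        have h := inv_mem (hYn.conj_mem _ hk k⁻¹)
        rwa [show (k⁻¹ * (k * (z * a) * k⁻¹ * (z * a)⁻¹) * k⁻¹⁻¹)⁻¹ = k⁻¹ * (z * a) * k⁻¹⁻¹ * (z * a)⁻¹ by group] at h }
  have hfixed : ∀ k, k * (z * a) * k⁻¹ = z * a → k ∈ S := fun k hk => by
    show k * (z * a) * k⁻¹ * (z * a)⁻¹ ∈ Y
    rw [hk, mul_inv_cancel]; exact one_mem _
  have hHS : H ≤ S := sup_le (fun j hj => hfixed j (hJ1 j hj)) fun j hj => hfixed j (hJ2 j hj)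
  have hCS : cV p G ≤ S := by
    intro k hk
    obtain ⟨n, hn⟩ := PResidual.exists_pow_coprime (p := p) k
    -- the part of order a power of `p` and the part of order prime to `p`
    obtain ⟨u, hu⟩ := exists_pow_eq_self_of_coprime ((hn.pow_right n).symm)
    set w := (k ^ p ^ n) ^ u with hw
    have hwk : Commute w k := ((Commute.refl k).pow_left _).pow_left _
    have hwp : w ^ p ^ n = k ^ p ^ n := by rw [hw, ← pow_mul, mul_comm, pow_mul]; exact hu
    have hwC : w ∈ cV p G := pow_mem (pow_mem hk _) _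
    have hwS : w ∈ S := by
      have hwc : (orderOf w).Coprime p := Nat.Coprime.coprime_dvd_left (orderOf_pow_dvd u) hn
      refine hfixed w (c.eq_of_translation L hwc ?_ ?_)
      · exact vQ_pow (c.jG_xQ L (c.mem_jG_of_coprime L hwc) hx)
      · exact (Subgroup.mem_centralizer_iff.1 hwC _ (c.jG_xQ L (c.mem_jG_of_coprime L hwc) hx)).symm
    have hrest : w⁻¹ * k ∈ pCore p G := by
      have hp' : IsPGroup p ↥(Subgroup.zpowers (w⁻¹ * k)) := by
        have h1 : (w⁻¹ * k) ^ p ^ n = 1 := by rw [hwk.inv_left.mul_pow, inv_pow, hwp, inv_mul_cancel]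
        obtain ⟨i, -, hi⟩ := (Nat.dvd_prime_pow hp.out).1 (orderOf_dvd_of_pow_eq_one h1)
        exact IsPGroup.of_card (n := i) (by rw [Nat.card_zpowers, hi])
      obtain ⟨b', hb'⟩ := ZJFailure.exists_le_cm T hp'
      have h2 := RootCommute.mem_cm.1 (hb' (Subgroup.mem_zpowers _))
      have h3 : b'⁻¹ * (w⁻¹ * k) * b' ∈ cV p G := by
        have := (cV_normal (p := p) (G := G)).conj_mem _ (mul_mem (inv_mem hwC) hk) b'⁻¹
        rwa [inv_inv] at this
      have h4 := (inferInstance : (pCore p G).Normal).conj_mem _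
        (c.inf_cV_eq.le (Subgroup.mem_inf.2 ⟨h2, h3⟩)) b'
      rwa [show b' * (b'⁻¹ * (w⁻¹ * k) * b') * b'⁻¹ = w⁻¹ * k by group] at h4
    have hrS : w⁻¹ * k ∈ S := by
      show w⁻¹ * k * (z * a) * (w⁻¹ * k)⁻¹ * (z * a)⁻¹ ∈ Y
      have h1 := inv_mem (c.core_xQ L hx hrest)
      rwa [show (z * a * (w⁻¹ * k) * (z * a)⁻¹ * (w⁻¹ * k)⁻¹)⁻¹ =
        w⁻¹ * k * (z * a) * (w⁻¹ * k)⁻¹ * (z * a)⁻¹ by group] at h1
    have := mul_mem hwS hrS
    rwa [mul_inv_cancel_left] at this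
  have hcop : ∀ k : G, (orderOf k).Coprime p → k * (z * a) * k⁻¹ = z * a := by
    intro k hk
    have hkJ := c.mem_jG_of_coprime L hk
    have hkS : k ∈ S := by
      obtain ⟨h, hh, he⟩ := hcover ((c.map_jG L).le (Subgroup.mem_map_of_mem _ hkJ))
      have h1 : h⁻¹ * k ∈ cV p G := by rw [← qC_eq_one, map_mul, map_inv, he, inv_mul_cancel]
      have := mul_mem (hHS hh) (hCS h1)
      rwa [mul_inv_cancel_left] at this
    exact c.eq_of_translation L hk (c.xQ_comm L hkS.1 hkS.1).2 (Subgroup.mem_centralizer_iff.1 hkS.2 k hkJ)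
  let F : Subgroup G :=
    { carrier := {k | k * (z * a) * k⁻¹ = z * a}
      one_mem' := by simp
      mul_mem' := fun {k l} hk hl => by
        show k * l * (z * a) * (k * l)⁻¹ = z * a
        rw [show k * l * (z * a) * (k * l)⁻¹ = k * (l * (z * a) * l⁻¹) * k⁻¹ by group,
          show l * (z * a) * l⁻¹ = z * a from hl, show k * (z * a) * k⁻¹ = z * a from hk]
      inv_mem' := fun {k} hk => by
        show k⁻¹ * (z * a) * k⁻¹⁻¹ = z * a
        conv_lhs => rw [← show k * (z * a) * k⁻¹ = z * a from hk]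
        group }
  have hR : Cfsg.pResidual p G ≤ F := (Subgroup.closure_le _).2 fun k hk => hcop k hk
  have hJF : J ≤ F := by
    rw [hJ, thompsonSubgroup]
    refine sSup_le fun A hA => ?_
    obtain ⟨k, hk, hkA⟩ := exists_conj_max T hA
    haveI := PResidual.pResidual_normal (G := G) (p := p)
    obtain ⟨t, ht, w, hw, rfl⟩ :=
      Subgroup.mem_sup_of_normal_right.1 ((PResidual.pResidual_sup_sylow T).ge (Subgroup.mem_top k))
    intro x hx
    have h1 : w * x * w⁻¹ ∈ F := by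
      refine hJ1 _ ?_
      have h2 : t⁻¹ * (t * w * x * (t * w)⁻¹) * t ∈ tJ T := (Subgroup.mem_normalizer_iff''.1
        (le_normalizer_tJ T ht) _).1 (le_tJ (A := cm (t * w) A) ⟨hkA, hk⟩ (conj_mem_cm hx))
      rwa [show t⁻¹ * (t * w * x * (t * w)⁻¹) * t = w * x * w⁻¹ by group] at h2
    have h2 := mul_mem (mul_mem (inv_mem (hR hw)) h1) (hR hw)
    rwa [show w⁻¹ * (w * x * w⁻¹) * w = x by group] at h2
  exact Subgroup.mem_centralizer_iff.2 fun k hk => mul_inv_eq_iff_eq_mul.1 (hJF hk)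

/-- `C_Q(Z)` is the centralizer of `X` in `O_p(G)`. -/
theorem qZero_eq : qZero T = pCore p G ⊓ Subgroup.centralizer (xQ T : Set G) := by
  ext q
  rw [qZero, Subgroup.mem_inf, Subgroup.mem_inf, mem_tB, Subgroup.mem_centralizer_iff]
  refine and_congr_right fun hq => ⟨fun h x hx => ?_, fun h => ⟨pCore_le_sylow T hq, fun z hz => h z (tZ_le_xQ T hz)⟩⟩
  obtain ⟨z, hz, v, hv, rfl⟩ := c.xQ_eq L hx
  rw [mul_assoc, ← BBlock.omegaOneCenter_comm p _ hv hq, ← mul_assoc, h.2 z hz, mul_assoc]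

theorem qZero_normal : (qZero T).Normal := by
  rw [c.qZero_eq L]; infer_instance

theorem jG_inf_core : thompsonSubgroup p G ⊓ pCore p G ≤ qZero T := fun j hj => by
  refine Subgroup.mem_inf.2 ⟨hj.2, mem_tB.2 ⟨pCore_le_sylow T hj.2, fun z hz => ?_⟩⟩
  obtain ⟨a, ha, hza⟩ := c.exists_fixed_tZ L hz
  have h1 : j * (z * a) = z * a * j := Subgroup.mem_centralizer_iff.1 hza j hj.1
  have h2 : j * a = a * j := BBlock.omegaOneCenter_comm p _ ha hj.2
  refine mul_right_cancel (b := a) ?_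
  rw [mul_assoc, h2, ← mul_assoc, ← h1, mul_assoc]

/-- `B(T) = J(T) C_Q(Z)`. -/
theorem tB_eq : tB T = tJ T ⊔ qZero T := by
  refine le_antisymm (fun b hb => ?_) (sup_le (tJ_le_tB T) inf_le_right)
  have h1 : qC p G b ∈ offs (qAct p G) (T.mapSurjective qC_surjective) ⊤ := by
    refine L.fixer ⟨b, (mem_tB.1 hb).1, rfl⟩ fun w hw => ?_
    obtain ⟨v, hv, rfl⟩ := exists_av w
    rw [← c.map_tJ L, mem_fix_av] at hw
    obtain ⟨A, hA⟩ := mx_nonempty T
    have hvA : v ∈ A := mem_of_mx hA (fun a ha => (mul_inv_eq_iff_eq_mul.1 (hw a (le_tJ hA ha))).symm) (vQ_pow hv)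
    have hvZ : v ∈ tZ T := Subgroup.subset_closure ⟨Subgroup.mem_inf.2 ⟨le_tJ hA hvA,
      Subgroup.mem_centralizer_iff.2 fun j hj => mul_inv_eq_iff_eq_mul.1 (hw j hj)⟩, vQ_pow hv⟩
    rw [qAct_av, av_eq, ← (mem_tB.1 hb).2 v hvZ, mul_inv_cancel_right]
  rw [← c.map_tJ L] at h1
  obtain ⟨j, hj, hje⟩ := h1
  have h2 : j⁻¹ * b ∈ tB T := mul_mem (inv_mem (tJ_le_tB T hj)) hb
  have h3 : j⁻¹ * b ∈ pCore p G := c.inf_cV_eq.le (Subgroup.mem_inf.2 ⟨(mem_tB.1 h2).1, by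
    rw [← qC_eq_one, map_mul, map_inv, hje, inv_mul_cancel]⟩)
  rw [← mul_inv_cancel_left j b]
  exact mul_mem (Subgroup.mem_sup_left hj) (Subgroup.mem_sup_right (Subgroup.mem_inf.2 ⟨h3, h2⟩))

theorem gZero_normal : (gZero T).Normal := by
  haveI := c.qZero_normal L
  unfold gZero; infer_instance

theorem gZero_inf_core : gZero T ⊓ pCore p G = qZero T := by
  refine le_antisymm (fun g hg => ?_) (le_inf le_sup_right inf_le_left)
  haveI := c.qZero_normal L
  obtain ⟨j, hj, q, hq, rfl⟩ := Subgroup.mem_sup_of_normal_right.1 hg.1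
  refine mul_mem (c.jG_inf_core L (Subgroup.mem_inf.2 ⟨hj, ?_⟩)) hq
  have := (pCore p G).mul_mem hg.2 ((pCore p G).inv_mem hq.1)
  rwa [mul_inv_cancel_right] at this

theorem tB_le_gZero : tB T ≤ gZero T := by
  rw [c.tB_eq L]; exact sup_le_sup_right (tJ_le_jG T) _

theorem map_tB : (tB T).map (qC p G) = offs (qAct p G) (T.mapSurjective qC_surjective) ⊤ := by
  rw [c.tB_eq L, Subgroup.map_sup, c.map_tJ L, sup_eq_left, Subgroup.map_le_iff_le_comap]
  intro q hq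
  rw [Subgroup.mem_comap, qC_eq_one.2 (core_le_cV hq.1)]
  exact one_mem _

theorem map_gZero : (gZero T).map (qC p G) = ⨆ i, E i := by
  rw [gZero, Subgroup.map_sup, c.map_jG L, sup_eq_left, Subgroup.map_le_iff_le_comap]
  intro q hq
  rw [Subgroup.mem_comap, qC_eq_one.2 (core_le_cV hq.1)]
  exact one_mem _

end Ctx

end CfsgLib.BlockPush
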