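import Cfsg.Agent.Lib.BlockPush.CoreFree

/-!
The blocks: their definition and what holds in both configurations.
-/

set_option autoImplicit false
set_option linter.unusedSectionVars false
set_option linter.style.haveILetI false

namespace CfsgLib.BlockPush

open Cfsg CfsgLib CfsgLib.RootCommute CfsgLib.RootBlocks
open CfsgLib.SL2Pair (fix)
open CfsgLib.StrongFusion (cm cm_cm cm_one cm_inv_cm cm_mono card_cm conj_mem_cm)
open scoped commutatorElement Pointwise

universe u v

theorem map_pResidualOf_map {P : Type u} [Group P] [Finite P] {Q : Type v} [Group Q] [Finite Q] {p : ℕ}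
    [Fact p.Prime] (f : P →* Q) (K : Subgroup P) : (pResidualOf p K).map f = pResidualOf p (K.map f) := by
  rw [pResidualOf, pResidualOf, Subgroup.map_map,
    ← PResidual.map_pResidual (p := p) (f := f.subgroupMap K) (f.subgroupMap_surjective K), Subgroup.map_map]
  rfl

section Kinds

variable {P : Type u} [Group P] [Finite P] {W : Type v} [AddCommGroup W] [Finite W] {p : ℕ} [hp : Fact p.Prime]
  {ρ : P →* AddMonoid.End W} {T : Sylow p P} {E : Subgroup P}

open Equiv in
/-- The elements of order prime to `p` are generated by their commutators with the offenders. -/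
theorem res_le_commutator_offs (h : IsSLKind ρ T E ∨ IsPermKind ρ T E) {X : Subgroup P}
    (hXle : X ≤ pResidualOf p E) (hn : E ≤ Subgroup.normalizer (X : Set P))
    (hX : ∀ g ∈ pResidualOf p E, ∀ u ∈ offs ρ T E, g * u * g⁻¹ * u⁻¹ ∈ X) : pResidualOf p E ≤ X := by
  have hXE : X ≤ E := hXle.trans (Subgroup.map_subtype_le _)
  haveI : (X.subgroupOf E).Normal := (Subgroup.normal_subgroupOf_iff_le_normalizer hXE).2 hn
  rcases h with ⟨F, iF, iF', n, e, ψ, hn', hcard, hch, -, -, -, -, hoffs⟩ |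
    ⟨n, e, ψ, μ, rfl, hn', -, -, -, hμ, -, hoffs⟩
  · haveI := hch
    set N := (X.subgroupOf E).map e.toMonoidHom with hN
    haveI : N.Normal := Subgroup.Normal.map inferInstance _ e.surjective
    rcases scalar_or_commutator_le N with hs | hc
    · exfalso
      -- the commutators with `uGrp` are scalar
      set D := commutator (Matrix.SpecialLinearGroup (Fin 2) F)
      have hcomm : ∀ d ∈ D, ∀ t : F, IsScal (d * PSL2.uSL t * d⁻¹ * (PSL2.uSL t)⁻¹) := fun d hd t => by
        refine hs _ ⟨e.symm d * e.symm (PSL2.uSL t) * (e.symm d)⁻¹ * (e.symm (PSL2.uSL t))⁻¹, ?_, by simp⟩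
        exact hX _ ((map_pResidualOf e).1 (by rwa [MulEquiv.apply_symm_apply, pResidual_sl p])) _
          ((hoffs _).2 (by rw [MulEquiv.apply_symm_apply]; exact uSL_mem t))
      have hDup : ∀ d ∈ D, d.1 1 0 = 0 := fun d hd => by
        by_contra h10
        obtain ⟨a, ha, hk⟩ := conj_uGrp_low h10
        set k := a * d with hk'
        have h1 := hcomm d hd 1
        -- conjugate by the upper element
        have h2 : IsScal (k * PSL2.uSL 1 * k⁻¹ * (PSL2.uSL 1)⁻¹) := by
          have e1 : k * PSL2.uSL 1 * k⁻¹ * (PSL2.uSL 1)⁻¹ = d * PSL2.uSL 1 * d⁻¹ * (PSL2.uSL 1)⁻¹ := by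
            calc k * PSL2.uSL 1 * k⁻¹ * (PSL2.uSL 1)⁻¹
                = a * (d * PSL2.uSL 1 * d⁻¹ * (PSL2.uSL 1)⁻¹) * (PSL2.uSL 1 * a⁻¹) * (PSL2.uSL 1)⁻¹ := by
                  rw [hk']; group
              _ = (d * PSL2.uSL 1 * d⁻¹ * (PSL2.uSL 1)⁻¹) * a * (a⁻¹ * PSL2.uSL 1) * (PSL2.uSL 1)⁻¹ := by
                  rw [h1.central a, uGrp_comm (uSL_mem 1) (inv_mem ha)]
              _ = _ := by group
          rw [e1]; exact h1
        have h3 := hk 1
        rw [h3] at h2
        have h4 := h2.2.1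
        simp [PSL2.coe_uSL, PSL2.coe_vSL, Matrix.mul_apply, Fin.sum_univ_two, Matrix.adjugate_fin_two] at h4
        exact h10 h4
      have hDv : ∀ d ∈ D, d ∈ (commutator (Matrix.SpecialLinearGroup (Fin 2) F)) := fun d hd => hd
      -- so the derived group is triangular
      have htop := derived_sup_uGrp (F := F)
      have hv : PSL2.vSL (1 : F) ∈ commutator (Matrix.SpecialLinearGroup (Fin 2) F) ⊔ uGrp :=
        htop ▸ Subgroup.mem_top _
      obtain ⟨d, hd, u, hu, e'⟩ := Subgroup.mem_sup_of_normal_left.1 hv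
      have e10 := congrFun (congrFun (congrArg Subtype.val e') 1) 0
      simp [PSL2.coe_vSL, Matrix.mul_apply, Fin.sum_univ_two, hu.1, hDup d hd] at e10
    · intro g hg
      obtain ⟨y, hy, hye⟩ := hc (pResidual_sl (F := F) p ▸
        (map_pResidualOf e (g := ⟨g, Subgroup.map_subtype_le _ hg⟩)).2 hg)
      have e' : (y : P) = g := congrArg Subtype.val (e.injective hye)
      rw [← e']; exact hy
  · set N := (X.subgroupOf E).map e.toMonoidHom with hN
    haveI : N.Normal := Subgroup.Normal.map inferInstance _ e.surjective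
    have hNA : N ≤ alternatingGroup (Fin (2 ^ n + 1)) := by
      rintro _ ⟨y, hy, rfl⟩
      rw [← pResidual_perm]
      exact (map_pResidualOf e).2 (hXle hy)
    have hcardα : Fintype.card (Fin (2 ^ n + 1)) = 2 ^ n + 1 := Fintype.card_fin _
    have h3 : 3 ≤ Fintype.card (Fin (2 ^ n + 1)) := by
      have := Nat.pow_le_pow_right (n := 2) two_pos hn'; omega
    haveI : Nontrivial (Fin (2 ^ n + 1)) := Fintype.one_lt_card_iff_nontrivial.1 (by omega)
    haveI : IsSimpleGroup (alternatingGroup (Fin (2 ^ n + 1))) := by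
      rcases eq_or_lt_of_le hn' with h | h
      · haveI : Fact (Nat.Prime 3) := ⟨Nat.prime_three⟩
        refine isSimpleGroup_of_prime_card (p := 3) ?_
        rw [nat_card_alternatingGroup, Nat.card_eq_fintype_card, hcardα, ← h]
        rfl
      · refine alternatingGroup.isSimpleGroup ?_
        rw [Nat.card_eq_fintype_card, hcardα]
        have := Nat.pow_le_pow_right (n := 2) two_pos h
        omega
    rcases (inferInstance : (N.subgroupOf (alternatingGroup (Fin (2 ^ n + 1)))).Normal).eq_bot_or_eq_top with hb | ht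
    · exfalso
      obtain ⟨a, ha⟩ : ∃ a, μ a ≠ a := by
        by_contra hno
        push Not at hno
        obtain ⟨a, b, hab⟩ := exists_pair_ne (Fin (2 ^ n + 1))
        exact hab (hμ.fixed a b (hno a) (hno b))
      obtain ⟨x, hxa, hxb⟩ : ∃ x, x ≠ a ∧ x ≠ μ a := by
        obtain ⟨x, -, hx⟩ := Finset.exists_mem_notMem_of_card_lt_card
          (lt_of_le_of_lt Finset.card_le_two (by rw [Finset.card_univ]; omega) : ({a, μ a} : Finset (Fin (2 ^ n + 1))).card < (Finset.univ : Finset (Fin (2 ^ n + 1))).card)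
        exact ⟨x, fun e => hx (by simp [e]), fun e => hx (by simp [e])⟩
      set g : Perm (Fin (2 ^ n + 1)) := swap a x * swap a (μ a) with hg
      have hgA : g ∈ alternatingGroup (Fin (2 ^ n + 1)) := Perm.mem_alternatingGroup.2 (by
        rw [hg, map_mul, Perm.sign_swap (Ne.symm hxa), Perm.sign_swap (Ne.symm ha)]; decide)
      have hmem : g * swap a (μ a) * g⁻¹ * (swap a (μ a))⁻¹ ∈ N := by
        refine ⟨e.symm g * e.symm (swap a (μ a)) * (e.symm g)⁻¹ * (e.symm (swap a (μ a)))⁻¹, ?_, by simp⟩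
        exact hX _ ((map_pResidualOf e).1 (by rwa [MulEquiv.apply_symm_apply, pResidual_perm])) _
          ((hoffs _).2 (by rw [MulEquiv.apply_symm_apply]; exact swap_mem_pairGrp μ a))
      have h1 : (⟨_, hNA hmem⟩ : alternatingGroup (Fin (2 ^ n + 1))) ∈ N.subgroupOf (alternatingGroup (Fin (2 ^ n + 1))) := hmem
      rw [hb, Subgroup.mem_bot] at h1
      have h2 := congrArg Subtype.val h1
      simp only [Subgroup.coe_one] at h2
      rw [mul_inv_eq_one, ← Equiv.swap_apply_apply] at h2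
      have e1 : g a = μ a := by
        rw [hg, Perm.mul_apply, swap_apply_left, swap_apply_of_ne_of_ne ha (Ne.symm hxb)]
      have e2 : g (μ a) = x := by rw [hg, Perm.mul_apply, swap_apply_right, swap_apply_left]
      rw [e1, e2] at h2
      have h4 := congrArg (fun s : Perm (Fin (2 ^ n + 1)) => s (μ a)) h2
      simp only [swap_apply_left, swap_apply_right] at h4
      exact hxa h4
    · intro g hg
      have hgA : e ⟨g, Subgroup.map_subtype_le _ hg⟩ ∈ alternatingGroup (Fin (2 ^ n + 1)) := by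
        rw [← pResidual_perm]; exact (map_pResidualOf e).2 hg
      obtain ⟨y, hy, hye⟩ := (ht.ge (Subgroup.mem_top (⟨_, hgA⟩ : alternatingGroup (Fin (2 ^ n + 1)))) : _ ∈ N.subgroupOf _)
      have e' : (y : P) = g := congrArg Subtype.val (e.injective hye)
      rw [← e']; exact hy

end Kinds

variable {G : Type u} [Group G] [Finite G] {p : ℕ} [hp : Fact p.Prime]

attribute [local instance] commGroupOf

/-- The preimage of a component in `J(G) C_Q(Z)`. -/
def kComp (T : Sylow p G) (E₀ : Subgroup (G ⧸ cV p G)) : Subgroup G := gZero T ⊓ E₀.comap (qC p G)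

/-- The block of a component. -/
def blk (T : Sylow p G) (E₀ : Subgroup (G ⧸ cV p G)) : Subgroup G := pResidualOf p (kComp T E₀)

/-- The preimage of the other components in `B(T)`. -/
noncomputable def nComp (T : Sylow p G) (E₀ : Subgroup (G ⧸ cV p G)) : Subgroup G :=
  tB T ⊓ (cosetStab (qAct p G) (fix (qAct p G) E₀)).comap (qC p G)

/-- The displacements of `V` by a component. -/
noncomputable def wComp (E₀ : Subgroup (G ⧸ cV p G)) : Subgroup G where
  carrier := {w | ∃ hw : w ∈ vQ p G, av hw ∈ img (qAct p G) E₀}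
  one_mem' := ⟨one_mem _, by
    rw [show av (p := p) (one_mem (vQ p G)) = 0 from rfl]; exact zero_mem _⟩
  mul_mem' := fun {a b} ⟨ha, ha'⟩ ⟨hb, hb'⟩ => ⟨mul_mem ha hb, by rw [← av_add ha hb]; exact add_mem ha' hb'⟩
  inv_mem' := fun {a} ⟨ha, ha'⟩ => ⟨inv_mem ha, by
    rw [show av (inv_mem ha) = -av ha from rfl]; exact neg_mem ha'⟩

theorem wComp_le_vQ (E₀ : Subgroup (G ⧸ cV p G)) : wComp E₀ ≤ vQ p G := fun _ ⟨hw, _⟩ => hw

theorem mem_wComp {E₀ : Subgroup (G ⧸ cV p G)} {w : G} (hw : w ∈ vQ p G) :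
    w ∈ wComp E₀ ↔ av hw ∈ img (qAct p G) E₀ := ⟨fun ⟨_, h⟩ => h, fun h => ⟨hw, h⟩⟩

theorem comm_mem_wComp {E₀ : Subgroup (G ⧸ cV p G)} {g v : G} (hg : qC p G g ∈ E₀) (hv : v ∈ vQ p G) :
    g * v * g⁻¹ * v⁻¹ ∈ wComp E₀ :=
  ⟨mul_mem (vQ_normal.conj_mem v hv g) (inv_mem hv), by rw [← sub_av g hv]; exact sub_mem_img _ hg _⟩

theorem normalizer_wComp {E₀ : Subgroup (G ⧸ cV p G)} {g : G} (hg : cm (qC p G g) E₀ = E₀) :
    g ∈ Subgroup.normalizer (wComp E₀ : Set G) := by
  refine ZJFailure.mem_normalizer_of_forall fun w ⟨hw, hw'⟩ => ⟨vQ_normal.conj_mem w hw g, ?_⟩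
  rw [← qAct_av g hw]
  have h := mem_img_cm (qAct p G) (g := qC p G g) hw'
  rwa [hg] at h

namespace Ctx

variable {T : Sylow p G} {M : Subgroup G} (c : Ctx T M)
include c
variable {r : ℕ} {E : Fin r → Subgroup (G ⧸ cV p G)}
  (L : Layout (qAct p G) (T.mapSurjective qC_surjective) (M.map (qC p G)) E)
include L

theorem mem_core_iff {g : G} : g ∈ pCore p G ↔ qC p G g = 1 := by
  rw [qC_eq_one, c.cV_eq_core L]

theorem kComp_map (i : Fin r) : (kComp T (E i)).map (qC p G) = E i := by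
  refine le_antisymm ((Subgroup.map_mono inf_le_right).trans (Subgroup.map_comap_le _ _)) fun x hx => ?_
  obtain ⟨g, hg, rfl⟩ := (c.map_gZero L).ge (le_iSup E i hx)
  exact ⟨g, Subgroup.mem_inf.2 ⟨hg, hx⟩, rfl⟩

theorem blk_le (i : Fin r) : blk T (E i) ≤ kComp T (E i) := Subgroup.map_subtype_le _

theorem blk_map (i : Fin r) : (blk T (E i)).map (qC p G) = pResidualOf p (E i) := by
  rw [blk, map_pResidualOf_map, c.kComp_map L]

theorem blk_image {i : Fin r} {g : G} (hg : g ∈ blk T (E i)) : qC p G g ∈ E i := (c.blk_le L i hg).2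

theorem mem_qZero_of_one {g : G} (hg : g ∈ gZero T) (h : qC p G g = 1) : g ∈ qZero T := by
  rw [← c.gZero_inf_core L]
  exact Subgroup.mem_inf.2 ⟨hg, (c.mem_core_iff L).2 h⟩

theorem mem_tB_of_offs {g : G} (hg : g ∈ gZero T)
    (h : qC p G g ∈ offs (qAct p G) (T.mapSurjective qC_surjective) ⊤) : g ∈ tB T := by
  obtain ⟨b, hb, hbe⟩ := (c.map_tB L).ge h
  have h1 := c.mem_qZero_of_one L (mul_mem (inv_mem (c.tB_le_gZero L hb)) hg)
    (by rw [map_mul, map_inv, hbe, inv_mul_cancel])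
  have := mul_mem hb h1.2
  rwa [mul_inv_cancel_left] at this

theorem qZero_le_kComp (i : Fin r) : qZero T ≤ kComp T (E i) := fun q hq => Subgroup.mem_inf.2
  ⟨c.tB_le_gZero L hq.2, by rw [Subgroup.mem_comap, (c.mem_core_iff L).1 hq.1]; exact one_mem _⟩

theorem kComp_le_sup (i : Fin r) : kComp T (E i) ≤ blk T (E i) ⊔ (kComp T (E i) ⊓ tB T) := by
  intro g hg
  have h1 := res_sup_offs (L.kind i) hg.2
  have hn : E i ≤ Subgroup.normalizer (pResidualOf p (E i) : Set (G ⧸ cV p G)) := L.res_normal i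
  rw [← SetLike.mem_coe, sup_comm, Subgroup.coe_mul_of_left_le_normalizer_right _ _
    ((fun _ hx => hn (offs_le hx).2) : offs (qAct p G) (T.mapSurjective qC_surjective) (E i) ≤ _)] at h1
  obtain ⟨a, ha, b, hb, hab⟩ := h1
  obtain ⟨k, hk, hkb⟩ := (c.blk_map L i).ge hb
  have h2 : g * k⁻¹ ∈ kComp T (E i) := mul_mem hg (inv_mem (c.blk_le L i hk))
  have h3 : g * k⁻¹ ∈ tB T := c.mem_tB_of_offs L h2.1 (L.offs_le_top i (by
    rw [map_mul, map_inv, ← hab, hkb]
    show a * b * b⁻¹ ∈ _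
    rwa [mul_inv_cancel_right]))
  rw [show g = (g * k⁻¹) * k by group]
  exact mul_mem (Subgroup.mem_sup_right (Subgroup.mem_inf.2 ⟨h2, h3⟩)) (Subgroup.mem_sup_left hk)

theorem offs_top_norm (i : Fin r) {b : G} (hb : b ∈ gZero T) : cm (qC p G b) (E i) = E i := by
  have h := L.norm i ((c.map_gZero L).le (Subgroup.mem_map_of_mem _ hb))
  exact Subgroup.mem_normalizer_iff_map_conj_eq.1 h

theorem kComp_normalizer (i : Fin r) {b : G} (hb : cm (qC p G b) (E i) = E i) :
    b ∈ Subgroup.normalizer (kComp T (E i) : Set G) := by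
  refine ZJFailure.mem_normalizer_of_forall fun x hx =>
    Subgroup.mem_inf.2 ⟨(c.gZero_normal L).conj_mem x hx.1 b, ?_⟩
  rw [Subgroup.mem_comap, map_mul, map_mul, map_inv, ← hb]
  exact conj_mem_cm hx.2

theorem blk_normalizer (i : Fin r) {b : G} (hb : cm (qC p G b) (E i) = E i) :
    b ∈ Subgroup.normalizer (blk T (E i) : Set G) := by
  refine ZJFailure.mem_normalizer_of_forall fun x hx => ?_
  have hle : blk T (E i) ≤ (blk T (E i)).comap (MulAut.conj b).toMonoidHom := BBlock.pResidualOf_le fun g hg hc =>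
    BBlock.mem_pResidualOf (Subgroup.mem_normalizer_iff.1 (c.kComp_normalizer L i hb) g |>.1 hg)
      (by rwa [MulEquiv.coe_toMonoidHom, MulEquiv.orderOf_eq])
  exact hle hx

theorem kComp_conj (g : G) (i : Fin r) : ∃ j, (kComp T (E i)).map (MulAut.conj g).toMonoidHom = kComp T (E j) := by
  obtain ⟨j, hj⟩ := L.perm_eq (qC p G g) i
  refine ⟨j, le_antisymm ?_ fun x hx => ?_⟩
  · rintro _ ⟨x, hx, rfl⟩
    refine Subgroup.mem_inf.2 ⟨(c.gZero_normal L).conj_mem x hx.1 g, ?_⟩
    show qC p G (g * x * g⁻¹) ∈ E j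
    rw [map_mul, map_mul, map_inv, ← hj]
    exact conj_mem_cm hx.2
  · refine ⟨g⁻¹ * x * g, Subgroup.mem_inf.2 ⟨?_, ?_⟩, by simp [mul_assoc]⟩
    · have := (c.gZero_normal L).conj_mem x hx.1 g⁻¹
      rwa [inv_inv] at this
    · rw [Subgroup.mem_comap, map_mul, map_mul, map_inv, ← RootCommute.mem_cm, hj]
      exact hx.2

theorem blk_conj (g : G) (i : Fin r) : ∃ j, (blk T (E i)).map (MulAut.conj g).toMonoidHom = blk T (E j) := by
  obtain ⟨j, hj⟩ := c.kComp_conj L g i
  exact ⟨j, by rw [blk, map_pResidualOf_map, hj]; rfl⟩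

theorem nComp_le (i : Fin r) : nComp T (E i) ≤ tB T := inf_le_left

theorem qZero_le_nComp (i : Fin r) : qZero T ≤ nComp T (E i) := fun q hq => Subgroup.mem_inf.2 ⟨hq.2, by
  rw [Subgroup.mem_comap, (c.mem_core_iff L).1 hq.1]; exact one_mem _⟩

theorem mem_nComp {i : Fin r} {g : G} :
    g ∈ nComp T (E i) ↔ g ∈ tB T ∧ IsPart (qAct p G) (E i) (qC p G g) 1 := by
  refine Subgroup.mem_inf.trans (and_congr_right fun _ => ⟨fun h => ⟨one_mem _, fun w => ?_⟩, fun h w => ?_⟩)
  · rw [act_one]; exact h w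
  · have := h.2 w; rwa [act_one] at this

/-- The image of an element of `B(T)` has its parts among the offenders. -/
theorem tB_part {i : Fin r} {b : G} (hb : b ∈ tB T) {a : G ⧸ cV p G} (ha : IsPart (qAct p G) (E i) (qC p G b) a) :
    a ∈ offs (qAct p G) (T.mapSurjective qC_surjective) (E i) :=
  L.part_offs ((c.map_tB L).le (Subgroup.mem_map_of_mem _ hb)) ha

theorem tB_image_mem {b : G} (hb : b ∈ tB T) : qC p G b ∈ ⨆ j, E j :=
  (c.map_gZero L).le (Subgroup.mem_map_of_mem _ (c.tB_le_gZero L hb))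

/-- `N_i` is normalized by the preimage of the component and by `B(T)`. -/
theorem nComp_normalizer (i : Fin r) {g : G} (hg : g ∈ gZero T)
    (hparts : ∀ j, j ≠ i → ∀ a, IsPart (qAct p G) (E j) (qC p G g) a →
      a ∈ offs (qAct p G) (T.mapSurjective qC_surjective) (E j)) :
    g ∈ Subgroup.normalizer (nComp T (E i) : Set G) := by
  refine ZJFailure.mem_normalizer_of_forall fun x hx => ?_
  obtain ⟨hxB, hxp⟩ := (c.mem_nComp L).1 hx
  have hgE := (c.map_gZero L).le (Subgroup.mem_map_of_mem (qC p G) hg)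
  have hxE := c.tB_image_mem L hxB
  have hg0 : g * x * g⁻¹ ∈ gZero T := (c.gZero_normal L).conj_mem x (c.tB_le_gZero L hxB) g
  have hpart : ∀ j, IsPart (qAct p G) (E j) (qC p G (g * x * g⁻¹))
      ((L.partHom j ⟨_, hgE⟩ : G ⧸ cV p G) * L.partHom j ⟨_, hxE⟩ * (L.partHom j ⟨_, hgE⟩ : G ⧸ cV p G)⁻¹) :=
    fun j => by
      rw [map_mul, map_mul, map_inv]
      exact L.part_mul (mul_mem hgE hxE) (L.part_mul hgE (L.isPart_partHom j _) (L.isPart_partHom j _))
        (L.part_inv hgE (L.isPart_partHom j _))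
  have h1 : ((L.partHom i ⟨_, hxE⟩ : ↥(E i)) : G ⧸ cV p G) = 1 := L.partHom_eq hxE hxp
  have hpi := hpart i
  rw [h1, mul_one, mul_inv_cancel] at hpi
  refine (c.mem_nComp L).2 ⟨c.mem_tB_of_offs L hg0
    (L.mem_offs_of_parts ((c.map_gZero L).le (Subgroup.mem_map_of_mem (qC p G) hg0)) fun j => ?_), hpi⟩
  by_cases hji : j = i
  · subst hji; rw [L.partHom_eq _ hpi]; exact one_mem _
  · rw [L.partHom_eq _ (hpart j)]
    have h2 := hparts j hji _ (L.isPart_partHom j ⟨_, hgE⟩)
    exact mul_mem (mul_mem h2 (c.tB_part L hxB (L.isPart_partHom j ⟨_, hxE⟩))) (inv_mem h2)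

theorem kComp_nComp (i : Fin r) : kComp T (E i) ≤ Subgroup.normalizer (nComp T (E i) : Set G) := fun g hg =>
  c.nComp_normalizer L i hg.1 fun j hji a ha => by
    rw [show a = 1 from L.part_unique ha (L.part_other (Ne.symm hji) hg.2)]; exact one_mem _

theorem tB_nComp (i : Fin r) : tB T ≤ Subgroup.normalizer (nComp T (E i) : Set G) := fun _ hb =>
  c.nComp_normalizer L i (c.tB_le_gZero L hb) fun _ _ _ ha => c.tB_part L hb ha

/-- The core of a block. -/
theorem pCoreOf_blk (i : Fin r) : pCoreOf p (blk T (E i)) = blk T (E i) ⊓ pCore p G := by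
  refine le_antisymm (le_inf (Subgroup.map_subtype_le _) ?_) fun x hx => ⟨⟨x, hx.1⟩, ?_, rfl⟩
  · set X := (pCoreOf p (blk T (E i))).map (qC p G) with hX
    have hXp : IsPGroup p X := ((isPGroup_pCore p).map _).map _
    have hn : E i ≤ Subgroup.normalizer (X : Set (G ⧸ cV p G)) := fun y hy => by
      obtain ⟨g, hg, rfl⟩ := (c.kComp_map L i).ge hy
      have hgN : g ∈ Subgroup.normalizer (blk T (E i) : Set G) :=
        c.blk_normalizer L i (Subgroup.mem_normalizer_iff_map_conj_eq.1 (Subgroup.le_normalizer hg.2))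
      refine ZJFailure.mem_normalizer_of_forall ?_
      rintro _ ⟨_, ⟨x, hx, rfl⟩, rfl⟩
      have hN := Subgroup.mem_normalizer_iff.1 hgN
      let φ : ↥(blk T (E i)) ≃* ↥(blk T (E i)) :=
        { toFun := fun x => ⟨g * x * g⁻¹, (hN x).1 x.2⟩
          invFun := fun x => ⟨g⁻¹ * x * g, (hN _).2 (by
            rw [show g * (g⁻¹ * (x : G) * g) * g⁻¹ = x by group]; exact x.2)⟩
          left_inv := fun x => Subtype.ext (show g⁻¹ * (g * (x : G) * g⁻¹) * g = x by group)
          right_inv := fun x => Subtype.ext (show g * (g⁻¹ * (x : G) * g) * g⁻¹ = x by group)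
          map_mul' := fun x y => Subtype.ext (show g * ((x : G) * y) * g⁻¹ = g * x * g⁻¹ * (g * y * g⁻¹) by group) }
      refine ⟨g * x * g⁻¹, ⟨φ x, ?_, rfl⟩, by simp⟩
      haveI : ((pCore p ↥(blk T (E i))).map φ.toMonoidHom).Normal :=
        (inferInstance : (pCore p ↥(blk T (E i))).Normal).map _ φ.surjective
      exact le_pCore ((isPGroup_pCore (G := ↥(blk T (E i))) p).map φ.toMonoidHom) ⟨x, hx, rfl⟩
    have hbot := L.no_core_comp i ((Subgroup.map_mono (Subgroup.map_subtype_le _)).trans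
      ((c.blk_map L i).le.trans (Subgroup.map_subtype_le _))) hXp hn
    intro x hx
    exact (c.mem_core_iff L).2 (Subgroup.mem_bot.1 (hbot ▸ Subgroup.mem_map_of_mem (qC p G) hx))
  · haveI : ((pCore p G).subgroupOf (blk T (E i))).Normal := inferInstance
    exact le_pCore ((isPGroup_pCore (G := G) p).comap_of_injective _ (blk T (E i)).subtype_injective) hx.2

theorem blk_core_le (i : Fin r) : blk T (E i) ⊓ pCore p G ≤ qZero T := fun x hx =>
  c.mem_qZero_of_one L (c.blk_le L i hx.1).1 ((c.mem_core_iff L).1 hx.2)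

/-- `[N_i, E] ≤ O_p(E)`. -/
theorem comm_nComp (i : Fin r) {n g : G} (hn : n ∈ nComp T (E i)) (hg : g ∈ blk T (E i)) :
    g * n * g⁻¹ * n⁻¹ ∈ blk T (E i) ⊓ pCore p G := by
  obtain ⟨hnB, hnp⟩ := (c.mem_nComp L).1 hn
  have hnN := c.blk_normalizer L i (c.offs_top_norm L i (c.tB_le_gZero L hnB))
  have hmem : g * n * g⁻¹ * n⁻¹ ∈ blk T (E i) := by
    rw [show g * n * g⁻¹ * n⁻¹ = g * (n * g⁻¹ * n⁻¹) by group]
    exact mul_mem hg ((Subgroup.mem_normalizer_iff.1 hnN _).1 (inv_mem hg))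
  refine Subgroup.mem_inf.2 ⟨hmem, (c.mem_core_iff L).2 ?_⟩
  have hgE := le_iSup E i (c.blk_image L hg)
  have hnE := c.tB_image_mem L hnB
  have hp1 := L.part_mul (mul_mem (mul_mem hgE hnE) (inv_mem hgE)) (L.part_mul (mul_mem hgE hnE)
    (L.part_mul hgE (L.part_self (c.blk_image L hg)) hnp) (L.part_inv hgE (L.part_self (c.blk_image L hg))))
    (L.part_inv hnE hnp)
  rw [mul_one, mul_inv_cancel, inv_one, mul_one] at hp1
  refine L.part_unique (L.part_self (c.blk_image L hmem)) ?_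
  rw [map_mul, map_mul, map_mul, map_inv, map_inv]
  exact hp1

/-- An element of order prime to `p` of the component moves `X` only inside `W_i`. -/
theorem comm_xQ {i : Fin r} {g x : G} (hg : qC p G g ∈ E i) (hc : (orderOf g).Coprime p) (hx : x ∈ xQ T) :
    g * x * g⁻¹ * x⁻¹ ∈ wComp (E i) := by
  have hd := c.jG_xQ L (c.mem_jG_of_coprime L hc) hx
  refine push_down' (q := x) (normalizer_wComp (Subgroup.mem_normalizer_iff_map_conj_eq.1 (Subgroup.le_normalizer hg)))
    (normalizer_wComp ?_) hc (show g * x * g⁻¹ = (g * x * g⁻¹ * x⁻¹) * x by group)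
    ⟨1, by rw [pow_one, vQ_pow hd]; exact one_mem _⟩ (comm_mem_wComp hg hd)
  rw [(c.mem_core_iff L).1 (c.xQ_le_core L hx)]
  exact cm_one _

/-- `W_i` comes from commutators with the block. -/
theorem wComp_le_commutator (i : Fin r) : wComp (E i) ≤ ⁅wComp (E i), blk T (E i)⁆ := by
  rintro w ⟨hw, hw'⟩
  set Z := ⁅wComp (E i), blk T (E i)⁆ with hZ
  have hZV : ∀ {z}, z ∈ Z → z ∈ vQ p G := fun {z} hz => by
    have hle : Z ≤ vQ p G := Subgroup.commutator_le.2 fun a ha b _ => by
      rw [commutatorElement_def, show a * b * a⁻¹ * b⁻¹ = a * (b * a⁻¹ * b⁻¹) by group]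
      exact mul_mem (wComp_le_vQ _ ha) (vQ_normal.conj_mem _ (inv_mem (wComp_le_vQ _ ha)) b)
    exact hle hz
  let S : AddSubgroup (Additive ↥(vQ p G)) :=
    { carrier := {x | ∃ z, ∃ hz : z ∈ Z, x = av (hZV hz)}
      zero_mem' := ⟨1, one_mem _, rfl⟩
      add_mem' := by
        rintro _ _ ⟨a, ha, rfl⟩ ⟨b, hb, rfl⟩
        exact ⟨a * b, mul_mem ha hb, av_add _ _⟩
      neg_mem' := by
        rintro _ ⟨a, ha, rfl⟩
        exact ⟨a⁻¹, inv_mem ha, rfl⟩ }
  have hle : img (qAct p G) (E i) ≤ S := by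
    refine (L.img_le_img_res i).trans ((RootCommute.img_le _).2 fun a ha x => ?_)
    obtain ⟨g, hg, rfl⟩ := (c.blk_map L i).ge ha
    obtain ⟨f, hf, u, hu, rfl⟩ := AddSubgroup.mem_sup.1 ((fix_sup_img L.sum L.other i).ge (AddSubgroup.mem_top x))
    obtain ⟨v, hv, rfl⟩ := exists_av u
    rw [map_add, hf _ (Subgroup.map_subtype_le _ ha), add_sub_add_left_eq_sub]
    refine ⟨⁅g, v⁆, ?_, ?_⟩
    · rw [hZ, Subgroup.commutator_comm]
      exact Subgroup.commutator_mem_commutator hg ⟨hv, hu⟩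
    · rw [sub_av g hv, av_eq, commutatorElement_def]
  obtain ⟨z, hz, he⟩ := hle hw'
  rw [av_eq.1 he]; exact hz

theorem wComp_le_blk (i : Fin r) : wComp (E i) ≤ blk T (E i) := by
  refine (c.wComp_le_commutator L i).trans (Subgroup.commutator_le.2 fun w hw g hg => ?_)
  rw [commutatorElement_def]
  refine mul_mem ((Subgroup.mem_normalizer_iff.1 (c.blk_normalizer L i ?_) g).1 hg) (inv_mem hg)
  rw [(c.mem_core_iff L).1 (vQ_le_core (wComp_le_vQ _ hw))]
  exact cm_one _

theorem wComp_le_qComp (i : Fin r) : wComp (E i) ≤ blk T (E i) ⊓ pCore p G :=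
  le_inf (c.wComp_le_blk L i) ((wComp_le_vQ _).trans vQ_le_core)

/-- A block is generated by its commutators with `B(T)` inside the preimage of its component. -/
theorem blk_commutator (i : Fin r) : ⁅blk T (E i), kComp T (E i) ⊓ tB T⁆ = blk T (E i) := by
  set B' := kComp T (E i) ⊓ tB T with hB'
  set X := ⁅blk T (E i), B'⁆ with hX
  have hK : kComp T (E i) ≤ Subgroup.normalizer (blk T (E i) : Set G) := fun g hg =>
    c.blk_normalizer L i (Subgroup.mem_normalizer_iff_map_conj_eq.1 (Subgroup.le_normalizer hg.2))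
  have hXle : X ≤ blk T (E i) := Subgroup.le_normalizer_iff_commutator_le_left.1 (inf_le_left.trans hK)
  refine le_antisymm hXle ?_
  have hXn : kComp T (E i) ≤ Subgroup.normalizer (X : Set G) := (c.kComp_le_sup L i).trans
    (sup_le (Subgroup.normalizer_commutator_ge_left _ _) (Subgroup.normalizer_commutator_ge_right _ _))
  have himg : pResidualOf p (E i) ≤ X.map (qC p G) := by
    refine res_le_commutator_offs (L.kind i) ((Subgroup.map_mono hXle).trans (c.blk_map L i).le) (fun y hy => ?_)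
      fun y hy u hu => ?_
    · obtain ⟨g, hg, rfl⟩ := (c.kComp_map L i).ge hy
      refine ZJFailure.mem_normalizer_of_forall ?_
      rintro _ ⟨x, hx, rfl⟩
      exact ⟨g * x * g⁻¹, (Subgroup.mem_normalizer_iff.1 (hXn hg) x).1 hx, by simp⟩
    · obtain ⟨g, hg, rfl⟩ := (c.blk_map L i).ge hy
      obtain ⟨k, hk, rfl⟩ := (c.kComp_map L i).ge (offs_le hu).2
      exact ⟨⁅g, k⁆, Subgroup.commutator_mem_commutator hg
        (Subgroup.mem_inf.2 ⟨hk, c.mem_tB_of_offs L hk.1 (L.offs_le_top i hu)⟩), by simp [commutatorElement_def]⟩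
  haveI hXn' : (X.subgroupOf (blk T (E i))).Normal :=
    (Subgroup.normal_subgroupOf_iff_le_normalizer hXle).2 (Subgroup.normalizer_commutator_ge_left _ _)
  intro g hg
  have hker : IsPGroup p (↥(blk T (E i)) ⧸ X.subgroupOf (blk T (E i))) := by
    intro y
    induction y using QuotientGroup.induction_on with
    | _ y =>
      obtain ⟨x, hx, hxy⟩ := himg ((c.blk_map L i).le (Subgroup.mem_map_of_mem _ y.2))
      have hq : x⁻¹ * (y : G) ∈ blk T (E i) ⊓ pCore p G := Subgroup.mem_inf.2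
        ⟨mul_mem (inv_mem (hXle hx)) y.2, (c.mem_core_iff L).2 (by rw [map_mul, map_inv, hxy, inv_mul_cancel])⟩
      obtain ⟨k, hk⟩ := isPGroup_pCore (G := G) p ⟨_, hq.2⟩
      have e : QuotientGroup.mk' (X.subgroupOf (blk T (E i))) y =
          QuotientGroup.mk' (X.subgroupOf (blk T (E i))) ⟨x⁻¹ * (y : G), hq.1⟩ := by
        rw [QuotientGroup.mk'_eq_mk']
        refine ⟨⟨(y : G)⁻¹ * (x⁻¹ * y), mul_mem (inv_mem y.2) hq.1⟩, ?_, Subtype.ext (by simp)⟩
        show (y : G)⁻¹ * (x⁻¹ * y) ∈ X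
        have h2 := (Subgroup.mem_normalizer_iff.1 (Subgroup.normalizer_commutator_ge_left _ _ (inv_mem y.2)) _).1
          (inv_mem hx)
        rwa [inv_inv, mul_assoc] at h2
      refine ⟨k, ?_⟩
      show (QuotientGroup.mk' (X.subgroupOf (blk T (E i))) y) ^ p ^ k = 1
      rw [e, ← map_pow]
      refine (QuotientGroup.eq_one_iff _).2 ?_
      show (x⁻¹ * (y : G)) ^ p ^ k ∈ X
      rw [show (x⁻¹ * (y : G)) ^ p ^ k = 1 from congrArg Subtype.val hk]
      exact one_mem _
  exact (QuotientGroup.eq_one_iff (⟨g, hg⟩ : ↥(blk T (E i)))).1 (hom_eq_one_of_pResidualOf (pResidualOf_idem _) hker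
    (QuotientGroup.mk' (X.subgroupOf (blk T (E i)))) ⟨g, hg⟩)

theorem blk_commutator_tB (i : Fin r) : ⁅blk T (E i), tB T⁆ = blk T (E i) := by
  refine le_antisymm (Subgroup.le_normalizer_iff_commutator_le_left.1 fun b hb =>
    c.blk_normalizer L i (c.offs_top_norm L i (c.tB_le_gZero L hb))) ?_
  conv_lhs => rw [← c.blk_commutator L i]
  exact Subgroup.commutator_mono le_rfl inf_le_right

end Ctx

end CfsgLib.BlockPush
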