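import Mathlib
import Cfsg.Agent.Lib.PResidual

/-!
A cover of a symmetric group in which the lifts of the transpositions of one pairing commute with a suitable element
splits over the subgroup generated by the elements of odd order.
-/

set_option autoImplicit false
set_option linter.unusedSectionVars false
set_option linter.style.haveILetI false

namespace CfsgLib.BlockPush

open Equiv Equiv.Perm CfsgLib
open scoped commutatorElement

universe u v

variable {α : Type u} [Fintype α] [DecidableEq α]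

theorem exists_perm_two {x y u w : α} (hxy : x ≠ y) (huw : u ≠ w) : ∃ g : Perm α, g x = u ∧ g y = w := by
  refine ⟨swap (swap x u y) w * swap x u, ?_, ?_⟩
  · rw [Perm.mul_apply, swap_apply_left, swap_apply_of_ne_of_ne ?_ huw]
    intro e
    exact hxy ((swap x u).injective (by rw [swap_apply_left]; exact e))
  · rw [Perm.mul_apply, swap_apply_left]

theorem exists_perm_four {x y x' y' a b a' b' : α} (h : x ≠ y) (h' : x' ≠ y') (hx : x' ≠ x ∧ x' ≠ y)
    (hy : y' ≠ x ∧ y' ≠ y) (k : a ≠ b) (k' : a' ≠ b') (ka : a' ≠ a ∧ a' ≠ b) (kb : b' ≠ a ∧ b' ≠ b) :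
    ∃ g : Perm α, g x = a ∧ g y = b ∧ g x' = a' ∧ g y' = b' := by
  obtain ⟨g, hgx, hgy⟩ := exists_perm_two h k
  have e1 : g x' ≠ a := hgx ▸ g.injective.ne hx.1
  have e2 : g x' ≠ b := hgy ▸ g.injective.ne hx.2
  set g1 := swap (g x') a' * g with hg1
  have h1x : g1 x = a := by rw [hg1, Perm.mul_apply, hgx, swap_apply_of_ne_of_ne e1.symm ka.1.symm]
  have h1y : g1 y = b := by rw [hg1, Perm.mul_apply, hgy, swap_apply_of_ne_of_ne e2.symm ka.2.symm]
  have h1x' : g1 x' = a' := by rw [hg1, Perm.mul_apply, swap_apply_left]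
  have f1 : g1 y' ≠ a := h1x ▸ g1.injective.ne hy.1
  have f2 : g1 y' ≠ b := h1y ▸ g1.injective.ne hy.2
  have f3 : g1 y' ≠ a' := h1x' ▸ g1.injective.ne h'.symm
  refine ⟨swap (g1 y') b' * g1, ?_, ?_, ?_, ?_⟩
  · rw [Perm.mul_apply, h1x, swap_apply_of_ne_of_ne f1.symm kb.1.symm]
  · rw [Perm.mul_apply, h1y, swap_apply_of_ne_of_ne f2.symm kb.2.symm]
  · rw [Perm.mul_apply, h1x', swap_apply_of_ne_of_ne f3.symm k']
  · rw [Perm.mul_apply, swap_apply_left]

/-- What holds for the transpositions avoiding two points, and is multiplicative, holds for what fixes them. -/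
theorem fixing_induction {x y : α} {C : Perm α → Prop} (h1 : C 1)
    (hs : ∀ u w σ, u ≠ w → u ≠ x ∧ u ≠ y → w ≠ x ∧ w ≠ y → σ x = x → σ y = y → C σ → C (swap u w * σ))
    {σ : Perm α} (hx : σ x = x) (hy : σ y = y) : C σ := by
  have key : ∀ τ : Perm {z // z ≠ x ∧ z ≠ y}, C (Perm.ofSubtype τ) := by
    intro τ
    induction τ using Equiv.Perm.swap_induction_on with
    | one => rw [map_one]; exact h1
    | swap_mul f u w huw hf =>
      rw [map_mul, Perm.ofSubtype_swap_eq]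
      exact hs u w _ (fun e => huw (Subtype.ext e)) u.2 w.2
        (Perm.ofSubtype_apply_of_not_mem f fun h => h.1 rfl) (Perm.ofSubtype_apply_of_not_mem f fun h => h.2 rfl) hf
  have hp : ∀ z, (σ z ≠ x ∧ σ z ≠ y) ↔ (z ≠ x ∧ z ≠ y) := fun z => by
    constructor
    · exact fun h => ⟨fun e => h.1 (by rw [e, hx]), fun e => h.2 (by rw [e, hy])⟩
    · exact fun h => ⟨fun e => h.1 (σ.injective (e.trans hx.symm)), fun e => h.2 (σ.injective (e.trans hy.symm))⟩
  have e : Perm.ofSubtype (σ.subtypePerm hp) = σ := Perm.ofSubtype_subtypePerm (p := fun z => z ≠ x ∧ z ≠ y) hp fun z hz =>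
    ⟨fun e => hz (by rw [e, hx]), fun e => hz (by rw [e, hy])⟩
  exact e ▸ key _

variable {Y : Type v} [Group Y]

theorem comm_congr {π : Y →* Perm α} (hN : ∀ z ∈ π.ker, ∀ g, z * g = g * z) {a b a' b' : Y} (ha : π a = π a')
    (hb : π b = π b') : ⁅a, b⁆ = ⁅a', b'⁆ := by
  have key : ∀ s t : Y, π s = π t → ∃ z ∈ π.ker, s = z * t := fun s t e =>
    ⟨s * t⁻¹, by rw [MonoidHom.mem_ker, map_mul, map_inv, e, mul_inv_cancel], by rw [inv_mul_cancel_right]⟩
  obtain ⟨z, hz, rfl⟩ := key a a' ha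
  obtain ⟨z', hz', rfl⟩ := key b b' hb
  simp only [commutatorElement_def]
  calc z * a' * (z' * b') * (z * a')⁻¹ * (z' * b')⁻¹
      = z * (a' * z') * b' * a'⁻¹ * z⁻¹ * b'⁻¹ * z'⁻¹ := by group
    _ = z * (z' * (a' * b' * a'⁻¹)) * z⁻¹ * b'⁻¹ * z'⁻¹ := by rw [← hN z' hz' a']; group
    _ = (z' * (a' * b' * a'⁻¹)) * z * z⁻¹ * b'⁻¹ * z'⁻¹ := by rw [hN z hz (z' * (a' * b' * a'⁻¹))]
    _ = z' * (a' * b' * a'⁻¹ * b'⁻¹) * z'⁻¹ := by group
    _ = a' * b' * a'⁻¹ * b'⁻¹ := by rw [hN z' hz', mul_inv_cancel_right]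

/-- A conjugation-invariant choice of lifts of the transpositions. -/
theorem exists_section {π : Y →* Perm α} (hsurj : Function.Surjective π) (hN : ∀ z ∈ π.ker, ∀ g, z * g = g * z)
    {x₀ y₀ : α} (h₀ : x₀ ≠ y₀) {a : Y} (ha : π a = swap x₀ y₀)
    (hcomm : ∀ b u w, u ≠ x₀ ∧ u ≠ y₀ → w ≠ x₀ ∧ w ≠ y₀ → π b = swap u w → a * b = b * a) :
    ∃ d : α → α → Y, (∀ x y, x ≠ y → π (d x y) = swap x y ∧ ∃ g, d x y = g * a * g⁻¹) ∧
      ∀ g x y, x ≠ y → g * d x y * g⁻¹ = d (π g x) (π g y) := by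
  have hstab : ∀ g, π g x₀ = x₀ → π g y₀ = y₀ → g * a * g⁻¹ = a := by
    have key : ∀ σ : Perm α, σ x₀ = x₀ → σ y₀ = y₀ → ∀ g, π g = σ → g * a * g⁻¹ = a := by
      intro σ hx hy
      refine fixing_induction (x := x₀) (y := y₀) (C := fun σ => ∀ g, π g = σ → g * a * g⁻¹ = a) ?_ ?_ hx hy
      · intro g hg
        rw [hN g (MonoidHom.mem_ker.2 hg), mul_inv_cancel_right]
      · intro u w σ huw hu hw _ _ ih g hg
        obtain ⟨b, hb⟩ := hsurj (swap u w)
        have h1 := ih (b⁻¹ * g) (by rw [map_mul, map_inv, hb, hg, inv_mul_cancel_left])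
        calc g * a * g⁻¹ = b * (b⁻¹ * g * a * (b⁻¹ * g)⁻¹) * b⁻¹ := by group
          _ = a := by rw [h1, ← hcomm b u w hu hw hb, mul_inv_cancel_right]
    exact fun g hx hy => key (π g) hx hy g rfl
  have hex : ∀ x y, ∃ g, x ≠ y → π g x₀ = x ∧ π g y₀ = y := fun x y => by
    by_cases h : x = y
    · exact ⟨1, fun hne => absurd h hne⟩
    · obtain ⟨s, hs⟩ := exists_perm_two h₀ h
      obtain ⟨g, rfl⟩ := hsurj s
      exact ⟨g, fun _ => hs⟩
  choose G hG using hex
  refine ⟨fun x y => G x y * a * (G x y)⁻¹, fun x y h => ⟨?_, _, rfl⟩, fun g x y h => ?_⟩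
  · show π (G x y * a * (G x y)⁻¹) = _
    rw [map_mul, map_mul, map_inv, ha, ← Equiv.swap_apply_apply, (hG x y h).1, (hG x y h).2]
  · have h' : π g x ≠ π g y := (π g).injective.ne h
    set G' := G (π g x) (π g y) with hG'
    have h1 := hstab (G'⁻¹ * (g * G x y))
      (by rw [map_mul, map_inv, map_mul, Perm.mul_apply, Perm.mul_apply, (hG x y h).1, Perm.inv_eq_iff_eq,
        (hG _ _ h').1])
      (by rw [map_mul, map_inv, map_mul, Perm.mul_apply, Perm.mul_apply, (hG x y h).2, Perm.inv_eq_iff_eq,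
        (hG _ _ h').2])
    calc g * (G x y * a * (G x y)⁻¹) * g⁻¹ = G' * (G'⁻¹ * (g * G x y) * a * (G'⁻¹ * (g * G x y))⁻¹) * G'⁻¹ := by
          group
      _ = G' * a * G'⁻¹ := by rw [h1]

/-- The lifts generate a subgroup meeting the kernel in the powers of their square. -/
theorem section_kernel {π : Y →* Perm α} (hN : ∀ z ∈ π.ker, ∀ g, z * g = g * z) {d : α → α → Y}
    (hd : ∀ x y, x ≠ y → π (d x y) = swap x y) (hconj : ∀ g x y, x ≠ y → g * d x y * g⁻¹ = d (π g x) (π g y))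
    {c : Y} (hc : π c = 1) (hsq : ∀ x y, x ≠ y → d x y * d x y = c) {z : Y}
    (hz : z ∈ Subgroup.closure {t | ∃ x y, x ≠ y ∧ t = d x y}) (hz1 : π z = 1) : z ∈ Subgroup.zpowers c := by
  classical
  have hsymm : ∀ x y, x ≠ y → d x y = d y x := fun x y h => by
    have h1 := hconj (d x y) x y h
    rwa [hd x y h, swap_apply_left, swap_apply_right, mul_inv_cancel_right] at h1
  let Hs : Finset α → Subgroup Y := fun S =>
    Subgroup.closure (insert c {t | ∃ x ∈ S, ∃ y ∈ S, x ≠ y ∧ t = d x y})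
  suffices H : ∀ S : Finset α, ∀ g ∈ Hs S, π g = 1 → g ∈ Subgroup.zpowers c by
    refine H Finset.univ z (Subgroup.closure_mono ?_ hz) hz1
    rintro t ⟨x, y, h, rfl⟩
    exact Or.inr ⟨x, Finset.mem_univ _, y, Finset.mem_univ _, h, rfl⟩
  intro S
  induction S using Finset.induction_on with
  | empty =>
    intro g hg _
    rw [Subgroup.zpowers_eq_closure]
    refine Subgroup.closure_mono ?_ hg
    rintro t (rfl | ⟨x, hx, -⟩)
    · rfl
    · simp at hx
  | insert k S hk ih =>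
    have hfix : ∀ h ∈ Hs S, π h k = k := by
      intro h hh
      induction hh using Subgroup.closure_induction with
      | mem t ht =>
        rcases ht with rfl | ⟨x, hx, y, hy, hxy, rfl⟩
        · rw [hc]; rfl
        · rw [hd x y hxy, swap_apply_of_ne_of_ne (fun e => hk (by rwa [e])) fun e => hk (by rwa [e])]
      | one => rw [map_one]; rfl
      | mul a b _ _ ea eb => rw [map_mul, Perm.mul_apply, eb, ea]
      | inv a _ ea => rw [map_inv, Perm.inv_eq_iff_eq, ea]
    have hcH : c ∈ Hs S := Subgroup.subset_closure (Or.inl rfl)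
    have hgen : ∀ {x y}, x ∈ S → y ∈ S → x ≠ y → d x y ∈ Hs S := fun hx hy h =>
      Subgroup.subset_closure (Or.inr ⟨_, hx, _, hy, h, rfl⟩)
    let C : Set Y := {g | g ∈ Hs S ∨ ∃ i ∈ S, ∃ h ∈ Hs S, g = d i k * h}
    have hCc : ∀ e ∈ Subgroup.zpowers c, ∀ g ∈ C, e * g ∈ C := by
      intro e he g hg
      have heH : e ∈ Hs S := (Subgroup.zpowers_le.2 hcH) he
      have hek : e ∈ π.ker := (Subgroup.zpowers_le.2 (MonoidHom.mem_ker.2 hc)) he
      rcases hg with hg | ⟨i, hi, h, hh, rfl⟩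
      · exact Or.inl (mul_mem heH hg)
      · exact Or.inr ⟨i, hi, e * h, mul_mem heH hh, by rw [← mul_assoc, hN e hek (d i k), mul_assoc]⟩
    have hCd : ∀ x ∈ insert k S, ∀ y ∈ insert k S, x ≠ y → ∀ g ∈ C, d x y * g ∈ C := by
      have main : ∀ i ∈ S, ∀ g ∈ C, d i k * g ∈ C := by
        intro i hi g hg
        rcases hg with hg | ⟨j, hj, h, hh, rfl⟩
        · exact Or.inr ⟨i, hi, g, hg, rfl⟩
        have hik : i ≠ k := fun e => hk (e ▸ hi)
        have hjk : j ≠ k := fun e => hk (e ▸ hj)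
        by_cases hij : i = j
        · subst hij
          rw [← mul_assoc, hsq i k hik]
          exact Or.inl (mul_mem hcH hh)
        · refine Or.inr ⟨j, hj, d i j * h, mul_mem (hgen hi hj hij) hh, ?_⟩
          have h1 := hconj (d j k)⁻¹ i k hik
          rw [inv_inv, map_inv, hd j k hjk, swap_inv, swap_apply_of_ne_of_ne hij hik, swap_apply_right] at h1
          rw [← h1]; group
      intro x hx y hy hxy g hg
      rcases Finset.mem_insert.1 hx with rfl | hx'
      · rw [hsymm x y hxy]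
        exact main y ((Finset.mem_insert.1 hy).resolve_left hxy.symm) g hg
      rcases Finset.mem_insert.1 hy with rfl | hy'
      · exact main x hx' g hg
      rcases hg with hg | ⟨i, hi, h, hh, rfl⟩
      · exact Or.inl (mul_mem (hgen hx' hy' hxy) hg)
      · have hik : i ≠ k := fun e => hk (e ▸ hi)
        have h1 := hconj (d x y) i k hik
        rw [hd x y hxy, swap_apply_of_ne_of_ne (fun e : k = x => hk (e ▸ hx')) fun e : k = y => hk (e ▸ hy')] at h1
        refine Or.inr ⟨swap x y i, ?_, d x y * h, mul_mem (hgen hx' hy' hxy) hh, ?_⟩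
        · rw [swap_apply_def]; split_ifs <;> assumption
        · rw [← h1]; group
    have hclo : ∀ g ∈ Hs (insert k S), g ∈ C := by
      intro g hg
      induction hg using Subgroup.closure_induction_left with
      | one => exact Or.inl (one_mem _)
      | mul_left t ht y _ hy =>
        rcases ht with rfl | ⟨x, hx, w, hw, hxw, rfl⟩
        · exact hCc _ (Subgroup.mem_zpowers _) y hy
        · exact hCd x hx w hw hxw y hy
      | inv_mul_cancel t ht y _ hy =>
        rcases ht with rfl | ⟨x, hx, w, hw, hxw, rfl⟩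
        · exact hCc _ (inv_mem (Subgroup.mem_zpowers _)) y hy
        · have e : (d x w)⁻¹ = c⁻¹ * d x w := by rw [← hsq x w hxw]; group
          rw [e, mul_assoc]
          exact hCc _ (inv_mem (Subgroup.mem_zpowers _)) _ (hCd x hx w hw hxw y hy)
    intro g hg hg1
    have hgC := hclo g hg
    rcases hgC with h | ⟨i, hi, h, hh, rfl⟩
    · exact ih g h hg1
    · exfalso
      have h1 : π (d i k * h) k = k := by rw [hg1]; rfl
      have hik : i ≠ k := fun e => hk (e ▸ hi)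
      rw [map_mul, Perm.mul_apply, hfix h hh, hd i k hik, swap_apply_right] at h1
      exact hik h1

/-- The lifts of one transposition generate the symmetric group. -/
theorem map_closure_section {π : Y →* Perm α} {d : α → α → Y} (hd : ∀ x y, x ≠ y → π (d x y) = swap x y) :
    (Subgroup.closure {t | ∃ x y, x ≠ y ∧ t = d x y}).map π = ⊤ := by
  rw [MonoidHom.map_closure, eq_top_iff, ← Equiv.Perm.closure_isSwap]
  refine Subgroup.closure_mono ?_
  rintro s ⟨x, y, hxy, rfl⟩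
  exact ⟨d x y, ⟨x, y, hxy, rfl⟩, hd x y hxy⟩

/-- **A central cover with commuting lifts of disjoint transpositions splits over its elements of odd order.** -/
theorem central_lift [Finite Y] {π : Y →* Perm α} (hsurj : Function.Surjective π)
    (hN : ∀ z ∈ π.ker, ∀ g, z * g = g * z) (hp : IsPGroup 2 π.ker) {x₀ y₀ : α} (h₀ : x₀ ≠ y₀) {a : Y}
    (ha : π a = swap x₀ y₀)
    (hcomm : ∀ b u w, u ≠ x₀ ∧ u ≠ y₀ → w ≠ x₀ ∧ w ≠ y₀ → π b = swap u w → a * b = b * a)
    {z : Y} (hz : z ∈ π.ker) (hzr : z ∈ Cfsg.pResidual 2 Y) : z = 1 := by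
  have ha2 : a ^ 2 ∈ π.ker := by rw [MonoidHom.mem_ker, map_pow, ha, pow_two, swap_mul_self]
  obtain ⟨s, hs⟩ := hp ⟨a ^ 2, ha2⟩
  have hs' : (a ^ 2) ^ 2 ^ s = 1 := congrArg Subtype.val hs
  let M := 2 ^ (s + 1)
  haveI : NeZero M := ⟨pow_ne_zero _ two_ne_zero⟩
  let C := Multiplicative (ZMod M)
  let π' : Y × C →* Perm α := π.comp (MonoidHom.fst Y C)
  let a' : Y × C := (a, Multiplicative.ofAdd 1)
  have hN' : ∀ z ∈ π'.ker, ∀ g, z * g = g * z := fun z hz g => Prod.ext (hN z.1 hz g.1) (mul_comm z.2 g.2)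
  have hsurj' : Function.Surjective π' := fun x => let ⟨y, hy⟩ := hsurj x; ⟨(y, 1), hy⟩
  obtain ⟨d, hd, hconj⟩ := exists_section hsurj' hN' h₀ (a := a') ha fun b u w hu hw hb =>
    Prod.ext (hcomm b.1 u w hu hw hb) (mul_comm _ _)
  have hd1 := fun x y h => (hd x y h).1
  have hc1 : π' (a' * a') = 1 := by
    rw [map_mul]; show π a * π a = 1; rw [ha, swap_mul_self]
  have hsq : ∀ x y, x ≠ y → d x y * d x y = a' * a' := fun x y h => by
    obtain ⟨g, hg⟩ := (hd x y h).2
    rw [hg, show g * a' * g⁻¹ * (g * a' * g⁻¹) = g * (a' * a') * g⁻¹ by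
      simp only [mul_assoc, inv_mul_cancel_left],
      ← hN' _ (MonoidHom.mem_ker.2 hc1) g, mul_inv_cancel_right]
  set H := Subgroup.closure {t | ∃ x y, x ≠ y ∧ t = d x y} with hH
  have hodd : Cfsg.pResidual 2 Y ≤ H.comap (MonoidHom.inl Y C) := by
    refine (Subgroup.closure_le _).2 fun r hr => ?_
    obtain ⟨h, hh, he⟩ : π r ∈ H.map π' := by rw [map_closure_section hd1]; trivial
    set n : Y × C := h⁻¹ * (r, 1) with hn
    have hnk : n ∈ π'.ker := by
      rw [MonoidHom.mem_ker, hn, map_mul, map_inv, he]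
      exact inv_mul_cancel _
    have hn1 : n.1 ∈ π.ker := hnk
    obtain ⟨k, hk⟩ := hp ⟨n.1, hn1⟩
    have hnpow : n ^ 2 ^ (k + (s + 1)) = 1 := by
      refine Prod.ext ?_ ?_
      · show n.1 ^ 2 ^ (k + (s + 1)) = 1
        rw [pow_add, pow_mul, show n.1 ^ 2 ^ k = 1 from congrArg Subtype.val hk, one_pow]
      · show n.2 ^ 2 ^ (k + (s + 1)) = 1
        rw [add_comm, pow_add, pow_mul, show n.2 ^ 2 ^ (s + 1) = 1 from ?_, one_pow]
        have h2 := pow_card_eq_one (x := n.2)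
        rwa [Fintype.card_multiplicative, ZMod.card] at h2
    refine PResidual.mem_of_pow_mem (p := 2) hr (k := k + (s + 1)) ?_
    show ((r ^ 2 ^ (k + (s + 1)), 1) : Y × C) ∈ H
    rw [show ((r ^ 2 ^ (k + (s + 1)), 1) : Y × C) = (h * n) ^ 2 ^ (k + (s + 1)) by
      rw [hn, mul_inv_cancel_left, Prod.pow_mk, one_pow],
      (show Commute h n from (hN' n hnk h).symm).mul_pow, hnpow, mul_one]
    exact pow_mem hh _
  obtain ⟨j, hj⟩ := Subgroup.mem_zpowers_iff.1 (section_kernel hN' hd1 hconj hc1 hsq (hodd hzr) hz)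
  have hj1 : (a * a) ^ j = z := congrArg Prod.fst hj
  have hj2 : (Multiplicative.ofAdd (1 : ZMod M) * Multiplicative.ofAdd 1) ^ j = 1 := congrArg Prod.snd hj
  have hj3 : ((2 * j : ℤ) : ZMod M) = 0 := by
    have h2 := congrArg Multiplicative.toAdd hj2
    simp at h2
    push_cast
    linear_combination h2
  rw [ZMod.intCast_zmod_eq_zero_iff_dvd] at hj3
  obtain ⟨l, hl⟩ := hj3
  have hj4 : j = (2 ^ s : ℕ) * l := by
    have : (M : ℤ) = 2 * (2 ^ s : ℕ) := by simp [M, pow_succ, mul_comm]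
    rw [this] at hl
    linarith
  rw [← hj1, hj4, ← pow_two, zpow_mul, zpow_natCast, hs', one_zpow]

variable {X : Type v} [Group X] [Finite X]

/-- **The cover.** -/
theorem sym_lift (π : X →* Perm α) (hsurj : Function.Surjective π) (hp : IsPGroup 2 π.ker)
    (hA : ∀ n ∈ π.ker, ∀ g ∈ Cfsg.pResidual 2 X, n * g = g * n)
    (hZ : ∀ z ∈ π.ker, z ∈ Cfsg.pResidual 2 X → ∀ g, z * g = g * z)
    {x y u v : α} (hxy : x ≠ y) (huv : u ≠ v) (hu : u ≠ x ∧ u ≠ y) (hv : v ≠ x ∧ v ≠ y)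
    (a₁ : X) (hax : π a₁ x = y) (hay : π a₁ y = x) (hau : π a₁ u = u) (hav : π a₁ v = v)
    (hcomm : ∀ t, π t = swap x y ∨ π t = swap u v → a₁ * t = t * a₁) :
    π.ker ⊓ Cfsg.pResidual 2 X = ⊥ := by
  classical
  set A₀ := Cfsg.pResidual 2 X with hA₀
  haveI : A₀.Normal := PResidual.pResidual_normal
  obtain ⟨a, ha⟩ := hsurj (swap x y)
  set Y := A₀ ⊔ Subgroup.zpowers a with hY
  have haY : a ∈ Y := Subgroup.mem_sup_right (Subgroup.mem_zpowers a)
  have hAmap : alternatingGroup α ≤ A₀.map π := by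
    rw [hA₀, PResidual.map_pResidual hsurj, ← Equiv.Perm.closure_three_cycles_eq_alternating]
    exact Subgroup.closure_mono fun g hg => by
      show (orderOf g).Coprime 2
      rw [Equiv.Perm.IsThreeCycle.orderOf hg]; decide
  have hAsign : ∀ e ∈ A₀, Perm.sign (π e) = 1 := by
    intro e he
    have h1 : A₀ ≤ (Perm.sign.comp π).ker := (Subgroup.closure_le _).2 fun g hg => by
      rw [SetLike.mem_coe, MonoidHom.mem_ker]
      rcases Int.units_eq_one_or ((Perm.sign.comp π) g) with h | h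
      · exact h
      · exfalso
        have h2 := orderOf_map_dvd (Perm.sign.comp π) g
        have h4 : orderOf (-1 : ℤˣ) = 2 := orderOf_eq_prime (by decide) (by decide)
        rw [h, h4] at h2
        exact absurd (Nat.eq_one_of_dvd_coprimes (Nat.coprime_comm.1 hg) dvd_rfl h2) (by decide)
    exact h1 he
  have htrans : ∀ {x' y' : α}, x' ≠ y' → ∃ e ∈ A₀, π e * swap x y * (π e)⁻¹ = swap x' y' := by
    intro x' y' h'
    obtain ⟨g, hgx, hgy⟩ := exists_perm_two hxy h'
    have hc : g * swap x y * g⁻¹ = swap x' y' := by rw [← Equiv.swap_apply_apply, hgx, hgy]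
    rcases Int.units_eq_one_or (Perm.sign g) with hs | hs
    · obtain ⟨e, he, hee⟩ := hAmap (Perm.mem_alternatingGroup.2 hs)
      exact ⟨e, he, by rw [hee, hc]⟩
    · obtain ⟨e, he, hee⟩ := hAmap (Perm.mem_alternatingGroup.2
        (show Perm.sign (g * swap x y) = 1 by rw [map_mul, hs, Perm.sign_swap hxy]; decide))
      exact ⟨e, he, by rw [hee, ← hc]; group⟩
  have hlift : ∀ {x' y' : α}, x' ≠ y' → ∃ e ∈ A₀, π (e * a * e⁻¹) = swap x' y' := fun h => by
    obtain ⟨e, he, hee⟩ := htrans h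
    exact ⟨e, he, by rw [map_mul, map_mul, map_inv, ha, hee]⟩
  have hconjY : ∀ {e}, e ∈ A₀ → e * a * e⁻¹ ∈ Y := fun he =>
    mul_mem (mul_mem (Subgroup.mem_sup_left he) haY) (inv_mem (Subgroup.mem_sup_left he))
  have hYtop : Y.map π = ⊤ := by
    rw [eq_top_iff, ← Equiv.Perm.closure_isSwap, Subgroup.closure_le]
    rintro s ⟨x', y', h, rfl⟩
    obtain ⟨e, he, hee⟩ := hlift h
    exact ⟨_, hconjY he, hee⟩
  -- the kernel on `Y` is central
  have hYker : ∀ z ∈ π.ker, z ∈ Y → ∀ g ∈ Y, z * g = g * z := by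
    intro z hz hzY g hg
    obtain ⟨e, he, w, hw, rfl⟩ := Subgroup.mem_sup_of_normal_left.1 hzY
    obtain ⟨k, rfl⟩ := Subgroup.mem_zpowers_iff.1 hw
    have hk : Even k := by
      have h1 : Perm.sign (π (e * a ^ k)) = 1 := by rw [MonoidHom.mem_ker.1 hz, map_one]
      rw [map_mul, map_mul, hAsign e he, one_mul, map_zpow, map_zpow, ha, Perm.sign_swap hxy] at h1
      by_contra hne
      rw [Int.not_even_iff_odd.1 hne |>.neg_one_zpow] at h1
      exact absurd h1 (by decide)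
    obtain ⟨l, rfl⟩ := hk
    have hak : a ^ (l + l) ∈ π.ker := by
      rw [MonoidHom.mem_ker, map_zpow, ha, zpow_add, ← (Commute.refl (swap x y)).mul_zpow, swap_mul_self, one_zpow]
    have hek : e ∈ π.ker := by
      have := mul_mem hz (inv_mem hak)
      rwa [mul_inv_cancel_right] at this
    have h2 : Commute (a ^ (l + l)) g := by
      have h3 : Y ≤ Subgroup.centralizer {a ^ (l + l)} := sup_le
        (fun w hw => Subgroup.mem_centralizer_singleton_iff.2 (hA _ hak w hw).symm)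
        (Subgroup.zpowers_le.2 (Subgroup.mem_centralizer_singleton_iff.2
          ((Commute.refl a).zpow_right (l + l)).eq))
      exact (Subgroup.mem_centralizer_singleton_iff.1 (h3 hg)).symm
    exact ((show Commute e g from hZ e hek he g).mul_left h2).eq
  set πY : ↥Y →* Perm α := π.comp Y.subtype with hπY
  have hYsurj : Function.Surjective πY := fun s => by
    obtain ⟨w, hw, rfl⟩ := hYtop.ge (Subgroup.mem_top s)
    exact ⟨⟨w, hw⟩, rfl⟩
  have hYN : ∀ z ∈ πY.ker, ∀ g, z * g = g * z := fun z hz g => Subtype.ext (hYker z hz z.2 g g.2)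
  have hYp : IsPGroup 2 πY.ker := fun z => by
    obtain ⟨k, hk⟩ := hp ⟨((z : ↥Y) : X), z.2⟩
    exact ⟨k, Subtype.ext (Subtype.ext (by simpa using congrArg Subtype.val hk))⟩
  -- lifts of disjoint transpositions
  obtain ⟨e₁, he₁, ht₁⟩ := hlift huv
  let tP : ↥Y := ⟨a, haY⟩
  let tQ : ↥Y := ⟨_, hconjY he₁⟩
  have hP : πY tP = swap x y := ha
  have hQ : πY tQ = swap u v := ht₁
  set ζ := ⁅tQ, tP⁆ with hζ
  have hker1 : ∀ w s, π w * π s = π s * π w → ⁅w, s⁆ ∈ π.ker := fun w s h => by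
    rw [MonoidHom.mem_ker, map_commutatorElement, commutatorElement_eq_one_iff_mul_comm.2 h]
  have hdisj : ∀ {x' y' u' v' : α}, x' ≠ y' → u' ≠ v' → u' ≠ x' ∧ u' ≠ y' → v' ≠ x' ∧ v' ≠ y' →
      ∀ b t : ↥Y, πY b = swap u' v' → πY t = swap x' y' → ⁅b, t⁆ = ζ := by
    intro x' y' u' v' h1 h2 h3 h4 b t hb ht
    obtain ⟨g, g1, g2, g3, g4⟩ := exists_perm_four hxy huv hu hv h1 h2 h3 h4
    obtain ⟨w, rfl⟩ := hYsurj g
    have e1 : πY (w * tP * w⁻¹) = πY t := by
      rw [map_mul, map_mul, map_inv, hP, ← Equiv.swap_apply_apply, g1, g2, ht]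
    have e2 : πY (w * tQ * w⁻¹) = πY b := by
      rw [map_mul, map_mul, map_inv, hQ, ← Equiv.swap_apply_apply, g3, g4, hb]
    rw [← comm_congr hYN e2 e1, ← conjugate_commutatorElement, ← hζ]
    have hζk : ζ ∈ πY.ker := by
      rw [MonoidHom.mem_ker, hζ, map_commutatorElement, hP, hQ]
      refine commutatorElement_eq_one_iff_mul_comm.2 (Equiv.Perm.Disjoint.commute ?_).eq
      intro z
      by_cases hz : z = u ∨ z = v
      · right; rcases hz with rfl | rfl
        · exact swap_apply_of_ne_of_ne hu.1 hu.2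
        · exact swap_apply_of_ne_of_ne hv.1 hv.2
      · left; push Not at hz; exact swap_apply_of_ne_of_ne hz.1 hz.2
    rw [← hYN ζ hζk w, mul_inv_cancel_right]
  have hζ2 : ζ * ζ = 1 := by
    have h1 := hdisj huv hxy ⟨hu.1.symm, hv.1.symm⟩ ⟨hu.2.symm, hv.2.symm⟩ tP tQ hP hQ
    rw [mul_eq_one_iff_eq_inv]
    conv_rhs => rw [hζ, commutatorElement_inv, h1]
  -- the value on an element fixing a pair
  have hval : ∀ {x' y' : α}, x' ≠ y' → ∀ {σ : Perm α}, σ x' = x' → σ y' = y' → ∀ w t : ↥Y, πY w = σ →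
      πY t = swap x' y' → ⁅w, t⁆ = if Perm.sign σ = 1 then 1 else ζ := by
    intro x' y' h' σ hσx hσy
    refine fixing_induction (x := x') (y := y')
      (C := fun σ => ∀ w t : ↥Y, πY w = σ → πY t = swap x' y' → ⁅w, t⁆ = if Perm.sign σ = 1 then 1 else ζ)
      ?_ ?_ hσx hσy
    · intro w t hw _
      rw [if_pos (map_one _)]
      exact commutatorElement_eq_one_iff_mul_comm.2 (hYN w (MonoidHom.mem_ker.2 hw) t)
    · intro u' v' σ huv' hu' hv' _ _ ih w t hw ht
      obtain ⟨b, hb⟩ := hYsurj (swap u' v')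
      have h1 := ih (b⁻¹ * w) t (by rw [map_mul, map_inv, hb, hw, inv_mul_cancel_left]) ht
      have h2 := hdisj h' huv' hu' hv' b t hb ht
      have hζc : ∀ g, ζ * g = g * ζ := fun g => by
        refine hYN ζ ?_ g
        rw [MonoidHom.mem_ker, hζ, map_commutatorElement, hP, hQ, ← hQ, ← hP, ← map_commutatorElement]
        exact MonoidHom.mem_ker.1 (hker1 (tQ : X) (tP : X) (by
          show π _ * π _ = _
          rw [show π (tQ : X) = swap u v from hQ, show π (tP : X) = swap x y from hP]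
          refine (Equiv.Perm.Disjoint.commute ?_).eq
          intro z
          by_cases hz : z = u ∨ z = v
          · right; rcases hz with rfl | rfl
            · exact swap_apply_of_ne_of_ne hu.1 hu.2
            · exact swap_apply_of_ne_of_ne hv.1 hv.2
          · left; push Not at hz; exact swap_apply_of_ne_of_ne hz.1 hz.2))
      have e : ⁅w, t⁆ = b * ⁅b⁻¹ * w, t⁆ * b⁻¹ * ⁅b, t⁆ := by simp only [commutatorElement_def]; group
      rw [e, h1, h2, map_mul, Perm.sign_swap huv']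
      rcases Int.units_eq_one_or (Perm.sign σ) with hs | hs
      · rw [hs, if_pos rfl, if_neg (by decide), mul_one, mul_inv_cancel, one_mul]
      · rw [hs, if_neg (by decide), if_pos (by decide), ← hζc b, mul_inv_cancel_right, hζ2]
  -- the two pairs against `a₁`
  obtain ⟨y₁, hy₁, hye⟩ := hYtop.ge (Subgroup.mem_top (π a₁))
  set w : ↥Y := tP⁻¹ * ⟨y₁, hy₁⟩ with hw
  set σ := swap x y * π a₁ with hσ
  have hwσ : πY w = σ := by
    rw [hw, map_mul, map_inv, hP, swap_inv]; exact congrArg (swap x y * ·) hye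
  have hσx : σ x = x := by rw [hσ, Perm.mul_apply, hax, swap_apply_right]
  have hσy : σ y = y := by rw [hσ, Perm.mul_apply, hay, swap_apply_left]
  have hσu : σ u = u := by rw [hσ, Perm.mul_apply, hau, swap_apply_of_ne_of_ne hu.1 hu.2]
  have hσv : σ v = v := by rw [hσ, Perm.mul_apply, hav, swap_apply_of_ne_of_ne hv.1 hv.2]
  set χ := (if Perm.sign σ = 1 then 1 else ζ : ↥Y) with hχ
  have hχc : ∀ g, χ * g = g * χ := by
    intro g
    rw [hχ]
    split_ifs
    · rw [one_mul, mul_one]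
    · refine hYN ζ ?_ g
      have h1 : πY tQ * πY tP = πY tP * πY tQ := by
        rw [hP, hQ]
        refine (Equiv.Perm.Disjoint.commute ?_).eq
        intro z
        by_cases hz : z = u ∨ z = v
        · right; rcases hz with rfl | rfl
          · exact swap_apply_of_ne_of_ne hu.1 hu.2
          · exact swap_apply_of_ne_of_ne hv.1 hv.2
        · left; push Not at hz; exact swap_apply_of_ne_of_ne hz.1 hz.2
      rw [MonoidHom.mem_ker, hζ, map_commutatorElement, commutatorElement_eq_one_iff_mul_comm.2 h1]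
  have c1 : ⁅(⟨y₁, hy₁⟩ : ↥Y), tP⁆ = χ := by
    have h1 : ⁅w, tP⁆ = χ := hval hxy hσx hσy w tP hwσ hP
    rw [show (⟨y₁, hy₁⟩ : ↥Y) = tP * w by rw [hw, mul_inv_cancel_left],
      show ⁅tP * w, tP⁆ = tP * ⁅w, tP⁆ * tP⁻¹ by simp only [commutatorElement_def]; group, h1, ← hχc,
      mul_inv_cancel_right]
  have c2 : ⁅(⟨y₁, hy₁⟩ : ↥Y), tQ⁆ = χ * ζ := by
    have h1 : ⁅w, tQ⁆ = χ := hval huv hσu hσv w tQ hwσ hQ
    have h2 : ⁅tP, tQ⁆ = ζ := hdisj huv hxy ⟨hu.1.symm, hv.1.symm⟩ ⟨hu.2.symm, hv.2.symm⟩ tP tQ hP hQ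
    rw [show (⟨y₁, hy₁⟩ : ↥Y) = tP * w by rw [hw, mul_inv_cancel_left],
      show ⁅tP * w, tQ⁆ = tP * ⁅w, tQ⁆ * tP⁻¹ * ⁅tP, tQ⁆ by simp only [commutatorElement_def]; group, h1, ← hχc,
      mul_inv_cancel_right, h2]
  set q := y₁⁻¹ * a₁ with hq
  have hqk : q ∈ π.ker := by rw [MonoidHom.mem_ker, hq, map_mul, map_inv, hye, inv_mul_cancel]
  have hη : ⁅q, (tQ : X)⁆ = ⁅q, a⁆ := by
    have hqa : ⁅q, a⁆ ∈ π.ker := by
      rw [MonoidHom.mem_ker, map_commutatorElement, MonoidHom.mem_ker.1 hqk]; simp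
    show ⁅q, e₁ * a * e₁⁻¹⁆ = _
    calc ⁅q, e₁ * a * e₁⁻¹⁆ = e₁ * ⁅e₁⁻¹ * q * e₁, a⁆ * e₁⁻¹ := by simp only [commutatorElement_def]; group
      _ = e₁ * ⁅q, a⁆ * e₁⁻¹ := by rw [mul_assoc e₁⁻¹, hA q hqk e₁ he₁, inv_mul_cancel_left]
      _ = _ := by rw [← hA _ hqa e₁ he₁, mul_inv_cancel_right]
  have hsplit : ∀ t : X, ⁅a₁, t⁆ = y₁ * ⁅q, t⁆ * y₁⁻¹ * ⁅y₁, t⁆ := fun t => by
    simp only [commutatorElement_def, hq]; group
  have k1 : y₁ * ⁅q, a⁆ * y₁⁻¹ * (χ : X) = 1 := by
    have h1 := hsplit a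
    rw [commutatorElement_eq_one_iff_mul_comm.2 (hcomm a (Or.inl ha))] at h1
    rw [h1, ← c1]; rfl
  have k2 : y₁ * ⁅q, a⁆ * y₁⁻¹ * ((χ * ζ : ↥Y) : X) = 1 := by
    have h1 := hsplit (tQ : X)
    have h0 : ⁅a₁, (tQ : X)⁆ = 1 := commutatorElement_eq_one_iff_mul_comm.2 (hcomm (tQ : X) (Or.inr hQ))
    rw [h0, hη] at h1
    rw [h1, ← c2]; rfl
  have hζ1 : ζ = 1 := by
    have h1 : (χ : X) = ((χ * ζ : ↥Y) : X) := mul_left_cancel (k1.trans k2.symm)
    exact mul_eq_left.1 (Subtype.ext h1).symm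
  -- conclusion
  refine (Subgroup.eq_bot_iff_forall _).2 fun z hz => ?_
  have hresY : A₀ ≤ (Cfsg.pResidual 2 ↥Y).map Y.subtype := (Subgroup.closure_le _).2 fun g hg =>
    ⟨⟨g, Subgroup.mem_sup_left (Subgroup.subset_closure hg)⟩,
      Subgroup.subset_closure (by rwa [Set.mem_setOf_eq, Subgroup.orderOf_mk]), rfl⟩
  obtain ⟨z', hz', hzz⟩ := hresY hz.2
  have h1 := central_lift hYsurj hYN hYp hxy (a := tP) hP (fun b u' w' hu' hw' hb => by
    have huw : u' ≠ w' ∨ u' = w' := (em (u' = w')).symm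
    rcases huw with huw | huw
    · have h2 := hdisj hxy huw hu' hw' b tP hb hP
      rw [hζ1, commutatorElement_eq_one_iff_mul_comm] at h2
      exact h2.symm
    · subst huw
      rw [swap_self] at hb
      exact (hYN b (MonoidHom.mem_ker.2 hb) tP).symm) (z := z')
    (show π (z' : X) = 1 by rw [show ((z' : ↥Y) : X) = z from hzz]; exact hz.1) hz'
  rw [← hzz, h1]; rfl

end CfsgLib.BlockPush
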