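import Cfsg.Agent.Lib.BlockPush.BlockDefs
import Cfsg.Agent.Lib.BlockPush.SymLift
import Cfsg.Agent.Lib.TransferRoot.Factor

/-!
A component in the short configuration: the core of its block is `W_i`.
-/

set_option autoImplicit false
set_option linter.unusedSectionVars false
set_option linter.style.haveILetI false

namespace CfsgLib.BlockPush

open Cfsg CfsgLib CfsgLib.RootCommute CfsgLib.RootBlocks Matrix Equiv CfsgLib.SymSylow
open CfsgLib.SL2Pair (fix)
open CfsgLib.StrongFusion (cm cm_cm cm_one cm_inv_cm cm_mono card_cm conj_mem_cm)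
open scoped commutatorElement Pointwise

universe u

variable {G : Type u} [Group G] [Finite G] {p : ℕ} [hp : Fact p.Prime]

attribute [local instance] commGroupOf

/-- The short configuration at a component. -/
def OneAt (T : Sylow p G) {r : ℕ} (E : Fin r → Subgroup (G ⧸ cV p G)) (i : Fin r) : Prop :=
  ∃ (H : Subgroup G) (R : Subgroup (G ⧸ cV p G)) (S : Sylow p ↥H), Local T E i H R S ∧
    ∃ (F : Type) (_ : Field F) (_ : Fintype F) (_ : CharP F p) (f : ↥H →* Matrix.ProjectiveSpecialLinearGroup (Fin 2) F)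
      (T' A : Subgroup ↥H), OneS S A ∧ PushUp.Opp ⊤ (pCore p ↥H) (S : Subgroup ↥H) T' ∧
        (∃ g : ↥H, T' = PushUp.cj g (S : Subgroup ↥H)) ∧ PushUp.Coords p F (pCore p ↥H) (S : Subgroup ↥H) T' f

namespace Ctx

variable {T : Sylow p G} {M : Subgroup G} (c : Ctx T M)
include c
variable {r : ℕ} {E : Fin r → Subgroup (G ⧸ cV p G)}
  (L : Layout (qAct p G) (T.mapSurjective qC_surjective) (M.map (qC p G)) E)
include L

/-- Every component is in one of the two configurations. -/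
theorem one_or_two (i : Fin r) : OneAt T E i ∨ TwoAt T E i := by
  obtain ⟨H, R, S, hs, hRE, hJR, hpart, F, iF, iF', n, f, T', -, -, hch, hopp, ⟨g, rfl⟩, hco⟩ := c.exists_supp L i
  have hl : Local T E i H R S := ⟨hs, hRE, hJR, hpart⟩
  rcases dichotomyS hs.setting hs.noChar ⟨g, hopp⟩ with ⟨A, hA⟩ | ⟨T'', X, Y, A, C, D, h2⟩
  · exact Or.inl ⟨H, R, S, hl, F, iF, iF', hch, f, _, A, hA, hopp, ⟨g, rfl⟩, hco⟩
  · obtain ⟨f', hco'⟩ := PushUp.exists_coords_of hs.setting hs.uniq_max f hco.surj h2.opp h2.conj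
    exact Or.inr ⟨H, R, S, hl, F, iF, iF', hch, f', T'', X, Y, A, C, D, h2, hco'⟩

theorem quiet_of_oneAt {i : Fin r} (h : OneAt T E i) : Quiet p G := by
  obtain ⟨H, R, S, hl, F, _, _, _, f, T', A, hA, -⟩ := h
  exact c.quiet_of_one L hl hA

variable {i : Fin r} {H : Subgroup G} {R : Subgroup (G ⧸ cV p G)} {S : Sylow p ↥H}

theorem nComp_le_core (hl : Local T E i H R S) {n : ↥H} (hn : (n : G) ∈ nComp T (E i)) : n ∈ pCore p ↥H := by
  have hle : nComp T (E i) ≤ H := (c.nComp_le L i).trans hl.supp.tB_le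
  haveI : ((nComp T (E i)).subgroupOf H).Normal :=
    (Subgroup.normal_subgroupOf_iff_le_normalizer hle).2 fun h hh =>
      c.nComp_normalizer L i (hl.supp.le_gZero hh) fun j hji a ha =>
        hl.part _ (hl.supp.map_eq ▸ Subgroup.mem_map_of_mem _ hh) a j hji ha
  exact le_pCore (p := p) (N := (nComp T (E i)).subgroupOf H)
    ((T.2.to_le ((c.nComp_le L i).trans (tB_le T))).comap_of_injective _ H.subtype_injective) hn

/-- `B(T)` moves the module of the component only inside `W_i`. -/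
theorem vmod_tB (hl : Local T E i H R S) {v : ↥H} (hv : v ∈ PushUp.vmod S) {b : G} (hb : b ∈ tB T) :
    b * v * b⁻¹ * (v : G)⁻¹ ∈ wComp (E i) := by
  have hs := hl.supp.setting
  have hd := hl.supp.noChar.mild hs
  obtain ⟨z, hz, w, hw, e⟩ := c.xQ_eq L (c.vmod_le_xQ L hl hv)
  have hzw : ∀ y, y ∈ tB T → y * (z * w) * y⁻¹ * (z * w)⁻¹ = y * w * y⁻¹ * w⁻¹ := fun y hy => by
    have h1 : y * z = z * y := ((mem_tB.1 hy).2 z hz).symm
    have hcv : z * (y * w * y⁻¹ * w⁻¹) = (y * w * y⁻¹ * w⁻¹) * z :=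
      (c.xQ_comm L (tZ_le_xQ T hz) (vQ_le_xQ T (mul_mem (vQ_normal.conj_mem w hw y) (inv_mem hw)))).1
    calc y * (z * w) * y⁻¹ * (z * w)⁻¹ = (y * z) * w * y⁻¹ * w⁻¹ * z⁻¹ := by group
      _ = z * (y * w * y⁻¹ * w⁻¹) * z⁻¹ := by rw [h1]; group
      _ = _ := by rw [hcv, mul_inv_cancel_right]
  have hfix : ∀ n ∈ nComp T (E i), qAct p G (qC p G n) (av hw) = av hw := fun n hn => by
    have hnB := c.nComp_le L i hn
    have h1 := (PushUp.vmod_mdl hs hd).cent v hv ⟨n, hl.supp.tB_le hnB⟩ (c.nComp_le_core L hl hn)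
    have h2 : n * (v : G) * n⁻¹ * (v : G)⁻¹ = 1 := by
      rw [show n * (v : G) = (v : G) * n from congrArg Subtype.val h1, mul_inv_cancel_right, mul_inv_cancel]
    rw [e, hzw n hnB, mul_inv_eq_one] at h2
    rw [qAct_av, av_eq]; exact h2
  have hbE := c.tB_image_mem L hb
  set a := L.partHom i ⟨_, hbE⟩ with ha
  have haJ := c.tB_part L hb (L.isPart_partHom i ⟨_, hbE⟩)
  obtain ⟨k, hk, hka⟩ := (c.kComp_map L i).ge a.2
  have hkB : k ∈ tB T := c.mem_tB_of_offs L hk.1 (by rw [hka]; exact L.offs_le_top i haJ)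
  have hrest : k⁻¹ * b ∈ nComp T (E i) := by
    refine (c.mem_nComp L).2 ⟨mul_mem (inv_mem hkB) hb, ?_⟩
    have h := L.part_mul (inv_mem (le_iSup E i a.2)) (L.part_inv (le_iSup E i a.2) (L.part_self a.2))
      (L.isPart_partHom i ⟨_, hbE⟩)
    rw [← ha, inv_mul_cancel] at h
    rwa [map_mul, map_inv, hka]
  rw [e, hzw b hb]
  have hkw := comm_mem_wComp (E₀ := E i) (g := k) (by rw [hka]; exact a.2) hw
  have e2 : b * w * b⁻¹ * w⁻¹ = k * ((k⁻¹ * b) * w * (k⁻¹ * b)⁻¹ * w⁻¹) * k⁻¹ * (k * w * k⁻¹ * w⁻¹) := by group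
  have h3 : (k⁻¹ * b) * w * (k⁻¹ * b)⁻¹ * w⁻¹ = 1 := by
    have := hfix _ hrest
    rw [qAct_av, av_eq] at this
    rw [this, mul_inv_cancel]
  rwa [e2, h3, mul_one, mul_inv_cancel, one_mul]

/-- The block moves `N_i` only inside `W_i`. -/
theorem comm_nComp_wComp (hq : Quiet p G) {g n : G} (hg : g ∈ blk T (E i)) (hn : n ∈ nComp T (E i)) :
    g * n * g⁻¹ * n⁻¹ ∈ wComp (E i) := by
  have hnN : n ∈ Subgroup.normalizer (wComp (E i) : Set G) :=
    normalizer_wComp (c.offs_top_norm L i (c.tB_le_gZero L (c.nComp_le L i hn)))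
  have hgen : ∀ g ∈ kComp T (E i), (orderOf g).Coprime p → ∀ n ∈ nComp T (E i),
      g * n * g⁻¹ * n⁻¹ ∈ wComp (E i) := by
    intro g hg hc n hn
    set d := g * n * g⁻¹ * n⁻¹ with hd
    have hdQ : d ∈ pCore p G := (c.comm_nComp L i hn (BBlock.mem_pResidualOf hg hc)).2
    have hdq : g * n * g⁻¹ = d * n := by rw [hd]; group
    have hdp : ∀ X : Subgroup G, ∃ k : ℕ, d ^ p ^ k ∈ X := fun X => by
      obtain ⟨k, hk⟩ := isPGroup_pCore (G := G) p ⟨d, hdQ⟩
      exact ⟨k, by rw [show d ^ p ^ k = 1 from congrArg Subtype.val hk]; exact one_mem _⟩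
    have hdV : d ∈ vQ p G := PushUp.push_down hc hdq (hdp _) (hq g hc d hdQ)
    exact push_down' (normalizer_wComp (Subgroup.mem_normalizer_iff_map_conj_eq.1 (Subgroup.le_normalizer hg.2)))
      (normalizer_wComp (c.offs_top_norm L i (c.tB_le_gZero L (c.nComp_le L i hn)))) hc hdq (hdp _)
      (comm_mem_wComp hg.2 hdV)
  let Sg : Subgroup G :=
    { carrier := {g | g ∈ kComp T (E i) ∧ ∀ n ∈ nComp T (E i), g * n * g⁻¹ * n⁻¹ ∈ wComp (E i)}
      one_mem' := ⟨one_mem _, fun n _ => by simp⟩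
      mul_mem' := fun {a b} ha hb => ⟨mul_mem ha.1 hb.1, fun n hn => by
        have h1 := (Subgroup.mem_normalizer_iff.1 (normalizer_wComp
          (Subgroup.mem_normalizer_iff_map_conj_eq.1 (Subgroup.le_normalizer ha.1.2))) _).1 (hb.2 n hn)
        have h2 := mul_mem h1 (ha.2 n hn)
        rwa [show a * (b * n * b⁻¹ * n⁻¹) * a⁻¹ * (a * n * a⁻¹ * n⁻¹) = a * b * n * (a * b)⁻¹ * n⁻¹ by group] at h2⟩
      inv_mem' := fun {a} ha => ⟨inv_mem ha.1, fun n hn => by
        have h1 := (Subgroup.mem_normalizer_iff.1 (normalizer_wComp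
          (Subgroup.mem_normalizer_iff_map_conj_eq.1 (Subgroup.le_normalizer (inv_mem ha.1).2))) _).1
          (inv_mem (ha.2 n hn))
        rwa [show a⁻¹ * (a * n * a⁻¹ * n⁻¹)⁻¹ * a⁻¹⁻¹ = a⁻¹ * n * a⁻¹⁻¹ * n⁻¹ by group] at h1⟩ }
  have hle : blk T (E i) ≤ Sg := BBlock.pResidualOf_le fun g hg hc => ⟨hg, hgen g hg hc⟩
  exact (hle hg).2 n hn

/-- Abelian Sylow subgroups modulo `W_i` make the core equal to `W_i`. -/
theorem core_le_of_abelian (hq : Quiet p G) (P : Sylow p ↥(blk T (E i)))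
    (hP : ∀ x ∈ (P : Subgroup ↥(blk T (E i))), ∀ y ∈ (P : Subgroup ↥(blk T (E i))),
      (x : G) * y * (x : G)⁻¹ * (y : G)⁻¹ ∈ wComp (E i)) :
    blk T (E i) ⊓ pCore p G ≤ wComp (E i) := by
  set W' := (wComp (E i)).subgroupOf (blk T (E i)) with hW'
  haveI : W'.Normal := (Subgroup.normal_subgroupOf_iff_le_normalizer (c.wComp_le_blk L i)).2 fun g hg =>
    normalizer_wComp (Subgroup.mem_normalizer_iff_map_conj_eq.1 (Subgroup.le_normalizer (c.blk_image L hg)))
  set π := QuotientGroup.mk' W'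
  have hπ : Function.Surjective π := QuotientGroup.mk'_surjective _
  have hgen : Cfsg.pResidual p (↥(blk T (E i)) ⧸ W') = ⊤ := by
    rw [← PResidual.map_pResidual hπ]
    exact (congrArg (Subgroup.map π) (pResidual_pResidualOf (kComp T (E i)))).trans (Subgroup.map_top_of_surjective _ hπ)
  have hcomm : ∀ {x y : ↥(blk T (E i))}, (x : G) * y * (x : G)⁻¹ * (y : G)⁻¹ ∈ wComp (E i) → π x * π y = π y * π x := by
    intro x y h
    have h1 : π (x * y * x⁻¹ * y⁻¹) = 1 := (QuotientGroup.eq_one_iff _).2 h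
    rwa [map_mul, map_mul, map_mul, map_inv, map_inv, mul_inv_eq_one, mul_inv_eq_iff_eq_mul] at h1
  intro x hx
  set q : ↥(blk T (E i)) := ⟨x, hx.1⟩
  have hqP : q ∈ (P : Subgroup ↥(blk T (E i))) := by
    haveI : ((pCore p G).subgroupOf (blk T (E i))).Normal := inferInstance
    exact pCore_le_sylow P (le_pCore ((isPGroup_pCore (G := G) p).comap_of_injective _ (blk T (E i)).subtype_injective)
      (show q ∈ (pCore p G).subgroupOf (blk T (E i)) from hx.2))
  have hxN : x ∈ nComp T (E i) := c.qZero_le_nComp L i (c.blk_core_le L i hx)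
  have h1 := central_eq_one_of_abelian_sylow (P.mapSurjective hπ) (fun a ha b hb => by
      obtain ⟨a', ha', rfl⟩ := ha
      obtain ⟨b', hb', rfl⟩ := hb
      exact hcomm (hP a' ha' b' hb')) hgen (z := π q) ⟨q, hqP, rfl⟩ (fun y => by
      obtain ⟨y, rfl⟩ := hπ y
      exact (hcomm (c.comm_nComp_wComp L hq y.2 hxN)).symm)
  exact (QuotientGroup.eq_one_iff q).1 h1

/-- Both lie below the core. -/
theorem core_eq_of_le (h : blk T (E i) ⊓ pCore p G ≤ wComp (E i)) : blk T (E i) ⊓ pCore p G = wComp (E i) :=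
  le_antisymm h (c.wComp_le_qComp L i)

theorem core_one_sl (hl : Local T E i H R S) {A : Subgroup ↥H} (hA : OneS S A)
    (hsl : IsSLKind (qAct p G) (T.mapSurjective qC_surjective) (E i)) :
    blk T (E i) ⊓ pCore p G ≤ wComp (E i) := by
  classical
  have hq := c.quiet_of_one L hl hA
  have hER := c.comp_le_region L hl hsl
  obtain ⟨F, iF, iF', n, e, ψ, -, -, hch, -, -, -, -, hoffs⟩ := hsl
  haveI := hch
  set Bk := blk T (E i) with hBk
  set J := offs (qAct p G) (T.mapSurjective qC_surjective) (E i) with hJ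
  -- a Sylow subgroup inside `B(T)`
  obtain ⟨P, hP⟩ : ∃ P : Sylow p ↥Bk, ∀ x ∈ (P : Subgroup ↥Bk), (x : G) ∈ tB T := by
    obtain ⟨P, hP⟩ := ((T.2.to_le (tB_le T)).comap_of_injective _ Bk.subtype_injective :
      IsPGroup p ↥((tB T).subgroupOf Bk)).exists_le_sylow
    refine ⟨P, fun x hx => ?_⟩
    let φ : ↥Bk →* Matrix.SpecialLinearGroup (Fin 2) F := e.toMonoidHom.comp
      (((qC p G).comp Bk.subtype).codRestrict (E i) fun g => c.blk_image L g.2)
    have hφ : ∀ g : ↥Bk, φ g = e ⟨qC p G g, c.blk_image L g.2⟩ := fun g => rfl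
    set X := (P : Subgroup ↥Bk).map φ with hX
    obtain ⟨S2, hS2⟩ := exists_sylow_uGrp (F := F) p
    obtain ⟨S1, hS1⟩ := (P.2.map φ).exists_le_sylow
    obtain ⟨y, hy⟩ := MulAction.exists_smul_eq (Matrix.SpecialLinearGroup (Fin 2) F) S1 S2
    have hrange : φ.range = commutator (Matrix.SpecialLinearGroup (Fin 2) F) := by
      rw [← pResidual_sl p]
      ext z
      constructor
      · rintro ⟨g, rfl⟩
        rw [hφ, map_pResidualOf e, ← c.blk_map L i]
        exact Subgroup.mem_map_of_mem _ g.2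
      · intro hz
        obtain ⟨g, hg, hge⟩ := (c.blk_map L i).ge ((map_pResidualOf e (g := e.symm z)).1 (by rwa [MulEquiv.apply_symm_apply]))
        exact ⟨⟨g, hg⟩, by rw [hφ, show (⟨qC p G g, c.blk_image L hg⟩ : ↥(E i)) = e.symm z from Subtype.ext hge,
          MulEquiv.apply_symm_apply]⟩
    have h1 : commutator (Matrix.SpecialLinearGroup (Fin 2) F) ⊓ uGrp ≤ X := fun z hz => by
      obtain ⟨g, rfl⟩ := hrange.ge hz.1
      refine ⟨g, hP (c.mem_tB_of_offs L (c.blk_le L i g.2).1 (L.offs_le_top i ?_)), rfl⟩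
      exact (hoffs ⟨qC p G g, c.blk_image L g.2⟩).2 hz.2
    have h2 : X.map (MulAut.conj y).toMonoidHom ≤ commutator (Matrix.SpecialLinearGroup (Fin 2) F) ⊓ uGrp := by
      rintro _ ⟨z, hz, rfl⟩
      refine Subgroup.mem_inf.2 ⟨?_, ?_⟩
      · refine (inferInstance : (commutator (Matrix.SpecialLinearGroup (Fin 2) F)).Normal).conj_mem z ?_ y
        rw [← hrange]; obtain ⟨g, -, rfl⟩ := hz; exact ⟨g, rfl⟩
      · rw [← hS2, ← hy, Sylow.coe_subgroup_smul]
        exact Subgroup.smul_mem_pointwise_smul _ (MulAut.conj y) _ (hS1 hz)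
    have heq : commutator (Matrix.SpecialLinearGroup (Fin 2) F) ⊓ uGrp = X :=
      Subgroup.eq_of_le_of_card_ge h1 (by
        rw [← Subgroup.card_map_of_injective (f := (MulAut.conj y).toMonoidHom) (MulAut.conj y).injective (K := X)]
        exact Subgroup.card_le_of_le h2)
    have hxu : φ x ∈ (uGrp : Subgroup (Matrix.SpecialLinearGroup (Fin 2) F)) :=
      (heq.ge (Subgroup.mem_map_of_mem φ hx)).2
    exact c.mem_tB_of_offs L (c.blk_le L i x.2).1 (L.offs_le_top i ((hoffs ⟨qC p G x, c.blk_image L x.2⟩).2 hxu))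
  refine c.core_le_of_abelian L hq P fun x hx y hy => ?_
  have hxB := hP x hx
  have hyB := hP y hy
  -- split `x`
  have hxS : (⟨x, hl.supp.tB_le hxB⟩ : ↥H) ∈ (S : Subgroup ↥H) := hl.supp.sylow.ge hxB
  obtain ⟨a, ha, o, ho, hao⟩ := PushUp.exists_mul' (X := A) (Y := pCore p ↥H) (PushUp.normalizer_top _ _)
    (hA.sup.ge hxS)
  have hoN : (o : G) ∈ nComp T (E i) := by
    have hoB : (o : G) ∈ tB T := hl.supp.sylow.le (pCore_le_sylow S ho)
    refine (c.mem_nComp L).2 ⟨hoB, ?_⟩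
    -- the parts of the core form a normal `p`-subgroup of the component
    obtain ⟨X, hXE, hX⟩ := L.exists_partSub i (A := ((pCore p ↥H).map H.subtype).map (qC p G))
      ((Subgroup.map_mono (Subgroup.map_subtype_le _)).trans (hl.supp.map_eq.le.trans hl.le_all))
    have hXJ : X ≤ J := fun z hz => by
      obtain ⟨_, ⟨_, ⟨o', ho', rfl⟩, rfl⟩, hpart⟩ := (hX z).1 hz
      exact c.tB_part L (hl.supp.sylow.le (pCore_le_sylow S ho')) hpart
    have hXn : E i ≤ Subgroup.normalizer (X : Set (G ⧸ cV p G)) := fun z hz => by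
      obtain ⟨h, hh, rfl⟩ := hl.supp.map_eq.ge (hER hz)
      refine ZJFailure.mem_normalizer_of_forall fun w hw => ?_
      obtain ⟨_, ⟨_, ⟨o', ho', rfl⟩, rfl⟩, hpart⟩ := (hX w).1 hw
      refine (hX _).2 ⟨qC p G (h * o' * h⁻¹), ⟨_, ⟨⟨h, hh⟩ * o' * ⟨h, hh⟩⁻¹,
        (inferInstance : (pCore p ↥H).Normal).conj_mem o' ho' _, rfl⟩, rfl⟩, ?_⟩
      rw [map_mul, map_mul, map_inv]
      have hoE := c.tB_image_mem L (hl.supp.sylow.le (pCore_le_sylow S ho'))
      have hzE := le_iSup E i hz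
      exact L.part_mul (mul_mem hzE hoE) (L.part_mul hzE (L.part_self hz) hpart) (L.part_inv hzE (L.part_self hz))
    have hbot := L.no_core_comp i hXE ((T.mapSurjective qC_surjective).2.to_le
      (hXJ.trans (offs_le.trans inf_le_left))) hXn
    obtain ⟨w, hw⟩ := L.exists_part i (c.tB_image_mem L hoB)
    have : w = 1 := Subgroup.mem_bot.1 (hbot ▸ (hX w).2 ⟨_, ⟨_, ⟨o, ho, rfl⟩, rfl⟩, hw⟩)
    rwa [this] at hw
  have haB : (a : G) ∈ tB T := hl.supp.sylow.le (hA.le ha)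
  have hyH : (y : G) ∈ H := hl.supp.tB_le hyB
  obtain ⟨v, hv, hve⟩ := hA.inner ⟨y, hyH⟩ (hl.supp.sylow.ge hyB) a ha
  have h1 : (y : G) * a * (y : G)⁻¹ * (a : G)⁻¹ ∈ wComp (E i) := by
    have h2 := congrArg Subtype.val hve
    simp only [Subgroup.coe_mul, Subgroup.coe_inv] at h2
    rw [h2, show (v : G) * a * (v : G)⁻¹ * (a : G)⁻¹ = ((a : G) * v * (a : G)⁻¹ * (v : G)⁻¹)⁻¹ by group]
    exact inv_mem (c.vmod_tB L hl hv haB)
  have h3 := c.comm_nComp_wComp L hq y.2 hoN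
  have e2 : (x : G) = (a : G) * (o : G) := (congrArg Subtype.val hao).symm
  have hnorm := normalizer_wComp (c.offs_top_norm L i (c.tB_le_gZero L haB))
  rw [e2, show (a : G) * o * y * ((a : G) * o)⁻¹ * (y : G)⁻¹ =
    (a : G) * ((y : G) * o * (y : G)⁻¹ * (o : G)⁻¹)⁻¹ * (a : G)⁻¹ * ((y : G) * a * (y : G)⁻¹ * (a : G)⁻¹)⁻¹ by group]
  exact mul_mem ((Subgroup.mem_normalizer_iff.1 hnorm _).1 (inv_mem h3)) (inv_mem h1)

theorem core_one_perm (hl : Local T E i H R S) {A : Subgroup ↥H} (hA : OneS S A) {F : Type} [Field F] [Fintype F]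
    [CharP F p] {f : ↥H →* Matrix.ProjectiveSpecialLinearGroup (Fin 2) F} {T' : Subgroup ↥H}
    (hopp : PushUp.Opp ⊤ (pCore p ↥H) (S : Subgroup ↥H) T') (hconj : ∃ g : ↥H, T' = PushUp.cj g (S : Subgroup ↥H))
    (hco : PushUp.Coords p F (pCore p ↥H) (S : Subgroup ↥H) T' f)
    (hperm : IsPermKind (qAct p G) (T.mapSurjective qC_surjective) (E i)) :
    blk T (E i) ⊓ pCore p G ≤ wComp (E i) := by
  classical
  have hq' := c.quiet_of_one L hl hA
  obtain ⟨n, e, ψ, μ, rfl, hn, hψs, hψk, hψa, hμ, -, hoffs⟩ := hperm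
  set Bk := blk T (E i) with hBk
  rcases Nat.lt_or_ge n 2 with hn1 | hn2
  · obtain rfl : n = 1 := by omega
    -- the block has order prime to `p` modulo its core
    obtain ⟨P⟩ : Nonempty (Sylow 2 ↥Bk) := inferInstance
    refine c.core_le_of_abelian L hq' P fun x hx y hy => ?_
    have hker : ∀ z ∈ (P : Subgroup ↥Bk), (z : G) ∈ nComp T (E i) := by
      intro z hz
      refine c.qZero_le_nComp L i (c.blk_core_le L i (Subgroup.mem_inf.2 ⟨z.2, (c.mem_core_iff L).2 ?_⟩))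
      obtain ⟨k, hk⟩ := P.2 ⟨z, hz⟩
      set σ := e ⟨qC 2 G z, c.blk_image L z.2⟩ with hσ
      have hσA : σ ∈ alternatingGroup (Fin (2 ^ 1 + 1)) := by
        rw [← pResidual_perm, hσ]
        exact (map_pResidualOf e).2 ((c.blk_map L i).le (Subgroup.mem_map_of_mem _ z.2))
      have h1 : σ ^ 2 ^ k = 1 := by
        rw [hσ, ← map_pow, ← map_one e]
        refine congrArg e (Subtype.ext ?_)
        show qC 2 G z ^ 2 ^ k = 1
        rw [← map_pow, show (z : G) ^ 2 ^ k = 1 from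
          congrArg (fun w : ↥(P : Subgroup ↥Bk) => ((w : ↥Bk) : G)) hk, map_one]
      haveI : Nontrivial (Fin (2 ^ 1 + 1)) := Fintype.one_lt_card_iff_nontrivial.1 (by simp)
      have h3 : orderOf σ ∣ 3 := by
        have := orderOf_dvd_natCard (⟨σ, hσA⟩ : alternatingGroup (Fin (2 ^ 1 + 1)))
        rw [nat_card_alternatingGroup, Nat.card_eq_fintype_card, Fintype.card_fin, Subgroup.orderOf_mk] at this
        exact this
      have h4 : orderOf σ = 1 := Nat.eq_one_of_dvd_coprimes ((by decide : Nat.Coprime 2 3).pow_left k)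
        (orderOf_dvd_of_pow_eq_one h1) h3
      rw [orderOf_eq_one_iff, hσ] at h4
      exact congrArg Subtype.val (e.injective (h4.trans (map_one e).symm))
    exact c.comm_nComp_wComp L hq' x.2 (hker y hy)
  have hcardα : Fintype.card (Fin (2 ^ n + 1)) = 2 ^ n + 1 := Fintype.card_fin _
  have hbig : 5 ≤ 2 ^ n + 1 := by
    have := Nat.pow_le_pow_right (n := 2) two_pos hn2; omega
  have hs := hl.supp.setting
  have hd := hl.supp.noChar.mild hs
  set Hp := kComp T (E i) ⊔ tB T with hHp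
  have hHg : Hp ≤ gZero T := sup_le inf_le_left (c.tB_le_gZero L)
  have himg : ∀ g : ↥Hp, qC 2 G g ∈ ⨆ j, E j := fun g => (c.map_gZero L).le (Subgroup.mem_map_of_mem _ (hHg g.2))
  let prt : ↥Hp →* Perm (Fin (2 ^ n + 1)) :=
    e.toMonoidHom.comp ((L.partHom i).comp (((qC 2 G).comp Hp.subtype).codRestrict (⨆ j, E j) himg))
  have hprt : ∀ g : ↥Hp, prt g = e (L.partHom i ⟨_, himg g⟩) := fun g => rfl
  have hHparts : ∀ g : ↥Hp, ∀ j, j ≠ i →
      ((L.partHom j ⟨_, himg g⟩ : ↥(E j)) : G ⧸ cV 2 G) ∈ offs (qAct 2 G) (T.mapSurjective qC_surjective) (E j) := by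
    intro g j hji
    let Sg : Subgroup ↥(⨆ j, E j) := ((offs (qAct 2 G) (T.mapSurjective qC_surjective) (E j)).subgroupOf (E j)).comap
      (L.partHom j)
    have hle : Hp ≤ (Sg.map (⨆ j, E j).subtype).comap (qC 2 G) := by
      refine sup_le (fun k hk => ⟨⟨_, le_iSup E i hk.2⟩, ?_, rfl⟩) fun b hb => ⟨⟨_, c.tB_image_mem L hb⟩, ?_, rfl⟩
      · show ((L.partHom j ⟨qC 2 G k, le_iSup E i hk.2⟩ : ↥(E j)) : G ⧸ cV 2 G) ∈
          offs (qAct 2 G) (T.mapSurjective qC_surjective) (E j)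
        rw [L.partHom_other (Ne.symm hji) hk.2]; exact one_mem _
      · exact c.tB_part L hb (L.isPart_partHom j _)
    obtain ⟨y, hy, hye⟩ := hle g.2
    rw [show (⟨_, himg g⟩ : ↥(⨆ j, E j)) = y from Subtype.ext hye.symm]
    exact hy
  have hlift : ∀ g : ↥Hp, prt g ∈ pairGrp μ → (g : G) ∈ tB T := fun g hg =>
    c.mem_tB_of_offs L (hHg g.2) (L.mem_offs_of_parts (himg g) fun j => by
      by_cases hji : j = i
      · subst hji; exact (hoffs _).2 hg
      · exact hHparts g j hji)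
  have hkerN : ∀ g : ↥Hp, prt g = 1 → (g : G) ∈ nComp T (E i) := fun g hg => by
    refine (c.mem_nComp L).2 ⟨hlift g (by rw [hg]; exact one_mem _), ?_⟩
    have h := L.isPart_partHom i ⟨_, himg g⟩
    rwa [show L.partHom i ⟨_, himg g⟩ = 1 from e.injective ((hprt g).symm.trans (hg.trans (map_one e).symm))] at h
  have hprts : Function.Surjective prt := fun σ => by
    obtain ⟨k, hk, hke⟩ := (c.kComp_map L i).ge (e.symm σ).2
    refine ⟨⟨k, Subgroup.mem_sup_left hk⟩, ?_⟩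
    rw [hprt]
    show e (L.partHom i _) = σ
    rw [show L.partHom i ⟨qC 2 G k, himg ⟨k, Subgroup.mem_sup_left hk⟩⟩ = e.symm σ from Subtype.ext
      ((L.partHom_eq _ (hke.symm ▸ L.part_self (e.symm σ).2))), MulEquiv.apply_symm_apply]
  -- the element of `A` with an intermediate image
  have hAB : ∀ a ∈ A, (a : G) ∈ tB T := fun a ha => hl.supp.sylow.le (hA.le ha)
  let aH : ∀ a ∈ A, ↥Hp := fun a ha => ⟨a, Subgroup.mem_sup_right (hAB a ha)⟩
  have hσpair : ∀ a (ha : a ∈ A), prt (aH a ha) ∈ pairKernel μ hμ.invol := fun a ha =>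
    pairGrp_le hμ ((hoffs _).1 (c.tB_part L (hAB a ha) (L.isPart_partHom i _)))
  have hσone : ∀ a (ha : a ∈ A), prt (aH a ha) = 1 → a ∈ pCore 2 ↥H := fun a ha h =>
    c.nComp_le_core L hl (hkerN (aH a ha) h)
  obtain ⟨a₁, ha₁, hne1, hneμ⟩ : ∃ a, ∃ ha : a ∈ A, prt (aH a ha) ≠ 1 ∧ prt (aH a ha) ≠ μ := by
    by_contra hno
    push Not at hno
    -- two cosets
    have hcS := hco.card_S
    obtain ⟨a₀, ha₀, ha₀O⟩ := SetLike.not_le_iff_exists.1 hA.not_le
    have hμ0 : prt (aH a₀ ha₀) = μ := hno a₀ ha₀ fun h => ha₀O (hσone a₀ ha₀ h)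
    have hidx : Nat.card (S : Subgroup ↥H) ≤ 2 * Nat.card (pCore 2 ↥H) := by
      have hmem : ∀ s ∈ (S : Subgroup ↥H), s ∈ pCore 2 ↥H ∨ a₀⁻¹ * s ∈ pCore 2 ↥H := fun s hsS => by
        obtain ⟨a, ha, o, ho, rfl⟩ := PushUp.exists_mul' (X := A) (Y := pCore 2 ↥H) (PushUp.normalizer_top _ _)
          (hA.sup.ge hsS)
        by_cases h1 : prt (aH a ha) = 1
        · exact Or.inl (mul_mem (hσone a ha h1) ho)
        · refine Or.inr ?_
          rw [← mul_assoc]
          refine mul_mem (hσone _ (mul_mem (inv_mem ha₀) ha) ?_) ho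
          rw [show aH (a₀⁻¹ * a) (mul_mem (inv_mem ha₀) ha) = (aH a₀ ha₀)⁻¹ * aH a ha from rfl, map_mul, map_inv,
            hμ0, hno a ha h1, inv_mul_cancel]
      have h2 : Nat.card (S : Subgroup ↥H) ≤ Nat.card (pCore 2 ↥H ⊕ pCore 2 ↥H) := by
        refine Nat.card_le_card_of_injective (fun s => if h : (s : ↥H) ∈ pCore 2 ↥H then Sum.inl ⟨_, h⟩
          else Sum.inr ⟨_, (hmem s s.2).resolve_left h⟩) fun s t h => Subtype.ext ?_
        by_cases h1 : (s : ↥H) ∈ pCore 2 ↥H <;> by_cases h2 : (t : ↥H) ∈ pCore 2 ↥H <;> simp [h1, h2] at h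
        · exact congrArg Subtype.val h
        · exact congrArg Subtype.val h
      rw [Nat.card_sum] at h2
      omega
    have hF2 : Fintype.card F = 2 := by
      have h1 := Fintype.one_lt_card (α := F)
      rw [hcS] at hidx
      have := Nat.le_of_mul_le_mul_right hidx Nat.card_pos
      omega
    -- then the element moves along one vector
    have hvm := PushUp.vmod_mdl hs hd
    set fxS := PushRankOne.fx (PushUp.vmod S) (S : Subgroup ↥H)
    have hcard : Nat.card (PushUp.vmod S) ≤ 2 * Nat.card fxS := by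
      have h1 := PushUp.card_fx_sq hs hd
      obtain ⟨ρ, φ, hsect, -⟩ := PushUp.exists_sect_vmod hs hd hopp hconj hco
      have h4 : Nat.card (PushUp.vmod S) ≤ 4 * Nat.card (PushUp.zc S) := by
        choose s hsY hsφ using hsect.onto
        have hle : Nat.card (PushUp.vmod S) ≤ Nat.card ((Fin 2 → F) × PushUp.zc S) := by
          refine Nat.card_le_card_of_injective (fun v => (φ v, ⟨(s (φ v))⁻¹ * v,
            (hsect.ker _ (mul_mem (inv_mem (hsY _)) v.2)).1 (by
              rw [hsect.mul _ (inv_mem (hsY _)) _ v.2, hsect.map_inv (hsY _), hsφ, neg_add_cancel])⟩)) fun v w h => ?_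
          have h5 := congrArg Subtype.val (Prod.ext_iff.1 h).2
          simp only at h5
          rw [show φ (v : ↥H) = φ w from (Prod.ext_iff.1 h).1] at h5
          exact Subtype.ext (mul_left_cancel h5)
        rw [Nat.card_prod, show Nat.card (Fin 2 → F) = 4 by rw [card_V2, hF2]] at hle
        exact hle
      by_contra hlt
      push Not at hlt
      have h5 : (2 * Nat.card fxS) * (2 * Nat.card fxS) < Nat.card (PushUp.vmod S) * Nat.card (PushUp.vmod S) :=
        Nat.mul_self_lt_mul_self hlt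
      have h6 : Nat.card (PushUp.vmod S) * Nat.card (PushUp.vmod S) ≤
          Nat.card (PushUp.vmod S) * (4 * Nat.card (PushUp.zc S)) := Nat.mul_le_mul_left _ h4
      nlinarith
    obtain ⟨w, hw⟩ : ∃ w : ↥H, ∀ v ∈ PushUp.vmod S, v * a₀ * v⁻¹ * a₀⁻¹ = 1 ∨ v * a₀ * v⁻¹ * a₀⁻¹ = w := by
      by_cases hall : ∀ v ∈ PushUp.vmod S, v ∈ fxS
      · exact ⟨1, fun v hv => Or.inl (by
          rw [← (hall v hv).2 a₀ (hA.le ha₀), mul_inv_cancel_right, mul_inv_cancel])⟩
      push Not at hall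
      obtain ⟨v₀, hv₀, hv₀f⟩ := hall
      refine ⟨v₀ * a₀ * v₀⁻¹ * a₀⁻¹, fun v hv => ?_⟩
      have hfix : ∀ u ∈ fxS, u * a₀ = a₀ * u := fun u hu => (hu.2 a₀ (hA.le ha₀)).symm
      by_cases hvf : v ∈ fxS
      · exact Or.inl (by rw [hfix v hvf, mul_inv_cancel_right, mul_inv_cancel])
      · refine Or.inr ?_
        -- the two are congruent modulo the fixed vectors
        have hmem : v₀⁻¹ * v ∈ fxS := by
          by_contra hnot
          have h3 : Nat.card (↥fxS ⊕ ↥fxS ⊕ ↥fxS) ≤ Nat.card (PushUp.vmod S) := by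
            refine Nat.card_le_card_of_injective (fun u => match u with
              | Sum.inl u => (⟨u, u.2.1⟩ : PushUp.vmod S)
              | Sum.inr (Sum.inl u) => ⟨v₀ * u, mul_mem hv₀ u.2.1⟩
              | Sum.inr (Sum.inr u) => ⟨v * u, mul_mem hv u.2.1⟩) ?_
            rintro (u | u | u) (t | t | t) h <;> simp only [Subtype.mk.injEq] at h
            · exact congrArg _ (Subtype.ext h)
            · exact absurd ((eq_mul_inv_iff_mul_eq.2 h.symm) ▸ mul_mem u.2 (inv_mem t.2)) hv₀f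
            · exact absurd ((eq_mul_inv_iff_mul_eq.2 h.symm) ▸ mul_mem u.2 (inv_mem t.2)) hvf
            · exact absurd ((eq_mul_inv_iff_mul_eq.2 h) ▸ mul_mem t.2 (inv_mem u.2)) hv₀f
            · rw [Subtype.ext (mul_left_cancel h)]
            · refine absurd ?_ hnot
              rw [show v₀⁻¹ * v = (u : ↥H) * (t : ↥H)⁻¹ by rw [eq_mul_inv_iff_mul_eq, mul_assoc, ← h, inv_mul_cancel_left]]
              exact mul_mem u.2 (inv_mem t.2)
            · exact absurd ((eq_mul_inv_iff_mul_eq.2 h) ▸ mul_mem t.2 (inv_mem u.2)) hvf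
            · refine absurd ?_ hnot
              rw [show v₀⁻¹ * v = (t : ↥H) * (u : ↥H)⁻¹ by rw [eq_mul_inv_iff_mul_eq, mul_assoc, h, inv_mul_cancel_left]]
              exact mul_mem t.2 (inv_mem u.2)
            · rw [Subtype.ext (mul_left_cancel h)]
          rw [Nat.card_sum, Nat.card_sum] at h3
          have := Nat.card_pos (α := fxS)
          omega
        calc v * a₀ * v⁻¹ * a₀⁻¹ = v₀ * ((v₀⁻¹ * v) * a₀ * (v₀⁻¹ * v)⁻¹) * v₀⁻¹ * a₀⁻¹ := by group
          _ = _ := by rw [hfix _ hmem, mul_inv_cancel_right]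
    -- read in the permutation module
    set σ := prt (aH a₀ ha₀) with hσ
    set ρ := qAct 2 G with hρ
    have haB := hAB a₀ ha₀
    have hdisp : ∀ x, ρ (qC 2 G a₀) x - x = 0 ∨ ∃ hw' : ((w : G))⁻¹ ∈ vQ 2 G, ρ (qC 2 G a₀) x - x = av hw' := by
      intro x
      obtain ⟨v₀, hv₀, rfl⟩ := exists_av x
      have hv₀B : v₀ ∈ tB T := (c.mem_tB_of_offs L
        (c.tB_le_gZero L ((c.qZero_eq L).ge (Subgroup.mem_inf.2 ⟨vQ_le_core hv₀, Subgroup.mem_centralizer_iff.2
          fun y hy => (c.xQ_comm L hy (vQ_le_xQ T hv₀)).1⟩)).2)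
        (by rw [(c.mem_core_iff L).1 (vQ_le_core hv₀)]; exact one_mem _))
      obtain ⟨v, hv, hve⟩ := hA.inner ⟨v₀, hl.supp.tB_le hv₀B⟩ (hl.supp.sylow.ge hv₀B) a₀ ha₀
      have e1 : (a₀ : G) * v₀ * (a₀ : G)⁻¹ * v₀⁻¹ = (((v * a₀ * v⁻¹ * a₀⁻¹ : ↥H)) : G)⁻¹ := by
        rw [← hve]; simp only [Subgroup.coe_mul, Subgroup.coe_inv]; group
      rw [sub_av (a₀ : G) hv₀]
      rcases hw v hv with h | h
      · left
        rw [h, Subgroup.coe_one, inv_one] at e1
        exact congrArg Additive.ofMul (Subtype.ext e1)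
      · right
        rw [h] at e1
        refine ⟨e1 ▸ mul_mem (vQ_normal.conj_mem v₀ hv₀ _) (inv_mem hv₀), ?_⟩
        rw [av_eq]; exact e1
    have hrank : ∀ u, natPerm σ u = u ∨ ∃ z, (∀ u', natPerm σ u' ≠ u' → natPerm σ u' = u' + z) ∧ natPerm σ u = u + z := by
      intro u
      by_cases hu : natPerm σ u = u
      · exact Or.inl hu
      have key : ∀ u', natPerm σ u' ≠ u' → ∃ hw' : ((w : G))⁻¹ ∈ vQ 2 G, natPerm σ u' = u' + ψ (av hw') := by
        intro u' hu'
        obtain ⟨x, rfl⟩ := hψs u'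
        have h1 : natPerm σ (ψ x) = ψ x + ψ (ρ (qC 2 G a₀) x - x) := by
          have h2 : ψ (ρ (qC 2 G a₀) x) = ψ (ρ ((L.partHom i ⟨_, himg (aH a₀ ha₀)⟩ : ↥(E i)) : G ⧸ cV 2 G) x) := by
            rw [← sub_eq_zero, ← map_sub, hψk]
            exact (L.isPart_partHom i ⟨_, himg (aH a₀ ha₀)⟩).2 x
          rw [map_sub, h2, hψa, add_sub_cancel, hσ, hprt]
        rcases hdisp x with h | ⟨hw', h⟩
        · exact absurd (by rw [h1, h, map_zero, add_zero]) hu'
        · exact ⟨hw', by rw [h1, h]⟩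
      obtain ⟨hw', h⟩ := key u hu
      exact Or.inr ⟨ψ (av hw'), fun u' hu' => (key u' hu').2, h⟩
    have hσinv : ∀ k, σ (σ k) = k := fun k => by
      have := pairKernel_sq (hσpair a₀ ha₀)
      rw [pow_two] at this
      exact congrArg (fun s : Perm (Fin (2 ^ n + 1)) => s k) this
    have hσ1 : σ ≠ 1 := fun h => ha₀O (hσone a₀ ha₀ h)
    obtain ⟨u₀, hu₀⟩ : ∃ u, natPerm σ u ≠ u := by
      by_contra hno'
      push Not at hno'
      refine hσ1 (natPerm_injective (by omega) ?_)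
      rw [map_one]; exact AddMonoidHom.ext hno'
    obtain ⟨z, hz, -⟩ := (hrank u₀).resolve_left hu₀
    obtain ⟨k, l, hkl, hσkl, -⟩ := swap_of_rank_one (v := z) ⟨2 ^ (n - 1), by
      rw [hcardα]
      have : 2 ^ n = 2 * 2 ^ (n - 1) := by rw [← pow_succ', Nat.sub_add_cancel (by omega)]
      omega⟩ hσinv hσ1 fun u => (em (natPerm σ u = u)).imp_right (hz u)
    -- a transposition is no pairing of at least five points
    have hfix2 : ∀ x, x ≠ k → x ≠ l → μ x = x := fun x h1 h2 => by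
      rw [← hμ0, hσkl, swap_apply_of_ne_of_ne h1 h2]
    obtain ⟨x, hx1, hx2⟩ : ∃ x, x ≠ k ∧ x ≠ l := by
      obtain ⟨x, -, hx⟩ := Finset.exists_mem_notMem_of_card_lt_card
        (lt_of_le_of_lt Finset.card_le_two (by rw [Finset.card_univ]; omega) :
          ({k, l} : Finset (Fin (2 ^ n + 1))).card < (Finset.univ : Finset (Fin (2 ^ n + 1))).card)
      exact ⟨x, fun e => hx (by simp [e]), fun e => hx (by simp [e])⟩
    obtain ⟨y, hy1, hy2, hy3⟩ : ∃ y, y ≠ k ∧ y ≠ l ∧ y ≠ x := by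
      obtain ⟨y, -, hy⟩ := Finset.exists_mem_notMem_of_card_lt_card
        (lt_of_le_of_lt Finset.card_le_three (by rw [Finset.card_univ]; omega) :
          ({k, l, x} : Finset (Fin (2 ^ n + 1))).card < (Finset.univ : Finset (Fin (2 ^ n + 1))).card)
      exact ⟨y, fun e => hy (by simp [e]), fun e => hy (by simp [e]), fun e => hy (by simp [e])⟩
    exact hy3 (hμ.fixed y x (hfix2 y hy1 hy2) (hfix2 x hx1 hx2))
  set σ := prt (aH a₁ ha₁) with hσ
  have hσk := hσpair a₁ ha₁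
  obtain ⟨x, hx⟩ : ∃ x, σ x ≠ x := by
    by_contra hno
    push Not at hno
    exact hne1 (Equiv.ext hno)
  have hσx : σ x = μ x := (hσk x).resolve_left hx
  have hσμx : σ (μ x) = x := by
    rw [← hσx]
    have h2 := pairKernel_sq hσk
    rw [pow_two] at h2
    exact congrArg (fun s : Perm (Fin (2 ^ n + 1)) => s x) h2
  obtain ⟨u, hu⟩ : ∃ u, σ u ≠ μ u := by
    by_contra hno
    push Not at hno
    exact hneμ (Equiv.ext hno)
  have hσu : σ u = u := (hσk u).resolve_right hu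
  have huμ : μ u ≠ u := fun h => hu (hσu.trans h.symm)
  have hσμu : σ (μ u) = μ u := by
    rcases hσk (μ u) with h | h
    · exact h
    · rw [hμ.invol] at h
      exact absurd (σ.injective (h.trans hσu.symm)) huμ
  have hxne : x ≠ μ x := fun h => hx (hσx.trans h.symm)
  -- the quotient
  set Qi := Bk ⊓ pCore 2 G with hQi
  set W2 := wComp (E i) ⊔ ⁅Qi, Hp⁆ with hW2
  have hBkHp : Bk ≤ Hp := (c.blk_le L i).trans le_sup_left
  have hQiHp : Qi ≤ Hp := inf_le_left.trans hBkHp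
  have hW2le : W2 ≤ Hp := sup_le ((c.wComp_le_blk L i).trans hBkHp)
    (Subgroup.commutator_le.2 fun a ha b hb => by
      rw [commutatorElement_def]
      exact mul_mem (mul_mem (mul_mem (hQiHp ha) hb) (inv_mem (hQiHp ha))) (inv_mem hb))
  haveI : (W2.subgroupOf Hp).Normal := (Subgroup.normal_subgroupOf_iff_le_normalizer hW2le).2 fun g hg => by
    refine ZJFailure.mem_normalizer_of_forall fun w hw => ?_
    have h1 : wComp (E i) ≤ W2.comap (MulAut.conj g).toMonoidHom := fun z hz => Subgroup.mem_sup_left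
      ((Subgroup.mem_normalizer_iff.1 (normalizer_wComp (c.offs_top_norm L i (hHg hg))) z).1 hz)
    have h2 : ⁅Qi, Hp⁆ ≤ W2.comap (MulAut.conj g).toMonoidHom := fun z hz => Subgroup.mem_sup_right
      ((Subgroup.mem_normalizer_iff.1 (Subgroup.normalizer_commutator_ge_right Qi Hp hg) z).1 hz)
    exact sup_le h1 h2 hw
  set π := QuotientGroup.mk' (W2.subgroupOf Hp)
  have hπs : Function.Surjective π := QuotientGroup.mk'_surjective _
  have hπcomm : ∀ {x y : ↥Hp}, (x : G) * y * (x : G)⁻¹ * (y : G)⁻¹ ∈ W2 → π x * π y = π y * π x := by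
    intro x y h
    have h1 : π (x * y * x⁻¹ * y⁻¹) = 1 := (QuotientGroup.eq_one_iff _).2 h
    rwa [map_mul, map_mul, map_mul, map_inv, map_inv, mul_inv_eq_one, mul_inv_eq_iff_eq_mul] at h1
  have hprtQi : ∀ g : ↥Hp, (g : G) ∈ Qi → prt g = 1 := fun g hg => by
    rw [hprt, ← map_one e]
    refine congrArg e (Subtype.ext ?_)
    refine L.partHom_eq _ ?_
    rw [(c.mem_core_iff L).1 hg.2]
    exact L.part_self (one_mem _)
  have hW2ker : W2.subgroupOf Hp ≤ prt.ker := fun g hg => by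
    refine MonoidHom.mem_ker.2 (hprtQi g ?_)
    refine (sup_le (c.wComp_le_qComp L i) (Subgroup.commutator_le.2 fun q hq b hb => ?_) : W2 ≤ Qi) hg
    have hcm := c.offs_top_norm L i (hHg hb)
    refine Subgroup.mem_inf.2 ⟨?_, ?_⟩
    · rw [commutatorElement_def, show q * b * q⁻¹ * b⁻¹ = q * (b * q⁻¹ * b⁻¹) by group]
      exact mul_mem hq.1 ((Subgroup.mem_normalizer_iff.1 (c.blk_normalizer L i hcm) _).1 (inv_mem hq.1))
    · rw [commutatorElement_def, show q * b * q⁻¹ * b⁻¹ = q * (b * q⁻¹ * b⁻¹) by group]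
      exact mul_mem hq.2 ((inferInstance : (pCore 2 G).Normal).conj_mem _ (inv_mem hq.2) b)
  let π₀ : ↥Hp ⧸ W2.subgroupOf Hp →* Perm (Fin (2 ^ n + 1)) := QuotientGroup.lift _ prt hW2ker
  have hπ₀ : ∀ g : ↥Hp, π₀ (π g) = prt g := fun g => rfl
  have hres : Cfsg.pResidual 2 (↥Hp ⧸ W2.subgroupOf Hp) ≤ (Bk.subgroupOf Hp).map π := by
    rw [← PResidual.map_pResidual hπs]
    refine Subgroup.map_mono ((Subgroup.closure_le _).2 fun g hg => ?_)
    show (g : G) ∈ Bk
    refine BBlock.mem_of_mem_sup_coprime (T.2.to_le (tB_le T)) (fun b hb => ?_) ?_ (by rwa [Subgroup.orderOf_coe])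
    · exact c.blk_normalizer L i (c.offs_top_norm L i (c.tB_le_gZero L hb))
    · exact (sup_le ((c.kComp_le_sup L i).trans (sup_le_sup_left inf_le_right _)) le_sup_right : Hp ≤ _) g.2
  have hlift2 : ∀ t : ↥Hp, prt t ∈ pairGrp μ → π (aH a₁ ha₁) * π t = π t * π (aH a₁ ha₁) := fun t ht => by
    refine (hπcomm (Subgroup.mem_sup_left ?_)).symm
    have htB := hlift t ht
    obtain ⟨v, hv, hve⟩ := hA.inner ⟨t, hl.supp.tB_le htB⟩ (hl.supp.sylow.ge htB) a₁ ha₁
    have h2 := congrArg Subtype.val hve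
    simp only [Subgroup.coe_mul, Subgroup.coe_inv] at h2
    show (t : G) * a₁ * (t : G)⁻¹ * (a₁ : G)⁻¹ ∈ _
    rw [h2, show (v : G) * a₁ * (v : G)⁻¹ * (a₁ : G)⁻¹ = ((a₁ : G) * v * (a₁ : G)⁻¹ * (v : G)⁻¹)⁻¹ by group]
    exact inv_mem (c.vmod_tB L hl hv (hAB a₁ ha₁))
  have hbot : π₀.ker ⊓ Cfsg.pResidual 2 (↥Hp ⧸ W2.subgroupOf Hp) = ⊥ := by
    refine sym_lift π₀ (fun s => let ⟨g, hg⟩ := hprts s; ⟨π g, hg⟩) ?_ ?_ ?_ (x := x) (y := μ x) (u := u) (v := μ u)
      hxne huμ.symm ⟨fun h => hx (h ▸ hσu), fun h => hx (by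
        have : μ u = x := by rw [h, hμ.invol]
        rw [← this]; exact hσμu)⟩
      ⟨fun h => hx (h ▸ hσμu), fun h => hx ((μ.injective h) ▸ hσu)⟩ (π (aH a₁ ha₁)) hσx hσμx hσu hσμu ?_
    · intro q
      obtain ⟨g, hgq⟩ := hπs q
      have h1 : prt g = 1 := by
        have h2 : π₀ (q : ↥Hp ⧸ W2.subgroupOf Hp) = 1 := q.2
        rwa [← hgq] at h2
      obtain ⟨k, hk⟩ := T.2 ⟨_, tB_le T (c.nComp_le L i (hkerN g h1))⟩
      refine ⟨k, Subtype.ext ?_⟩
      rw [SubmonoidClass.coe_pow, ← hgq, ← map_pow,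
        show g ^ 2 ^ k = 1 from Subtype.ext (by rw [SubmonoidClass.coe_pow]; exact congrArg Subtype.val hk), map_one]
      rfl
    · intro q hq g hg
      obtain ⟨q, rfl⟩ := hπs q
      obtain ⟨y, hy, rfl⟩ := hres hg
      exact (hπcomm (Subgroup.mem_sup_left (c.comm_nComp_wComp L hq' hy (hkerN q hq)))).symm
    · intro z hz hzr g
      obtain ⟨y, hy, rfl⟩ := hres hzr
      obtain ⟨g, rfl⟩ := hπs g
      have hyQ : (y : G) ∈ Qi := by
        refine Subgroup.mem_inf.2 ⟨hy, (c.mem_core_iff L).2 ?_⟩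
        exact L.part_unique (L.part_self (c.blk_image L hy)) ((c.mem_nComp L).1 (hkerN y hz)).2
      exact hπcomm (Subgroup.mem_sup_right (commutatorElement_def (y : G) (g : G) ▸
        Subgroup.commutator_mem_commutator hyQ g.2))
    · intro t ht
      obtain ⟨t, rfl⟩ := hπs t
      rw [hπ₀] at ht
      refine hlift2 t ?_
      rcases ht with h | h <;> rw [h] <;> exact swap_mem_pairGrp μ _
  -- conclusion
  have hQW2 : Qi ≤ W2 := fun q hq => by
    have h1 : π ⟨q, hQiHp hq⟩ ∈ π₀.ker ⊓ Cfsg.pResidual 2 (↥Hp ⧸ W2.subgroupOf Hp) := by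
      refine Subgroup.mem_inf.2 ⟨MonoidHom.mem_ker.2 (hprtQi _ hq), ?_⟩
      have h2 : Bk ≤ ((Cfsg.pResidual 2 (↥Hp ⧸ W2.subgroupOf Hp)).comap π).map Hp.subtype := by
        refine BBlock.pResidualOf_le fun g hg hc => ⟨⟨g, Subgroup.mem_sup_left hg⟩, ?_, rfl⟩
        exact Subgroup.subset_closure
          (Nat.Coprime.coprime_dvd_left (orderOf_map_dvd π _) (by rwa [Subgroup.orderOf_mk]))
      obtain ⟨y, hy, hye⟩ := h2 hq.1
      rwa [show (⟨q, hQiHp hq⟩ : ↥Hp) = y from Subtype.ext hye.symm]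
    rw [hbot, Subgroup.mem_bot] at h1
    exact (QuotientGroup.eq_one_iff (⟨q, hQiHp hq⟩ : ↥Hp)).1 h1
  have hQiB : Qi ≤ tB T := (c.blk_core_le L i).trans inf_le_right
  have hWB : wComp (E i) ≤ tB T := (c.wComp_le_qComp L i).trans hQiB
  have hBW : tB T ≤ Subgroup.normalizer (wComp (E i) : Set G) := fun b hb =>
    normalizer_wComp (c.offs_top_norm L i (c.tB_le_gZero L hb))
  refine le_of_le_sup_commutator (p := 2) (T.2.to_le (tB_le T)) hQiB hWB hBW (hQW2.trans (sup_le le_sup_left ?_))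
  refine Subgroup.commutator_le.2 fun q hq g hg => ?_
  have hg' : g ∈ Bk ⊔ tB T :=
    (sup_le ((c.kComp_le_sup L i).trans (sup_le_sup_left inf_le_right _)) le_sup_right : Hp ≤ _) hg
  rw [← SetLike.mem_coe, sup_comm, Subgroup.coe_mul_of_left_le_normalizer_right _ _
    (fun b hb => c.blk_normalizer L i (c.offs_top_norm L i (c.tB_le_gZero L hb)))] at hg'
  obtain ⟨b, hb, y, hy, rfl⟩ := hg'
  rw [commutatorElement_def, show q * (b * y) * q⁻¹ * (b * y)⁻¹ =
    (q * b * q⁻¹ * b⁻¹) * (b * (y * q * y⁻¹ * q⁻¹)⁻¹ * b⁻¹) by group]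
  refine mul_mem (Subgroup.mem_sup_right (commutatorElement_def q b ▸ Subgroup.commutator_mem_commutator hq hb))
    (Subgroup.mem_sup_left ((Subgroup.mem_normalizer_iff.1 (hBW hb) _).1 (inv_mem ?_)))
  exact c.comm_nComp_wComp L hq' hy (c.qZero_le_nComp L i (c.blk_core_le L i hq))

/-- **In the short configuration the core of the block is `W_i`.** -/
theorem core_one {i : Fin r} (h : OneAt T E i) : blk T (E i) ⊓ pCore p G = wComp (E i) := by
  obtain ⟨H, R, S, hl, F, _, _, _, f, T', A, hA, hopp, hconj, hco⟩ := h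
  exact c.core_eq_of_le L ((L.kind i).elim (c.core_one_sl L hl hA) (c.core_one_perm L hl hA hopp hconj hco))

end Ctx

end CfsgLib.BlockPush
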