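import Mathlib
import Cfsg.Agent.Lib.PushUp.Common
import Cfsg.Agent.Lib.Baumann.BlockBasic
import Cfsg.Agent.Lib.PResidual

/-!
Group-theoretic lemmas for the blocks.
-/

set_option autoImplicit false
set_option linter.unusedSectionVars false

namespace CfsgLib.BlockPush

open Cfsg CfsgLib
open scoped commutatorElement

universe u

variable {G : Type u} [Group G] [Finite G] {p : ℕ} [hp : Fact p.Prime]

/-- `PushUp.push_down` modulo a subgroup that is only normalized by the elements involved. -/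
theorem push_down' {X : Subgroup G} {r q d : G} (hrX : r ∈ Subgroup.normalizer (X : Set G))
    (hqX : q ∈ Subgroup.normalizer (X : Set G)) (hr : (orderOf r).Coprime p) (hd : r * q * r⁻¹ = d * q)
    (hdp : ∃ k : ℕ, d ^ p ^ k ∈ X) (hrd : r * d * r⁻¹ * d⁻¹ ∈ X) : d ∈ X := by
  set N := Subgroup.normalizer (X : Set G)
  have hdN : d ∈ N := by
    rw [show d = r * q * r⁻¹ * q⁻¹ by rw [hd]; group]
    exact mul_mem (mul_mem (mul_mem hrX hqX) (inv_mem hrX)) (inv_mem hqX)
  haveI : (X.subgroupOf N).Normal := Subgroup.normal_in_normalizer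
  have h := PushUp.push_down (p := p) (X := X.subgroupOf N) (r := (⟨r, hrX⟩ : ↥N)) (q := ⟨q, hqX⟩) (d := ⟨d, hdN⟩)
    (by rwa [Subgroup.orderOf_mk]) (Subtype.ext hd) hdp hrd
  exact h

/-- An abelian Sylow subgroup of a group generated by elements of order prime to `p` meets the centre trivially. -/
theorem central_eq_one_of_abelian_sylow {X : Type*} [Group X] [Finite X] (P : Sylow p X)
    (hP : ∀ a ∈ (P : Subgroup X), ∀ b ∈ (P : Subgroup X), a * b = b * a) (hgen : Cfsg.pResidual p X = ⊤)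
    {z : X} (hz : z ∈ (P : Subgroup X)) (hc : ∀ x, z * x = x * z) : z = 1 := by
  letI : CommGroup ↥(P : Subgroup X) :=
    { (inferInstance : Group ↥(P : Subgroup X)) with mul_comm := fun a b => Subtype.ext (hP a a.2 b b.2) }
  set τ : X →* ↥(P : Subgroup X) := MonoidHom.transfer (MonoidHom.id ↥(P : Subgroup X)) with hτ
  have h1 : Cfsg.pResidual p X ≤ τ.ker := (Subgroup.closure_le _).2 fun g hg => by
    obtain ⟨k, hk⟩ := P.isPGroup' (τ g)
    refine PResidual.mem_of_pow_mem hg (k := k) (MonoidHom.mem_ker.2 ?_)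
    rw [map_pow, hk]
  have h2 : τ z = 1 := MonoidHom.mem_ker.1 ((hgen.ge.trans h1) (Subgroup.mem_top z))
  have key : ∀ (k : ℕ) (g₀ : X), g₀⁻¹ * z ^ k * g₀ ∈ (P : Subgroup X) → g₀⁻¹ * z ^ k * g₀ = z ^ k := fun k g₀ _ => by
    rw [mul_assoc, ((show Commute z g₀ from hc g₀).pow_left k).eq, inv_mul_cancel_left]
  have h3 : z ^ (P : Subgroup X).index = 1 := by
    have h4 := MonoidHom.transfer_eq_pow (MonoidHom.id ↥(P : Subgroup X)) z key
    rw [← hτ, h2] at h4
    exact (congrArg Subtype.val h4).symm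
  obtain ⟨k, hk⟩ := P.isPGroup' ⟨z, hz⟩
  have hk' : z ^ p ^ k = 1 := congrArg Subtype.val hk
  rw [← orderOf_eq_one_iff]
  exact Nat.dvd_one.1 (((hp.out.coprime_iff_not_dvd.2 P.not_dvd_index).pow_left k) ▸
    Nat.dvd_gcd (orderOf_dvd_of_pow_eq_one hk') (orderOf_dvd_of_pow_eq_one h3))

/-- In a `p`-group, what is generated modulo `W` by its own commutators lies in `W`. -/
theorem le_of_le_sup_commutator {S U W : Subgroup G} (hS : IsPGroup p S) (hU : U ≤ S) (hW : W ≤ S)
    (hWn : S ≤ Subgroup.normalizer (W : Set G)) (h : U ≤ W ⊔ ⁅U, S⁆) : U ≤ W := by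
  haveI : (W.subgroupOf S).Normal := (Subgroup.normal_subgroupOf_iff_le_normalizer hW).2 hWn
  set π := QuotientGroup.mk' (W.subgroupOf S)
  haveI : Group.IsNilpotent ↥S := hS.isNilpotent
  have hπ : Function.Surjective π := QuotientGroup.mk'_surjective _
  set V := (U.subgroupOf S).map π with hV
  haveI : Group.IsNilpotent (↥S ⧸ W.subgroupOf S) := Group.nilpotent_of_surjective π hπ
  have hV' : V ≤ ⁅V, (⊤ : Subgroup (↥S ⧸ W.subgroupOf S))⁆ := by
    rintro _ ⟨u, hu, rfl⟩
    have h1 : (u : G) ∈ ((W.subgroupOf S) ⊔ ⁅U.subgroupOf S, (⊤ : Subgroup ↥S)⁆).map S.subtype := by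
      rw [Subgroup.map_sup, Subgroup.map_commutator, Subgroup.map_subgroupOf_eq_of_le hW,
        Subgroup.map_subgroupOf_eq_of_le hU, ← MonoidHom.range_eq_map, Subgroup.range_subtype]
      exact h hu
    obtain ⟨x, hx, hxu⟩ := h1
    obtain rfl : x = u := S.subtype_injective hxu
    obtain ⟨a, ha, b, hb, rfl⟩ := Subgroup.mem_sup_of_normal_left.1 hx
    rw [map_mul, show π a = 1 from (QuotientGroup.eq_one_iff a).2 ha, one_mul, hV]
    have := Subgroup.mem_map_of_mem π hb
    rwa [Subgroup.map_commutator, Subgroup.map_top_of_surjective π hπ] at this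
  have hlow : ∀ n, V ≤ (⊤ : Subgroup (↥S ⧸ W.subgroupOf S)).lowerCentralSeries n := by
    intro n
    induction n with
    | zero => exact le_top
    | succ n ih => exact hV'.trans (Subgroup.commutator_mono ih le_rfl)
  obtain ⟨n, hn⟩ := Subgroup.nilpotent_iff_lowerCentralSeries.1 (inferInstance : Group.IsNilpotent (↥S ⧸ W.subgroupOf S))
  intro u hu
  have h2 : π ⟨u, hU hu⟩ ∈ (⊥ : Subgroup (↥S ⧸ W.subgroupOf S)) :=
    hn ▸ hlow n (Subgroup.mem_map_of_mem π (show (⟨u, hU hu⟩ : ↥S) ∈ U.subgroupOf S from hu))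
  exact (QuotientGroup.eq_one_iff (⟨u, hU hu⟩ : ↥S)).1 (Subgroup.mem_bot.1 h2)

/-- A homomorphism into a `p`-group kills a group generated by elements of order prime to `p`. -/
theorem hom_eq_one_of_pResidualOf {E : Subgroup G} (hE : pResidualOf p E = E) {H : Type*} [Group H]
    (hH : IsPGroup p H) (f : ↥E →* H) (x : ↥E) : f x = 1 := by
  have h : E ≤ f.ker.map E.subtype := BBlock.le_of_coprime hE fun g hg hc => by
    obtain ⟨k, hk⟩ := hH (f ⟨g, hg⟩)
    refine ⟨⟨g, hg⟩, PResidual.mem_of_pow_mem (G := ↥E) (p := p) (by rwa [Subgroup.orderOf_mk]) (k := k) ?_, rfl⟩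
    rw [MonoidHom.mem_ker, map_pow, hk]
  obtain ⟨y, hy, hyx⟩ := h x.2
  obtain rfl : y = x := E.subtype_injective hyx
  exact hy

theorem pResidualOf_idem (E : Subgroup G) : pResidualOf p (pResidualOf p E) = pResidualOf p E := by
  refine le_antisymm (Subgroup.map_subtype_le _) (BBlock.pResidualOf_le fun g hg hc => ?_)
  exact BBlock.mem_pResidualOf (BBlock.mem_pResidualOf hg hc) hc

theorem pResidual_pResidualOf (E : Subgroup G) : Cfsg.pResidual p ↥(pResidualOf p E) = ⊤ := by
  refine Subgroup.map_injective (pResidualOf p E).subtype_injective ?_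
  rw [← MonoidHom.range_eq_map, Subgroup.range_subtype]
  exact pResidualOf_idem E

end CfsgLib.BlockPush
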