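import Cfsg.Agent.Lib.BlockPush.Piece
import Cfsg.Agent.Lib.StSL.Two
import Cfsg.Agent.Lib.Baumann.BlockShape

/-!
The normal subgroups of `SL₂(q)` and its derived group.
-/

set_option autoImplicit false
set_option linter.unusedSectionVars false
set_option linter.style.haveILetI false

namespace CfsgLib.BlockPush

open CfsgLib Matrix
open CfsgLib.PSL2 (uSL vSL coe_uSL coe_vSL)
open scoped commutatorElement

variable {F : Type} [Field F]

local notation "SL" => Matrix.SpecialLinearGroup (Fin 2) F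

/-- A scalar matrix. -/
def IsScal (g : SL) : Prop := g.1 0 1 = 0 ∧ g.1 1 0 = 0 ∧ g.1 0 0 = g.1 1 1

theorem det_eq (g : SL) : g.1 0 0 * g.1 1 1 - g.1 0 1 * g.1 1 0 = 1 := by
  rw [← Matrix.det_fin_two]; exact g.2

theorem IsScal.eq {g : SL} (h : IsScal g) : g = 1 ∨ g = -1 := by
  have hd := det_eq g
  rw [h.1, h.2.1, mul_zero, sub_zero, ← h.2.2] at hd
  rcases mul_self_eq_one_iff.1 hd with e | e
  · refine Or.inl (Subtype.ext ?_)
    ext i j
    fin_cases i <;> fin_cases j <;> simp [h.1, h.2.1, ← h.2.2, e]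
  · refine Or.inr (Subtype.ext ?_)
    ext i j
    fin_cases i <;> fin_cases j <;> simp [h.1, h.2.1, ← h.2.2, e]

theorem IsScal.central {g : SL} (h : IsScal g) (x : SL) : g * x = x * g := by
  apply Subtype.ext
  ext i j
  fin_cases i <;> fin_cases j <;>
    simp [Matrix.mul_apply, Fin.sum_univ_two, h.1, h.2.1, ← h.2.2, mul_comm]

theorem conj_uGrp_low {g : SL} (hg : g.1 1 0 ≠ 0) :
    ∃ u : SL, u ∈ (uGrp : Subgroup SL) ∧ ∀ t : F, (u * g) * uSL t * (u * g)⁻¹ = vSL (-(g.1 1 0) ^ 2 * t) := by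
  refine ⟨uSL (-(g.1 0 0) / g.1 1 0), uSL_mem _, fun t => ?_⟩
  have h00 : (uSL (-(g.1 0 0) / g.1 1 0) * g).1 0 0 = 0 := by
    simp [coe_uSL, Matrix.mul_apply, Fin.sum_univ_two, div_mul_cancel₀ _ hg]
  have h10 : (uSL (-(g.1 0 0) / g.1 1 0) * g).1 1 0 = g.1 1 0 := by
    simp [coe_uSL, Matrix.mul_apply, Fin.sum_univ_two]
  have hd := det_eq (uSL (-(g.1 0 0) / g.1 1 0) * g)
  generalize uSL (-(g.1 0 0) / g.1 1 0) * g = k at h00 h10 hd ⊢
  rw [← h10]
  rw [h00, zero_mul, zero_sub] at hd
  rw [mul_inv_eq_iff_eq_mul]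
  apply Subtype.ext
  ext i j
  fin_cases i <;> fin_cases j <;>
    simp [coe_uSL, coe_vSL, Matrix.mul_apply, Fin.sum_univ_two, h00] <;>
    first | linear_combination (t * k.1 1 0) * hd | linear_combination (-(t * k.1 1 0)) * hd

/-- A subgroup containing the upper unitriangular group is triangular or everything. -/
theorem upper_or_top {H : Subgroup SL} (hU : uGrp ≤ H) : (∀ g ∈ H, g.1 1 0 = 0) ∨ H = ⊤ := by
  refine or_iff_not_imp_left.2 fun h => ?_
  push Not at h
  obtain ⟨g, hg, hg0⟩ := h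
  obtain ⟨u, hu, hk⟩ := conj_uGrp_low hg0
  refine PushUp.sl_top_of_transvections (fun t => hU (uSL_mem t)) fun t => ?_
  have hne : -(g.1 1 0) ^ 2 ≠ 0 := neg_ne_zero.2 (pow_ne_zero 2 hg0)
  have hug : u * g ∈ H := mul_mem (hU hu) hg
  have := hk (t / -(g.1 1 0) ^ 2)
  rw [mul_div_cancel₀ _ hne] at this
  rw [← this]
  exact mul_mem (mul_mem hug (hU (uSL_mem _))) (inv_mem hug)

/-- A normal subgroup consists of scalars or supplements the upper unitriangular group. -/
theorem scalar_or_sup_top (N : Subgroup SL) [N.Normal] : (∀ g ∈ N, IsScal g) ∨ N ⊔ uGrp = ⊤ := by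
  rcases upper_or_top (H := N ⊔ uGrp) le_sup_right with h | h
  · refine Or.inl fun g hg => ?_
    have h10 : g.1 1 0 = 0 := h g (Subgroup.mem_sup_left hg)
    have hd := det_eq g
    rw [h10, mul_zero, sub_zero] at hd
    have conj : ∀ v : SL, ∃ x : SL, x.1 1 0 = 0 ∧ v * g = x * v := fun v =>
      ⟨v * g * v⁻¹, h _ (Subgroup.mem_sup_left (‹N.Normal›.conj_mem g hg v)), by group⟩
    obtain ⟨x, hx, e⟩ := conj (uSL 1 * vSL (-1) * uSL 1)
    have e11 := congrFun (congrFun (congrArg Subtype.val e) 1) 1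
    simp [coe_uSL, coe_vSL, Matrix.mul_apply, Fin.sum_univ_two, hx] at e11
    obtain ⟨y, hy, e'⟩ := conj (vSL 1)
    have f10 := congrFun (congrFun (congrArg Subtype.val e') 1) 0
    have f11 := congrFun (congrFun (congrArg Subtype.val e') 1) 1
    simp [coe_vSL, Matrix.mul_apply, Fin.sum_univ_two, hy, h10, e11] at f10 f11
    exact ⟨e11, h10, f10.trans f11.symm⟩
  · exact Or.inr h

theorem scal_of_comm {d : SL} (h1 : d * uSL 1 = uSL 1 * d) (h2 : d * vSL 1 = vSL 1 * d) : IsScal d := by
  have a := congrFun (congrFun (congrArg Subtype.val h1) 0) 0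
  have b := congrFun (congrFun (congrArg Subtype.val h1) 0) 1
  have c := congrFun (congrFun (congrArg Subtype.val h2) 0) 0
  simp [coe_uSL, coe_vSL, Matrix.mul_apply, Fin.sum_univ_two] at a b c
  refine ⟨c, a, ?_⟩
  linear_combination b

/-- Central modulo the scalars is scalar, in odd characteristic. -/
theorem scal_of_comm_scal (h2 : (2 : F) ≠ 0) {d : SL} (hd : ∀ e : SL, IsScal (d * e * d⁻¹ * e⁻¹)) : IsScal d := by
  have key : ∀ e : SL, d * e = e * d ∨ d * e = -(e * d) := fun e => by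
    rcases (hd e).eq with h | h
    · exact Or.inl (mul_inv_eq_iff_eq_mul.1 (mul_inv_eq_one.1 h))
    · refine Or.inr ?_
      have h' : d * e * d⁻¹ = -1 * e := mul_inv_eq_iff_eq_mul.1 h
      rw [mul_inv_eq_iff_eq_mul.1 h', mul_assoc, neg_one_mul]
  have hdet := det_eq d
  refine scal_of_comm ((key (uSL 1)).resolve_right fun h => ?_) ((key (vSL 1)).resolve_right fun h => ?_)
  · have a := congrFun (congrFun (congrArg Subtype.val h) 1) 0
    have b := congrFun (congrFun (congrArg Subtype.val h) 0) 0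
    simp [coe_uSL, Matrix.mul_apply, Matrix.vecMul, dotProduct, Fin.sum_univ_two] at a b
    have hc : d.1 1 0 = 0 := (mul_eq_zero.1 (show (2 : F) * d.1 1 0 = 0 by linear_combination a)).resolve_left h2
    have ha : d.1 0 0 = 0 := (mul_eq_zero.1 (show (2 : F) * d.1 0 0 = 0 by linear_combination b - hc)).resolve_left h2
    simp [hc, ha] at hdet
  · have a := congrFun (congrFun (congrArg Subtype.val h) 0) 1
    have b := congrFun (congrFun (congrArg Subtype.val h) 0) 0
    simp [coe_vSL, Matrix.mul_apply, Matrix.vecMul, dotProduct, Fin.sum_univ_two] at a b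
    have hb : d.1 0 1 = 0 := (mul_eq_zero.1 (show (2 : F) * d.1 0 1 = 0 by linear_combination a)).resolve_left h2
    have ha : d.1 0 0 = 0 := (mul_eq_zero.1 (show (2 : F) * d.1 0 0 = 0 by linear_combination b - hb)).resolve_left h2
    simp [hb, ha] at hdet

theorem uGrp_comm {a b : SL} (ha : a ∈ (uGrp : Subgroup SL)) (hb : b ∈ (uGrp : Subgroup SL)) : a * b = b * a := by
  rw [uGrp_eq ha, uGrp_eq hb]
  apply Subtype.ext
  ext i j
  fin_cases i <;> fin_cases j <;> simp [coe_uSL, Matrix.mul_apply, Fin.sum_univ_two, add_comm]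

/-- A normal subgroup with a supplementary `uGrp` contains the derived group. -/
theorem commutator_le_of_sup_top {N : Subgroup SL} [N.Normal] (h : N ⊔ uGrp = ⊤) : commutator SL ≤ N := by
  rw [commutator_def, Subgroup.commutator_le]
  intro a _ b _
  obtain ⟨n, hn, u, hu, rfl⟩ := Subgroup.mem_sup_of_normal_left.1 (h.ge (Subgroup.mem_top a))
  obtain ⟨m, hm, v, hv, rfl⟩ := Subgroup.mem_sup_of_normal_left.1 (h.ge (Subgroup.mem_top b))
  set π := QuotientGroup.mk' N
  rw [← QuotientGroup.eq_one_iff]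
  show π ⁅n * u, m * v⁆ = 1
  rw [map_commutatorElement, map_mul, map_mul, show π n = 1 from (QuotientGroup.eq_one_iff n).2 hn,
    show π m = 1 from (QuotientGroup.eq_one_iff m).2 hm, one_mul, one_mul, ← map_commutatorElement,
    commutatorElement_eq_one_iff_mul_comm.2 (uGrp_comm hu hv), map_one]

theorem derived_sup_uGrp : commutator SL ⊔ uGrp = ⊤ := by
  refine (scalar_or_sup_top (commutator SL)).resolve_left fun h => ?_
  have hm : ⁅uSL (1 : F), vSL 1⁆ ∈ commutator SL := by
    rw [commutator_def]; exact Subgroup.commutator_mem_commutator (Subgroup.mem_top _) (Subgroup.mem_top _)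
  have := (h _ hm).2.1
  simp [commutatorElement_def, coe_uSL, coe_vSL, Matrix.mul_apply, Fin.sum_univ_two, Matrix.adjugate_fin_two] at this

/-- A normal subgroup that is not scalar contains the derived group. -/
theorem scalar_or_commutator_le (N : Subgroup SL) [N.Normal] : (∀ g ∈ N, IsScal g) ∨ commutator SL ≤ N :=
  (scalar_or_sup_top N).imp_right commutator_le_of_sup_top

/-- The elements of order prime to the characteristic lie in the derived group. -/
theorem coprime_mem_derived [Fintype F] (p : ℕ) [Fact p.Prime] [CharP F p] {g : SL}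
    (hg : (orderOf g).Coprime p) : g ∈ commutator SL := by
  set π := QuotientGroup.mk' (commutator SL)
  obtain ⟨n, hn, u, hu, rfl⟩ :=
    Subgroup.mem_sup_of_normal_left.1 (derived_sup_uGrp.ge (Subgroup.mem_top g))
  obtain ⟨k, hk⟩ := isPGroup_uGrp p ⟨u, hu⟩
  have e : π (n * u) = π u := by
    rw [map_mul, show π n = 1 from (QuotientGroup.eq_one_iff n).2 hn, one_mul]
  have h1 : orderOf (π (n * u)) ∣ Nat.gcd (orderOf (n * u)) (p ^ k) := Nat.dvd_gcd (orderOf_map_dvd π _)
    (orderOf_dvd_of_pow_eq_one (by rw [e, ← map_pow, show u ^ p ^ k = 1 from congrArg Subtype.val hk, map_one]))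
  rw [(hg.pow_right k), Nat.dvd_one, orderOf_eq_one_iff] at h1
  exact (QuotientGroup.eq_one_iff _).1 h1

end CfsgLib.BlockPush
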