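import Cfsg.Agent.Lib.BlockPush.LayoutGlobal
import Cfsg.Agent.Lib.BlockPush.SLFacts
import Cfsg.Agent.Lib.BlockPush.GroupAux
import Cfsg.Agent.Lib.ZJFailure.Section

/-!
Further properties of the components: parts as homomorphisms, the elements of order prime to `p`.
-/

set_option autoImplicit false
set_option linter.unusedSectionVars false
set_option linter.style.haveILetI false

namespace CfsgLib.BlockPush.Layout

open Cfsg CfsgLib CfsgLib.RootCommute CfsgLib.RootBlocks Equiv CfsgLib.SymSylow Matrix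
open CfsgLib.SL2Pair (fix mem_fix)
open CfsgLib.StrongFusion (cm cm_mono cm_cm cm_inv_cm card_cm conj_mem_cm)
open CfsgLib.PSL2 (uSL vSL)
open scoped commutatorElement

universe u v

variable {P : Type u} [Group P] [Finite P] {W : Type v} [AddCommGroup W] [Finite W] {p : ℕ} [hp : Fact p.Prime]
  {ρ : P →* AddMonoid.End W} {T : Sylow p P} {M : Subgroup P} {r : ℕ} {E : Fin r → Subgroup P}
  (L : Layout ρ T M E)
include L

/-- The part in one component, as a homomorphism. -/
noncomputable def partHom (i : Fin r) : ↥(⨆ j, E j) →* ↥(E i) :=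
  MonoidHom.mk' (fun g => ⟨Classical.choose (L.exists_part i g.2), (Classical.choose_spec (L.exists_part i g.2)).1⟩)
    fun g h => Subtype.ext (L.part_unique (Classical.choose_spec (L.exists_part i (g * h).2))
      (L.part_mul g.2 (Classical.choose_spec (L.exists_part i g.2)) (Classical.choose_spec (L.exists_part i h.2))))

theorem isPart_partHom (i : Fin r) (g : ↥(⨆ j, E j)) : IsPart ρ (E i) (g : P) (L.partHom i g : P) :=
  Classical.choose_spec (L.exists_part i g.2)

theorem partHom_eq {i : Fin r} {g : P} (hg : g ∈ ⨆ j, E j) {a : P} (h : IsPart ρ (E i) g a) :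
    (L.partHom i ⟨g, hg⟩ : P) = a := L.part_unique (L.isPart_partHom i _) h

theorem partHom_self {i : Fin r} {g : P} (hg : g ∈ E i) : (L.partHom i ⟨g, le_iSup E i hg⟩ : P) = g :=
  L.partHom_eq _ (L.part_self hg)

theorem partHom_other {i j : Fin r} (hij : j ≠ i) {g : P} (hg : g ∈ E j) :
    L.partHom i ⟨g, le_iSup E j hg⟩ = 1 := Subtype.ext (L.partHom_eq _ (L.part_other hij hg))

theorem eq_of_partHom {g g' : ↥(⨆ j, E j)} (h : ∀ i, L.partHom i g = L.partHom i g') : g = g' :=
  Subtype.ext (L.eq_of_parts g.2 g'.2 fun i => ⟨_, L.isPart_partHom i g, h i ▸ L.isPart_partHom i g'⟩)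

/-- An element of the product acts on a component through its part. -/
theorem conj_part {i : Fin r} {g a e : P} (hg : g ∈ ⨆ j, E j) (ha : IsPart ρ (E i) g a) (he : e ∈ E i) :
    g * e * g⁻¹ = a * e * a⁻¹ := by
  have heS := le_iSup E i he
  have haS := le_iSup E i ha.1
  refine congrArg Subtype.val (L.eq_of_partHom (g := ⟨g, hg⟩ * ⟨e, heS⟩ * ⟨g, hg⟩⁻¹)
    (g' := ⟨a, haS⟩ * ⟨e, heS⟩ * ⟨a, haS⟩⁻¹) fun j => ?_)
  simp only [map_mul, map_inv]
  by_cases h : j = i
  · subst h
    have e1 : L.partHom j ⟨g, hg⟩ = L.partHom j ⟨a, haS⟩ :=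
      Subtype.ext ((L.partHom_eq hg ha).trans (L.partHom_self ha.1).symm)
    rw [e1]
  · rw [L.partHom_other (Ne.symm h) he, mul_one, mul_inv_cancel, mul_one, mul_inv_cancel]

theorem part_conj {i : Fin r} {b g a : P} (hb : cm b (E i) = E i) (h : IsPart ρ (E i) g a) :
    IsPart ρ (E i) (b * g * b⁻¹) (b * a * b⁻¹) := by
  refine ⟨hb ▸ conj_mem_cm h.1, fun w => ?_⟩
  rw [act_mul, act_mul, act_mul, act_mul, ← map_sub, ← hb, RootCommute.mem_fix_cm, act_inv]
  exact h.2 _

/-- The parts of an element generated by offenders are generated by offenders. -/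
theorem part_offs {i : Fin r} {g a : P} (hg : g ∈ offs ρ T ⊤) (ha : IsPart ρ (E i) g a) : a ∈ offs ρ T (E i) := by
  set S : Subgroup P := ((offs ρ T (E i)).subgroupOf (E i)).comap (L.partHom i) |>.map (⨆ j, E j).subtype with hS
  have h1 : offs ρ T ⊤ ≤ S := by
    rw [L.offs_eq]
    refine iSup_le fun j x hx => ?_
    have hxE : x ∈ E j := (offs_le hx).2
    refine ⟨⟨x, le_iSup E j hxE⟩, ?_, rfl⟩
    show (L.partHom i _ : P) ∈ offs ρ T (E i)
    by_cases h : j = i
    · subst h; rwa [L.partHom_self hxE]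
    · rw [L.partHom_other h hxE]; exact one_mem _
  obtain ⟨y, hy, rfl⟩ := h1 hg
  have h2 : (L.partHom i y : P) ∈ offs ρ T (E i) := hy
  rwa [L.part_unique (L.isPart_partHom i y) ha] at h2

theorem offs_le_top (i : Fin r) : offs ρ T (E i) ≤ offs ρ T ⊤ := by
  rw [L.offs_eq]; exact le_iSup (fun j => offs ρ T (E j)) i

theorem mem_offs_of_parts {g : P} (hg : g ∈ ⨆ j, E j) (h : ∀ i, (L.partHom i ⟨g, hg⟩ : P) ∈ offs ρ T (E i)) :
    g ∈ offs ρ T ⊤ :=
  L.mem_of_parts hg fun i => ⟨_, L.offs_le_top i (h i), L.isPart_partHom i ⟨g, hg⟩⟩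

theorem ne_bot (i : Fin r) : E i ≠ ⊥ := fun e => by
  obtain ⟨B, hB, -, hne, -⟩ := L.exists_offender i
  exact hne (le_bot_iff.1 ((hB.trans inf_le_right).trans e.le))

/-- A component has no normal `p`-subgroup. -/
theorem no_core_comp (i : Fin r) {X : Subgroup P} (hX : X ≤ E i) (hXp : IsPGroup p X)
    (hn : E i ≤ Subgroup.normalizer (X : Set P)) : X = ⊥ := by
  set N := ⨆ j, E j with hN
  haveI := L.normal
  have hN' : N ≤ Subgroup.normalizer (X : Set P) := iSup_le fun j => by
    by_cases h : j = i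
    · subst h; exact hn
    · intro g hg
      refine ZJFailure.mem_normalizer_of_forall fun x hx => ?_
      rw [L.comm j i h g hg x (hX hx), mul_inv_cancel_right]; exact hx
  have hle : X.subgroupOf N ≤ pCore p ↥N := by
    haveI : (X.subgroupOf N).Normal :=
      (Subgroup.normal_subgroupOf_iff_le_normalizer (hX.trans (le_iSup E i))).2 hN'
    exact le_pCore (hXp.of_equiv (Subgroup.subgroupOfEquivOfLe (hX.trans (le_iSup E i))).symm)
  have h2 : X ≤ pCore p P := fun x hx =>
    CfsgLib.map_pCore_le p N ⟨⟨x, hX.trans (le_iSup E i) hx⟩, hle hx, rfl⟩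
  rw [L.base.no_core (pCore p P) inferInstance (isPGroup_pCore p)] at h2
  exact le_bot_iff.1 h2

theorem not_comm_comp (i : Fin r) (hc : ∀ x ∈ E i, ∀ y ∈ E i, x * y = y * x) : False := by
  set J := offs ρ T (E i) with hJ
  have hJE : J ≤ E i := fun x hx => (offs_le hx).2
  have hn : E i ≤ Subgroup.normalizer (J : Set P) := fun g hg => ZJFailure.mem_normalizer_of_forall fun x hx => by
    rw [hc g hg x (hJE hx), mul_inv_cancel_right]; exact hx
  have hb := L.no_core_comp i hJE (T.2.to_le (offs_le.trans inf_le_left)) hn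
  obtain ⟨B, hB, he, hne, hmu⟩ := L.exists_offender i
  exact hne (le_bot_iff.1 ((le_offs hB he hmu).trans hb.le))

theorem injective_comp : Function.Injective E := fun i j h => by
  by_contra hne
  exact L.not_comm_comp i fun x hx y hy => L.comm i j hne x hx y (h ▸ hy)

theorem perm_eq (g : P) (i : Fin r) : ∃ j, cm g (E i) = E j := let ⟨j, h, _⟩ := L.perm g i; ⟨j, h⟩

end CfsgLib.BlockPush.Layout

namespace CfsgLib.BlockPush

open Cfsg CfsgLib CfsgLib.RootCommute CfsgLib.RootBlocks Equiv CfsgLib.SymSylow Matrix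
open CfsgLib.SL2Pair (fix mem_fix)
open CfsgLib.StrongFusion (cm cm_mono cm_cm cm_inv_cm card_cm conj_mem_cm)
open CfsgLib.PSL2 (uSL vSL)
open scoped commutatorElement

universe u v

theorem pResidual_sl {F : Type} [Field F] [Fintype F] (p : ℕ) [Fact p.Prime] [CharP F p] :
    Cfsg.pResidual p (Matrix.SpecialLinearGroup (Fin 2) F) = commutator _ := by
  refine le_antisymm ((Subgroup.closure_le _).2 fun g hg => coprime_mem_derived p hg) ?_
  haveI := PResidual.pResidual_normal (G := Matrix.SpecialLinearGroup (Fin 2) F) (p := p)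
  refine (scalar_or_commutator_le _).resolve_left fun h => ?_
  obtain ⟨S, hS⟩ := exists_sylow_uGrp (F := F) p
  have h1 := PResidual.pResidual_sup_sylow S
  rw [hS] at h1
  have h2 : vSL (1 : F) ∈ (uGrp : Subgroup (Matrix.SpecialLinearGroup (Fin 2) F)) ⊔
      Cfsg.pResidual p (Matrix.SpecialLinearGroup (Fin 2) F) := h1 ▸ Subgroup.mem_top _
  obtain ⟨a, ha, b, hb, e⟩ := Subgroup.mem_sup_of_normal_right.1 h2
  have e10 := congrFun (congrFun (congrArg Subtype.val e) 1) 0
  simp [PSL2.coe_vSL, Matrix.mul_apply, Fin.sum_univ_two, ha.1, (h b hb).2.1] at e10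

theorem alternating_le_pResidual {α : Type u} [Fintype α] [DecidableEq α] :
    alternatingGroup α ≤ Cfsg.pResidual 2 (Perm α) := by
  rw [← Equiv.Perm.closure_three_cycles_eq_alternating]
  exact Subgroup.closure_mono fun g hg => by
    show (orderOf g).Coprime 2
    rw [Equiv.Perm.IsThreeCycle.orderOf hg]; decide

theorem pResidual_perm {α : Type u} [Fintype α] [DecidableEq α] :
    Cfsg.pResidual 2 (Perm α) = alternatingGroup α := by
  refine le_antisymm ?_ alternating_le_pResidual
  refine PResidual.pResidual_le_of_pow fun g => ⟨1, Perm.mem_alternatingGroup.2 ?_⟩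
  rw [pow_one, map_pow]
  exact Int.units_sq _

theorem map_pResidualOf {P : Type u} [Group P] [Finite P] {p : ℕ} [Fact p.Prime] {E : Subgroup P} {G0 : Type v}
    [Group G0] [Finite G0] (e : ↥E ≃* G0) {g : ↥E} :
    e g ∈ Cfsg.pResidual p G0 ↔ (g : P) ∈ pResidualOf p E := by
  rw [← PResidual.map_pResidual (f := e.toMonoidHom) e.surjective]
  refine ⟨fun ⟨x, hx, he⟩ => ⟨x, hx, ?_⟩, fun ⟨x, hx, he⟩ => ⟨x, hx, ?_⟩⟩
  · exact congrArg Subtype.val (e.injective he)
  · rw [Subtype.ext he]; rfl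

section Kind

variable {P : Type u} [Group P] [Finite P] {W : Type v} [AddCommGroup W] [Finite W] {p : ℕ} [hp : Fact p.Prime]
  {ρ : P →* AddMonoid.End W} {T : Sylow p P} {E : Subgroup P}

/-- A component is generated by its elements of order prime to `p` and its offenders. -/
theorem res_sup_offs (h : IsSLKind ρ T E ∨ IsPermKind ρ T E) : E ≤ pResidualOf p E ⊔ offs ρ T E := by
  intro x hx
  rcases h with ⟨F, iF, iF', n, e, ψ, hn, hcard, hch, -, -, -, -, hoffs⟩ |
    ⟨n, e, ψ, μ, rfl, hn, -, -, -, hμ, -, hoffs⟩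
  · haveI := hch
    have h1 : e ⟨x, hx⟩ ∈ commutator (Matrix.SpecialLinearGroup (Fin 2) F) ⊔ uGrp := (derived_sup_uGrp (F := F)).ge (Subgroup.mem_top _)
    rw [← pResidual_sl p] at h1
    haveI := PResidual.pResidual_normal (G := Matrix.SpecialLinearGroup (Fin 2) F) (p := p)
    obtain ⟨a, ha, b, hb, hab⟩ := Subgroup.mem_sup_of_normal_left.1 h1
    have hx' : (⟨x, hx⟩ : ↥E) = e.symm a * e.symm b := by rw [← map_mul, hab, MulEquiv.symm_apply_apply]
    rw [show x = (e.symm a : P) * (e.symm b : P) from congrArg Subtype.val hx']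
    exact mul_mem (Subgroup.mem_sup_left ((map_pResidualOf e).1 (by rwa [MulEquiv.apply_symm_apply])))
      (Subgroup.mem_sup_right ((hoffs _).2 (by rwa [MulEquiv.apply_symm_apply])))
  · obtain ⟨a, ha⟩ : ∃ a, μ a ≠ a := by
      by_contra hno
      push Not at hno
      have h2 : 2 ≤ Fintype.card (Fin (2 ^ n + 1)) := by
        rw [Fintype.card_fin]; have := Nat.one_le_two_pow (n := n); omega
      obtain ⟨a, b, hab⟩ := Fintype.exists_pair_of_one_lt_card h2
      exact hab (hμ.fixed a b (hno a) (hno b))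
    have h1 : ∀ y : Perm (Fin (2 ^ n + 1)), (e.symm y : P) ∈ pResidualOf 2 E ⊔ offs ρ T E := by
      intro y
      rcases Int.units_eq_one_or (Perm.sign y) with hs | hs
      · exact Subgroup.mem_sup_left ((map_pResidualOf e).1 (by
          rw [MulEquiv.apply_symm_apply, pResidual_perm]; exact Perm.mem_alternatingGroup.2 hs))
      · have e1 : y = (y * swap a (μ a)) * swap a (μ a) := by rw [mul_assoc, Equiv.swap_mul_self, mul_one]
        rw [e1, map_mul, Subgroup.coe_mul]
        refine mul_mem (Subgroup.mem_sup_left ((map_pResidualOf e).1 ?_)) (Subgroup.mem_sup_right ((hoffs _).2 ?_))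
        · rw [MulEquiv.apply_symm_apply, pResidual_perm]
          refine Perm.mem_alternatingGroup.2 ?_
          rw [map_mul, hs, Perm.sign_swap (Ne.symm ha)]; decide
        · rw [MulEquiv.apply_symm_apply]; exact swap_mem_pairGrp μ a
    have := h1 (e ⟨x, hx⟩)
    rwa [MulEquiv.symm_apply_apply] at this

/-- The subgroup generated by the offenders of a component is elementary abelian. -/
theorem offs_elem (h : IsSLKind ρ T E ∨ IsPermKind ρ T E) : Elem p (offs ρ T E) := by
  rcases h with ⟨F, iF, iF', n, e, ψ, -, -, hch, -, -, -, -, hoffs⟩ | ⟨n, e, ψ, μ, rfl, -, -, -, -, hμ, -, hoffs⟩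
  · haveI := hch
    refine ⟨fun a ha b hb => congrArg Subtype.val (e.injective (a₁ := ⟨a, (offs_le ha).2⟩ * ⟨b, (offs_le hb).2⟩)
      (a₂ := ⟨b, (offs_le hb).2⟩ * ⟨a, (offs_le ha).2⟩) ?_), fun a ha => ?_⟩
    · rw [map_mul, map_mul]
      exact uGrp_comm ((hoffs ⟨a, _⟩).1 ha) ((hoffs ⟨b, _⟩).1 hb)
    · refine congrArg Subtype.val (e.injective (a₁ := ⟨a, (offs_le ha).2⟩ ^ p) (a₂ := 1) ?_)
      rw [map_pow, map_one, uGrp_eq ((hoffs ⟨a, _⟩).1 ha)]
      generalize (e ⟨a, (offs_le ha).2⟩).1 0 1 = t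
      have hpow : ∀ k : ℕ, uSL t ^ k = uSL ((k : F) * t) := by
        intro k
        induction k with
        | zero => rw [pow_zero, Nat.cast_zero, zero_mul]; exact Subtype.ext (by simp [PSL2.coe_uSL, Matrix.one_fin_two])
        | succ k ih =>
          rw [pow_succ, ih]
          refine Subtype.ext ?_
          ext i j
          fin_cases i <;> fin_cases j <;> simp [PSL2.coe_uSL, Matrix.mul_apply, Fin.sum_univ_two]; ring
      rw [hpow, CharP.cast_eq_zero, zero_mul]
      exact Subtype.ext (by simp [PSL2.coe_uSL, Matrix.one_fin_two])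
  · have hk : ∀ {a : P} (ha : a ∈ offs ρ T E), e ⟨a, (offs_le ha).2⟩ ∈ pairKernel μ hμ.invol := fun ha =>
      pairGrp_le hμ ((hoffs ⟨_, _⟩).1 ha)
    have hsq : ∀ g ∈ pairKernel μ hμ.invol, g ^ 2 = 1 := fun g hg => pairKernel_sq hg
    refine ⟨fun a ha b hb => congrArg Subtype.val (e.injective (a₁ := ⟨a, (offs_le ha).2⟩ * ⟨b, (offs_le hb).2⟩)
      (a₂ := ⟨b, (offs_le hb).2⟩ * ⟨a, (offs_le ha).2⟩) ?_), fun a ha => ?_⟩
    · rw [map_mul, map_mul]
      have e1 := hsq _ (mul_mem (hk ha) (hk hb))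
      have e2 : ∀ {g}, g ∈ pairKernel μ hμ.invol → g⁻¹ = g := fun hg => by
        rw [inv_eq_iff_mul_eq_one, ← pow_two]; exact hsq _ hg
      rw [← e2 (mul_mem (hk hb) (hk ha)), _root_.mul_inv_rev, e2 (hk ha), e2 (hk hb)]
    · exact congrArg Subtype.val (e.injective (a₁ := ⟨a, (offs_le ha).2⟩ ^ 2) (a₂ := 1) (by
        rw [map_pow, map_one]; exact hsq _ (hk ha)))

end Kind

namespace Layout

variable {P : Type u} [Group P] [Finite P] {W : Type v} [AddCommGroup W] [Finite W] {p : ℕ} [hp : Fact p.Prime]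
  {ρ : P →* AddMonoid.End W} {T : Sylow p P} {M : Subgroup P} {r : ℕ} {E : Fin r → Subgroup P}
  (L : Layout ρ T M E)
include L

theorem res_ne_bot (i : Fin r) : pResidualOf p (E i) ≠ ⊥ := fun h => by
  have h1 := res_sup_offs (L.kind i)
  rw [h, bot_sup_eq] at h1
  exact L.not_comm_comp i fun x hx y hy => (offs_elem (L.kind i)).1 x (h1 hx) y (h1 hy)

theorem res_normal (i : Fin r) : E i ≤ Subgroup.normalizer (pResidualOf p (E i) : Set P) := fun g hg =>
  ZJFailure.mem_normalizer_of_forall fun x hx => by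
    obtain ⟨y, hy, rfl⟩ := hx
    exact ⟨⟨g, hg⟩ * y * ⟨g, hg⟩⁻¹, PResidual.pResidual_normal.conj_mem y hy _, rfl⟩

/-- The displacements by a component come from its elements of order prime to `p`. -/
theorem img_le_img_res (i : Fin r) : img ρ (E i) ≤ img ρ (pResidualOf p (E i)) := by
  set E' := pResidualOf p (E i) with hE'
  set J := offs ρ T (E i) with hJ
  set I := img ρ E' with hI
  have hinv : ∀ g ∈ E i, ∀ x ∈ I, ρ g x ∈ I := fun g hg x hx => by
    have h := mem_img_cm ρ (g := g) hx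
    rwa [show cm g E' = E' from Subgroup.mem_normalizer_iff_map_conj_eq.1 (L.res_normal i hg)] at h
  have hEI : E i ≤ cosetStab ρ (I ⊔ img ρ J) := (res_sup_offs (L.kind i)).trans (sup_le
    (fun g hg x => AddSubgroup.mem_sup_left (sub_mem_img ρ hg x))
    fun g hg x => AddSubgroup.mem_sup_right (sub_mem_img ρ hg x))
  have hEle : img ρ (E i) ≤ I ⊔ img ρ J := (RootCommute.img_le ρ).2 fun g hg => hEI hg
  refine hEle.trans (sup_le le_rfl ((RootCommute.img_le ρ).2 fun j hj x => ?_))
  have hjE : j ∈ E i := (offs_le hj).2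
  obtain ⟨a, ha, b, hb, rfl⟩ := AddSubgroup.mem_sup.1
    ((fix_sup_img L.sum L.other i).ge (AddSubgroup.mem_top x))
  rw [map_add, ha j hjE, add_sub_add_left_eq_sub]
  obtain ⟨c, hc, d, hd, rfl⟩ := AddSubgroup.mem_sup.1 (hEle hb)
  have hdJ : ρ j d = d := L.quad (img_mono ρ (L.offs_le_top i) hd) j (L.offs_le_top i hj)
  rw [map_add, hdJ, add_sub_add_right_eq_sub]
  exact sub_mem (hinv j hjE c hc) hc

theorem img_res (i : Fin r) : img ρ (pResidualOf p (E i)) = img ρ (E i) :=
  le_antisymm (img_mono ρ (Subgroup.map_subtype_le _)) (L.img_le_img_res i)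

/-- Nothing new is fixed by the elements of order prime to `p`. -/
theorem qfix_res (i : Fin r) : qfix ρ (E i) (pResidualOf p (E i)) ≤ fix ρ (E i) := by
  set E' := pResidualOf p (E i) with hE'
  have hle : fix ρ (E i) ≤ qfix ρ (E i) E' := fun w hw a ha => by
    rw [hw a (Subgroup.map_subtype_le _ ha), sub_self]; exact zero_mem _
  have hinv : ∀ g ∈ E i, ∀ w ∈ qfix ρ (E i) E', ρ g w ∈ qfix ρ (E i) E' := fun g hg w hw a ha => by
    have h1 := hw (g⁻¹ * a * g) (by
      have := (Subgroup.mem_normalizer_iff.1 (inv_mem (L.res_normal i hg)) a).1 ha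
      rwa [inv_inv] at this)
    have h2 := L.fix_inv (le_iSup E i hg) h1
    rwa [map_sub, ← act_mul, show g * (g⁻¹ * a * g) = a * g by group, act_mul] at h2
  rcases (L.comp i).irr (qfix ρ (E i) E') hle hinv with h | h
  · exact h.le
  · exfalso
    refine L.res_ne_bot i ((Subgroup.eq_bot_iff_forall _).2 fun a ha => ?_)
    exact (L.comp i).faithful a (Subgroup.map_subtype_le _ ha) fun w => (h.ge (AddSubgroup.mem_top w) : w ∈ _) a ha

end Layout

end CfsgLib.BlockPush
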