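import Cfsg.Agent.Lib.BlockPush.PushPlus
import Cfsg.Agent.Lib.BlockPush.CompFacts
import Cfsg.Agent.Lib.BlockPush.GroupAux
import Cfsg.Agent.Lib.Elementary
import Cfsg.Agent.Lib.YoshidaTransfer

/-!
The second configuration read inside the subgroup generated by the elements of order prime to three.
-/

set_option autoImplicit false
set_option linter.unusedSectionVars false
set_option linter.style.haveILetI false

namespace CfsgLib.BlockPush

open Cfsg Subgroup CfsgLib CfsgLib.PushRankOne CfsgLib.PushUp Matrix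
open CfsgLib.PSL2 (uSL vSL uu vv uHom vHom)
open scoped commutatorElement

universe u

variable {G : Type u} [Group G] [Finite G] {p : ℕ} [hp : Fact p.Prime]

/-- The elements of the module inverted by `z`. -/
def wNeg (S : Sylow p G) (z : G) : Subgroup G where
  carrier := {v | v ∈ vmod S ∧ v ∈ centralizer (vmod S : Set G) ∧ z * v * z⁻¹ = v⁻¹}
  one_mem' := ⟨one_mem _, one_mem _, by simp⟩
  mul_mem' := fun {a b} ha hb => ⟨mul_mem ha.1 hb.1, mul_mem ha.2.1 hb.2.1, by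
    have h : b * a = a * b := mem_centralizer_iff.mp ha.2.1 b hb.1
    rw [show z * (a * b) * z⁻¹ = z * a * z⁻¹ * (z * b * z⁻¹) by group, ha.2.2, hb.2.2, ← _root_.mul_inv_rev, h]⟩
  inv_mem' := fun {a} ha => ⟨inv_mem ha.1, inv_mem ha.2.1, by
    rw [show z * a⁻¹ * z⁻¹ = (z * a * z⁻¹)⁻¹ by group, ha.2.2]⟩

/-- The second configuration together with its coordinates and an involution of the residual over `-1`. -/
structure TwoEnv (S : Sylow p G) (T' X Y A C D : Subgroup G) (F : Type) [Field F] [Fintype F] [CharP F p]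
    (f : G →* Matrix.ProjectiveSpecialLinearGroup (Fin 2) F) (ρ : G →* Matrix.SpecialLinearGroup (Fin 2) F)
    (φ φ' : G → Fin 2 → F) (z : G) : Prop where
  two : TwoS S T' X Y A C D
  setting : Setting S
  mild : Mild S
  coords : PushUp.Coords p F (pCore p G) (S : Subgroup G) T' f
  sect : PushUp.Sect ρ (vmod S) (zc S) φ
  sect' : PushUp.Sect ρ (pCore p G) D φ'
  surj : Function.Surjective ρ
  ker : ρ.ker = pCore p G
  rho_S : ∀ s ∈ (S : Subgroup G), ∀ t, f s = uu t → ρ s = uSL t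
  line : ∀ y ∈ vmod S, (φ y 1 = 0 ↔ ∃ a ∈ fx (vmod S) (S : Subgroup G), a⁻¹ * y ∈ zc S)
  line' : ∀ y ∈ pCore p G, (φ' y 1 = 0 ↔ ∃ a ∈ C, a⁻¹ * y ∈ D)
  three : p = 3
  rho_z : ρ z = -1
  sq : z * z = 1
  res : z ∈ Cfsg.pResidual p G

theorem exists_twoEnv {S : Sylow p G} {T' X Y A C D : Subgroup G} (h : TwoS S T' X Y A C D) (hS : Setting S)
    (hd : Mild S) {F : Type} [Field F] [Fintype F] [CharP F p]
    {f : G →* Matrix.ProjectiveSpecialLinearGroup (Fin 2) F}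
    (hC : PushUp.Coords p F (pCore p G) (S : Subgroup G) T' f) :
    ∃ ρ φ φ' z, TwoEnv S T' X Y A C D F f ρ φ φ' z := by
  have h3 := h.toTwo.p_eq_three hS hd hC
  obtain ⟨ρ, φ, hsect, hρ, hρS, hρT, hline⟩ := exists_sect_vmod hS hd h.opp h.conj hC
  obtain ⟨ρ', φ', hsect', -, hρS', hρT', hline'⟩ := h.toTwo.exists_sect_core hS hd hC
  obtain rfl := h.toTwo.rho_eq hS hd hC hρS' hρT' hρS hρT
  have hker := h.toTwo.exists_kernel hS hd hC hsect hsect' hρS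
  obtain ⟨g, hg⟩ := hρ (-1)
  obtain ⟨k, hk⟩ := PResidual.exists_pow_coprime (p := p) g
  set z := g ^ p ^ k with hz
  have hm : ((-1 : Matrix.SpecialLinearGroup (Fin 2) F)) * (-1) = 1 := by
    apply Subtype.ext; simp
  have hρz : ρ' z = -1 := by
    rw [hz, map_pow, hg]
    obtain ⟨m, hm'⟩ : Odd (p ^ k) := by rw [h3]; exact (by decide : Odd 3).pow
    rw [hm', pow_succ, pow_mul, pow_two, hm, one_pow, one_mul]
  refine ⟨ρ', φ, φ', z, h, hS, hd, hC, hsect, hsect', hρ, hker, hρS, hline, hline', h3, hρz, ?_,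
    Subgroup.subset_closure hk⟩
  have h1 : z * z ∈ pCore p G := by rw [← hker, MonoidHom.mem_ker, map_mul, hρz, hm]
  obtain ⟨j, hj⟩ := isPGroup_pCore (G := G) p ⟨z * z, h1⟩
  have hco : (orderOf (z * z)).Coprime p := by
    rw [← pow_two]; exact Nat.Coprime.coprime_dvd_left (orderOf_pow_dvd 2) hk
  have h2 := PResidual.mem_of_pow_mem hco (N := (⊥ : Subgroup G)) (k := j)
    (Subgroup.mem_bot.mpr (congrArg Subtype.val hj))
  exact Subgroup.mem_bot.mp h2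

namespace TwoEnv

variable {S : Sylow p G} {T' X Y A C D : Subgroup G} {F : Type} [Field F] [Fintype F] [CharP F p]
  {f : G →* Matrix.ProjectiveSpecialLinearGroup (Fin 2) F} {ρ : G →* Matrix.SpecialLinearGroup (Fin 2) F}
  {φ φ' : G → Fin 2 → F} {z : G} (h : TwoEnv S T' X Y A C D F f ρ φ φ' z)
include h

theorem zinv : z⁻¹ = z := inv_eq_of_mul_eq_one_right h.sq

theorem zz (o : G) : z * (z * o * z⁻¹) * z⁻¹ = o := by
  rw [show z * (z * o * z⁻¹) * z⁻¹ = (z * z) * o * (z * z)⁻¹ by group, h.sq, one_mul, inv_one, mul_one]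

theorem pow_three {a : G} (ha : a ^ p = 1) : a * a = a⁻¹ := by
  rw [h.three, pow_succ, pow_succ, pow_one] at ha
  exact (inv_eq_of_mul_eq_one_left ha).symm

theorem neg_mulVec (x : Fin 2 → F) : (ρ z).1.mulVec x = -x := by
  rw [h.rho_z, Matrix.SpecialLinearGroup.coe_neg, Matrix.SpecialLinearGroup.coe_one, Matrix.neg_mulVec,
    Matrix.one_mulVec]

theorem D_normal : D.Normal := h.two.toTwo.D_normal h.setting h.mild

/-- `z` is central modulo the core. -/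
theorem z_mod (g : G) : g⁻¹ * z * g * z⁻¹ ∈ pCore p G := by
  rw [← h.ker, MonoidHom.mem_ker]
  simp only [map_mul, map_inv, h.rho_z]
  have hc : (-1 : Matrix.SpecialLinearGroup (Fin 2) F) * ρ g = ρ g * (-1) := by
    apply Subtype.ext; simp
  rw [mul_assoc (ρ g)⁻¹, hc, inv_mul_cancel_left, mul_inv_cancel]

theorem vcomm {a b : G} (ha : a ∈ vmod S) (hb : b ∈ vmod S) : a * b = b * a :=
  (vmod_mdl h.setting h.mild).comm a ha b hb

theorem wNeg_le : wNeg S z ≤ vmod S := fun _ hw => hw.1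

theorem mem_wNeg {v : G} (hv : v ∈ vmod S) (hz : z * v * z⁻¹ = v⁻¹) : v ∈ wNeg S z :=
  ⟨hv, mem_centralizer_iff.mpr fun _ hb => h.vcomm hb hv, hz⟩

theorem wNeg_normal : (wNeg S z).Normal := by
  have hV := vmod_mdl h.setting h.mild
  refine ⟨fun w hw g => h.mem_wNeg (hV.mem_conj hw.1 g) ?_⟩
  set m := g⁻¹ * z * g * z⁻¹ with hm
  have hmc : m * w⁻¹ = w⁻¹ * m := hV.cent _ (inv_mem hw.1) m (h.z_mod g)
  calc z * (g * w * g⁻¹) * z⁻¹ = g * (m * (z * w * z⁻¹) * m⁻¹) * g⁻¹ := by rw [hm]; group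
    _ = (g * w * g⁻¹)⁻¹ := by rw [hw.2.2, hmc, mul_inv_cancel_right]; group

theorem wNeg_cent {w : G} (hw : w ∈ wNeg S z) {o : G} (ho : o ∈ pCore p G) : o * w = w * o :=
  (vmod_mdl h.setting h.mild).cent w hw.1 o ho

theorem wNeg_fixed {w : G} (hw : w ∈ wNeg S z) (hz : z * w * z⁻¹ = w) : w = 1 := by
  have h1 : w = w⁻¹ := hz.symm.trans hw.2.2
  have h2 := h.pow_three (vmod_pow h.setting h.mild hw.1)
  rwa [← h1, mul_eq_left] at h2

/-- The module is the inverted part and the centre. -/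
theorem vsplit {v : G} (hv : v ∈ vmod S) : ∃ w ∈ wNeg S z, w⁻¹ * v ∈ zc S := by
  have hV := vmod_mdl h.setting h.mild
  have hv' : z * v * z⁻¹ ∈ vmod S := hV.mem_conj hv z
  have hvp := h.pow_three (vmod_pow h.setting h.mild hv)
  refine ⟨v⁻¹ * (z * v * z⁻¹), h.mem_wNeg (mul_mem (inv_mem hv) hv') ?_, ?_⟩
  · calc z * (v⁻¹ * (z * v * z⁻¹)) * z⁻¹ = (z * v * z⁻¹)⁻¹ * (z * (z * v * z⁻¹) * z⁻¹) := by group
      _ = _ := by rw [h.zz]; group
  · refine (h.sect.ker _ (mul_mem (inv_mem (mul_mem (inv_mem hv) hv')) hv)).mp ?_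
    rw [show (v⁻¹ * (z * v * z⁻¹))⁻¹ * v = (z * v * z⁻¹)⁻¹ * (v * v) by group, hvp,
      h.sect.mul _ (inv_mem hv') _ (inv_mem hv), h.sect.map_inv hv', h.sect.map_inv hv,
      h.sect.equiv z v hv, h.neg_mulVec, neg_neg, add_neg_cancel]

theorem conj_wNeg {g v : G} (hv : v ∈ vmod S) : ∃ w ∈ wNeg S z, g * v * g⁻¹ * v⁻¹ = g * w * g⁻¹ * w⁻¹ := by
  obtain ⟨w, hw, hu⟩ := h.vsplit hv
  refine ⟨w, hw, ?_⟩
  obtain ⟨u, hu', rfl⟩ : ∃ u ∈ zc S, v = w * u := ⟨_, hu, by group⟩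
  have hc : g * u = u * g := Subgroup.mem_center_iff.mp hu'.2 g
  rw [show g * (w * u) * g⁻¹ * (w * u)⁻¹ = g * w * (u * g⁻¹) * u⁻¹ * w⁻¹ by group,
    show u * g⁻¹ = g⁻¹ * u by rw [eq_inv_mul_iff_mul_eq, ← mul_assoc, hc, mul_inv_cancel_right]]
  group

/-- The residual moves `D` into the inverted part. -/
theorem res_D {r : G} (hr : r ∈ Cfsg.pResidual p G) {d : G} (hd : d ∈ D) : r * d * r⁻¹ * d⁻¹ ∈ wNeg S z := by
  haveI := h.D_normal
  haveI := h.wNeg_normal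
  suffices hle : Cfsg.pResidual p G ≤ actKer D (wNeg S z) from hle hr d hd
  refine (Subgroup.closure_le _).mpr fun r hr d hd => ?_
  have hx := h.two.toTwo.res_D h.setting h.mild d hd r (Subgroup.subset_closure hr)
  set x := r * d * r⁻¹ * d⁻¹ with hx'
  refine PushUp.push_down hr (show r * d * r⁻¹ = x * d by rw [hx']; group) ?_ ?_
  · exact exists_pow_mem_of_mem_core h.setting _ ((vmod_mdl h.setting h.mild).le hx)
  · obtain ⟨w, hw, e⟩ := h.conj_wNeg (g := r) hx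
    rw [e]
    exact mul_mem (h.wNeg_normal.conj_mem w hw r) (inv_mem hw)

/-- The core of the residual centralizes `D`. -/
theorem core_res_D {n d : G} (hn : n ∈ Cfsg.pResidual p G) (hnO : n ∈ pCore p G) (hd : d ∈ D) : n * d = d * n := by
  have h1 := h.res_D hn hd
  have h2 := h.two.toTwo.comm_core h.setting h.mild n hnO d (h.two.D_le hd)
  have h3 := h.wNeg_fixed h1 (by rw [h.two.toTwo.nz_fixed h.setting h.mild h2 h.res, mul_inv_cancel_right])
  exact mul_inv_eq_iff_eq_mul.mp (mul_inv_eq_one.mp h3)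

/-- What `z` fixes in `D`, the residual fixes. -/
theorem fixed_res {d r : G} (hd : d ∈ D) (hz : z * d * z⁻¹ = d) (hr : r ∈ Cfsg.pResidual p G) : r * d = d * r := by
  haveI := PResidual.pResidual_normal (G := G) (p := p)
  set m := r⁻¹ * z * r * z⁻¹ with hm
  have hmR : m ∈ Cfsg.pResidual p G := mul_mem (mul_mem (mul_mem (inv_mem hr) h.res) hr) (inv_mem h.res)
  have hmd : m * d = d * m := h.core_res_D hmR (h.z_mod r) hd
  have h1 := h.res_D hr hd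
  have h2 : z * (r * d * r⁻¹ * d⁻¹) * z⁻¹ = r * d * r⁻¹ * d⁻¹ := by
    have e1 : z * r * z⁻¹ = r * m := by rw [hm]; group
    calc z * (r * d * r⁻¹ * d⁻¹) * z⁻¹
        = (z * r * z⁻¹) * (z * d * z⁻¹) * (z * r * z⁻¹)⁻¹ * (z * d * z⁻¹)⁻¹ := by group
      _ = r * (m * d * m⁻¹) * r⁻¹ * d⁻¹ := by rw [hz, e1]; group
      _ = _ := by rw [hmd, mul_inv_cancel_right]
  exact mul_inv_eq_iff_eq_mul.mp (mul_inv_eq_one.mp (h.wNeg_fixed h1 h2))

theorem dsplit {d : G} (hd : d ∈ D) :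
    ∃ w ∈ wNeg S z, ∃ d₀ ∈ D, z * d₀ * z⁻¹ = d₀ ∧ d = w * d₀ := by
  obtain ⟨w, hw, hzd⟩ : ∃ w ∈ wNeg S z, z * d * z⁻¹ = w * d := ⟨_, h.res_D h.res hd, by group⟩
  refine ⟨w, hw, w⁻¹ * d, mul_mem (inv_mem (h.two.V_le hw.1)) hd, ?_, by group⟩
  have hwp := h.pow_three (vmod_pow h.setting h.mild hw.1)
  calc z * (w⁻¹ * d) * z⁻¹ = (z * w * z⁻¹)⁻¹ * (z * d * z⁻¹) := by group
    _ = (w * w) * d := by rw [hw.2.2, inv_inv, hzd, mul_assoc]
    _ = w⁻¹ * d := by rw [hwp]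

/-- An element times its conjugate under `z`, for an abelian layer. -/
theorem adj_facts {E : Subgroup G} (hE : E ≤ pCore p G) (hEp : ∀ a ∈ E, a ^ p = 1)
    (hED : ∀ e ∈ E, ∀ d ∈ D, e * d = d * e) {e : G} (he : e ∈ E) :
    e * (z * e * z⁻¹) ∈ D ∧ z * (e * (z * e * z⁻¹)) * z⁻¹ = e * (z * e * z⁻¹) ∧
      (∀ d ∈ D, e * (z * e * z⁻¹) * d = d * (e * (z * e * z⁻¹))) ∧
      (∀ a, (∀ d ∈ D, a * d = d * a) → a * (e * (z * e * z⁻¹)) = e * (z * e * z⁻¹) * a) ∧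
      e * (e * (z * e * z⁻¹)) = e⁻¹ * (z * e * z⁻¹) := by
  haveI := h.D_normal
  set y := z * e * z⁻¹ with hy
  have hyO : y ∈ pCore p G := (inferInstance : (pCore p G).Normal).conj_mem e (hE he) z
  have hD : e * y ∈ D := by
    refine (h.sect'.ker _ (mul_mem (hE he) hyO)).mp ?_
    rw [h.sect'.mul _ (hE he) _ hyO, hy, h.sect'.equiv z e (hE he), h.neg_mulVec, add_neg_cancel]
  have hey : e * y = y * e := by
    have := hED e he _ hD
    rw [mul_assoc e y e] at this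
    exact mul_left_cancel this
  refine ⟨hD, ?_, fun d hd => ?_, fun a ha => ha _ hD, ?_⟩
  · rw [show z * (e * y) * z⁻¹ = (z * e * z⁻¹) * (z * y * z⁻¹) by group, ← hy, hy, h.zz, ← hy, hey]
  · have hd' : z⁻¹ * d * z ∈ D := by simpa using ‹D.Normal›.conj_mem d hd z⁻¹
    have h2 : y * d = d * y := by
      have := congrArg (fun x => z * x * z⁻¹) (hED e he _ hd')
      simpa [hy, mul_assoc] using this
    rw [mul_assoc, h2, ← mul_assoc, hED e he d hd, mul_assoc]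
  · rw [← mul_assoc, h.pow_three (hEp e he)]

theorem comm_le_zc : ⁅A, C⁆ ≤ zc S := by
  haveI : (vmod S).Normal := normalClosure_normal
  refine Subgroup.commutator_le.mpr fun a ha c hc => ?_
  rw [commutatorElement_def]
  exact h.two.toTwo.central_mem h.setting h.mild ha hc

theorem comm_fixed {r : G} (hr : r ∈ ⁅A, C⁆) (g : G) : g * r = r * g :=
  Subgroup.mem_center_iff.mp (h.comm_le_zc hr).2 g

/-- The inverted part and the commutators of `A` with `C`. -/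
theorem lower_le : wNeg S z ⊔ ⁅A, C⁆ ≤ pCore p G :=
  (sup_le h.wNeg_le (h.comm_le_zc.trans inf_le_left)).trans (vmod_mdl h.setting h.mild).le

theorem lower_normal : (wNeg S z ⊔ ⁅A, C⁆).Normal := by
  haveI := h.wNeg_normal
  haveI : (⁅A, C⁆).Normal := ⟨fun r hr g => by rwa [h.comm_fixed hr g, mul_inv_cancel_right]⟩
  exact Subgroup.sup_normal _ _

theorem lower_mem {m : G} (hm : m ∈ wNeg S z ⊔ ⁅A, C⁆) : ∃ w ∈ wNeg S z, ∃ r ∈ ⁅A, C⁆, w * r = m := by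
  haveI := h.wNeg_normal
  exact Subgroup.mem_sup_of_normal_left.mp hm

/-- The elements of the core that `z` inverts modulo the lower layer and that commute with the core modulo
`⁅A, C⁆`. -/
def nNeg (h : TwoEnv S T' X Y A C D F f ρ φ φ' z) : Subgroup G where
  carrier := {o | o ∈ pCore p G ∧ z * o * z⁻¹ * o ∈ wNeg S z ⊔ ⁅A, C⁆ ∧
    ∀ y ∈ pCore p G, o * y * o⁻¹ * y⁻¹ ∈ ⁅A, C⁆}
  one_mem' := ⟨one_mem _, by simp, fun y _ => by simp⟩
  mul_mem' := fun {a b} ha hb => ⟨mul_mem ha.1 hb.1, by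
      rw [show z * (a * b) * z⁻¹ * (a * b) = (z * a * z⁻¹ * a) *
        (a⁻¹ * (z * b * z⁻¹ * b) * a⁻¹⁻¹ * (a⁻¹ * (a * b⁻¹ * a⁻¹ * b⁻¹⁻¹)⁻¹ * a⁻¹⁻¹)) by group]
      exact mul_mem ha.2.1 (mul_mem (h.lower_normal.conj_mem _ hb.2.1 _)
        (h.lower_normal.conj_mem _ (mem_sup_right (inv_mem (ha.2.2 b⁻¹ (inv_mem hb.1)))) _)),
    fun y hy => by
      rw [show a * b * y * (a * b)⁻¹ * y⁻¹ = a * (b * y * b⁻¹ * y⁻¹) * a⁻¹ * (a * y * a⁻¹ * y⁻¹) by group,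
        h.comm_fixed (hb.2.2 y hy) a, mul_inv_cancel_right]
      exact mul_mem (hb.2.2 y hy) (ha.2.2 y hy)⟩
  inv_mem' := fun {a} ha => ⟨inv_mem ha.1, by
      rw [show z * a⁻¹ * z⁻¹ * a⁻¹ = a * (z * a * z⁻¹ * a)⁻¹ * a⁻¹ by group]
      exact h.lower_normal.conj_mem _ (inv_mem ha.2.1) _,
    fun y hy => by
      have h1 := inv_mem (ha.2.2 y hy)
      rwa [show a⁻¹ * y * a⁻¹⁻¹ * y⁻¹ = a⁻¹ * (a * y * a⁻¹ * y⁻¹)⁻¹ * a⁻¹⁻¹ by group,
        h.comm_fixed h1 a⁻¹, mul_inv_cancel_right]⟩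

theorem nNeg_normal : h.nNeg.Normal := by
  refine ⟨fun o ho g => ⟨(inferInstance : (pCore p G).Normal).conj_mem o ho.1 g, ?_, fun y hy => ?_⟩⟩
  · set m := g⁻¹ * z * g * z⁻¹ with hm
    have hzo : z * o * z⁻¹ ∈ pCore p G := (inferInstance : (pCore p G).Normal).conj_mem o ho.1 z
    -- `z * o * z⁻¹` again commutes with the core modulo the commutators
    have h1 : z * o * z⁻¹ * m * (z * o * z⁻¹)⁻¹ * m⁻¹ ∈ ⁅A, C⁆ := by
      have h2 := ho.2.2 (z⁻¹ * m * z) (by simpa using (inferInstance : (pCore p G).Normal).conj_mem m (h.z_mod g) z⁻¹)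
      have h3 := h.comm_fixed h2 z
      rw [show z * o * z⁻¹ * m * (z * o * z⁻¹)⁻¹ * m⁻¹ =
        z * (o * (z⁻¹ * m * z) * o⁻¹ * (z⁻¹ * m * z)⁻¹) * z⁻¹ by group, h3, mul_inv_cancel_right]
      exact h2
    rw [show z * (g * o * g⁻¹) * z⁻¹ * (g * o * g⁻¹) =
      g * ((z * o * z⁻¹ * m * (z * o * z⁻¹)⁻¹ * m⁻¹)⁻¹ * (z * o * z⁻¹ * o)) * g⁻¹ by rw [hm]; group]
    exact h.lower_normal.conj_mem _ (mul_mem (mem_sup_right (inv_mem h1)) ho.2.1) g
  · have h2 := ho.2.2 (g⁻¹ * y * g) (by simpa using (inferInstance : (pCore p G).Normal).conj_mem y hy g⁻¹)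
    rw [show g * o * g⁻¹ * y * (g * o * g⁻¹)⁻¹ * y⁻¹ =
      g * (o * (g⁻¹ * y * g) * o⁻¹ * (g⁻¹ * y * g)⁻¹) * g⁻¹ by group, h.comm_fixed h2 g, mul_inv_cancel_right]
    exact h2

theorem lower_le_nNeg : wNeg S z ⊔ ⁅A, C⁆ ≤ h.nNeg := by
  refine sup_le (fun w hw => ⟨h.lower_le (mem_sup_left hw), ?_, fun y hy => ?_⟩)
    fun r hr => ⟨h.lower_le (mem_sup_right hr), ?_, fun y hy => ?_⟩
  · rw [hw.2.2, inv_mul_cancel]; exact one_mem _
  · rw [← h.wNeg_cent hw hy, mul_inv_cancel_right, mul_inv_cancel]; exact one_mem _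
  · refine mem_sup_right ?_
    rw [h.comm_fixed hr z, mul_inv_cancel_right]; exact mul_mem hr hr
  · rw [← h.comm_fixed hr y, mul_inv_cancel_right, mul_inv_cancel]; exact one_mem _

/-- An element of `D` in `nNeg` lies in the lower layer. -/
theorem nNeg_inf_D {d : G} (hd : d ∈ D) (hn : d ∈ h.nNeg) : d ∈ wNeg S z ⊔ ⁅A, C⁆ := by
  obtain ⟨w, hw, d₀, hd₀, hz, rfl⟩ := h.dsplit hd
  have h1 : d₀ ∈ h.nNeg := by
    rw [show d₀ = w⁻¹ * (w * d₀) by group]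
    exact mul_mem (inv_mem (h.lower_le_nNeg (mem_sup_left hw))) hn
  have h2 : d₀ * d₀ ∈ wNeg S z ⊔ ⁅A, C⁆ := by have := h1.2.1; rwa [hz] at this
  obtain ⟨k, hk⟩ := isPGroup_pCore (G := G) p ⟨d₀, h.two.D_le hd₀⟩
  have hk' : d₀ ^ p ^ k = 1 := congrArg Subtype.val hk
  obtain ⟨m, hm⟩ : Odd (p ^ k) := by rw [h.three]; exact (by decide : Odd 3).pow
  refine mul_mem (mem_sup_left hw) ?_
  have e : d₀ = (d₀ * d₀) ^ (m + 1) := by
    rw [← pow_two, ← pow_mul, show 2 * (m + 1) = p ^ k + 1 by omega, pow_succ, hk', one_mul]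
  rw [e]; exact pow_mem h2 _

theorem adj_A {a : G} (ha : a ∈ A) : a⁻¹ * (z * a * z⁻¹) ∈ h.nNeg ∧ a⁻¹ * (z * a * z⁻¹) ∈ Cfsg.pResidual p G ∧
    a * (z * a * z⁻¹) ∈ D ∧ z * (a * (z * a * z⁻¹)) * z⁻¹ = a * (z * a * z⁻¹) ∧
      (∀ y ∈ pCore p G, y * (a * (z * a * z⁻¹)) = a * (z * a * z⁻¹) * y) := by
  haveI := PResidual.pResidual_normal (G := G) (p := p)
  obtain ⟨hD, hfix, hcD, hcE, he⟩ := h.adj_facts h.two.A_le h.two.elemA h.two.AD ha
  have hcent : ∀ y ∈ pCore p G, y * (a * (z * a * z⁻¹)) = a * (z * a * z⁻¹) * y := by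
    intro y hy
    obtain ⟨c₁, hc₁, a₁, ha₁, d₁, hd₁, rfl⟩ := h.two.split y hy
    exact ((Commute.mul_left (hcE c₁ (h.two.CD c₁ hc₁)) (hcE a₁ (h.two.AD a₁ ha₁))).mul_left (hcD d₁ hd₁).symm).eq
  refine ⟨⟨?_, ?_, fun y hy => ?_⟩, ?_, hD, hfix, hcent⟩
  · exact mul_mem (inv_mem (h.two.A_le ha)) ((inferInstance : (pCore p G).Normal).conj_mem a (h.two.A_le ha) z)
  · rw [show z * (a⁻¹ * (z * a * z⁻¹)) * z⁻¹ * (a⁻¹ * (z * a * z⁻¹)) =
      (z * a * z⁻¹)⁻¹ * ((z * (z * a * z⁻¹) * z⁻¹) * a⁻¹) * (z * a * z⁻¹) by group, h.zz, mul_inv_cancel, mul_one,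
      inv_mul_cancel]
    exact one_mem _
  · rw [← he]
    obtain ⟨c₁, hc₁, a₁, ha₁, d₁, hd₁, rfl⟩ := h.two.split y hy
    have h1 : a * (c₁ * a₁ * d₁) * a⁻¹ * (c₁ * a₁ * d₁)⁻¹ = a * c₁ * a⁻¹ * c₁⁻¹ := by
      have h2 : Commute a (a₁ * d₁) := Commute.mul_right (h.two.abelA a ha a₁ ha₁) (h.two.AD a ha d₁ hd₁)
      calc a * (c₁ * a₁ * d₁) * a⁻¹ * (c₁ * a₁ * d₁)⁻¹
          = a * c₁ * ((a₁ * d₁) * a⁻¹) * (a₁ * d₁)⁻¹ * c₁⁻¹ := by group
        _ = _ := by rw [h2.inv_left.eq.symm]; group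
    set y := c₁ * a₁ * d₁ with hy'
    have hc : a * (z * a * z⁻¹) * y = y * (a * (z * a * z⁻¹)) := (hcent y hy).symm
    rw [show a * (a * (z * a * z⁻¹)) * y * (a * (a * (z * a * z⁻¹)))⁻¹ * y⁻¹ =
      a * ((a * (z * a * z⁻¹)) * y * (a * (z * a * z⁻¹))⁻¹) * a⁻¹ * y⁻¹ by group, hc, mul_inv_cancel_right, h1,
      ← commutatorElement_def]
    exact Subgroup.commutator_mem_commutator ha hc₁
  · rw [show a⁻¹ * (z * a * z⁻¹) = (a⁻¹ * z * a⁻¹⁻¹) * z⁻¹ by group]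
    exact mul_mem (‹(Cfsg.pResidual p G).Normal›.conj_mem z h.res a⁻¹) (inv_mem h.res)

theorem adj_C {c : G} (hc : c ∈ C) : c⁻¹ * (z * c * z⁻¹) ∈ h.nNeg ∧ c⁻¹ * (z * c * z⁻¹) ∈ Cfsg.pResidual p G ∧
    c * (z * c * z⁻¹) ∈ D ∧ z * (c * (z * c * z⁻¹)) * z⁻¹ = c * (z * c * z⁻¹) ∧
      (∀ y ∈ pCore p G, y * (c * (z * c * z⁻¹)) = c * (z * c * z⁻¹) * y) := by
  haveI := PResidual.pResidual_normal (G := G) (p := p)
  obtain ⟨hD, hfix, hcD, hcE, he⟩ := h.adj_facts h.two.C_le h.two.elemC h.two.CD hc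
  have hcent : ∀ y ∈ pCore p G, y * (c * (z * c * z⁻¹)) = c * (z * c * z⁻¹) * y := by
    intro y hy
    obtain ⟨c₁, hc₁, a₁, ha₁, d₁, hd₁, rfl⟩ := h.two.split y hy
    exact ((Commute.mul_left (hcE c₁ (h.two.CD c₁ hc₁)) (hcE a₁ (h.two.AD a₁ ha₁))).mul_left (hcD d₁ hd₁).symm).eq
  refine ⟨⟨?_, ?_, fun y hy => ?_⟩, ?_, hD, hfix, hcent⟩
  · exact mul_mem (inv_mem (h.two.C_le hc)) ((inferInstance : (pCore p G).Normal).conj_mem c (h.two.C_le hc) z)
  · rw [show z * (c⁻¹ * (z * c * z⁻¹)) * z⁻¹ * (c⁻¹ * (z * c * z⁻¹)) =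
      (z * c * z⁻¹)⁻¹ * ((z * (z * c * z⁻¹) * z⁻¹) * c⁻¹) * (z * c * z⁻¹) by group, h.zz, mul_inv_cancel, mul_one,
      inv_mul_cancel]
    exact one_mem _
  · rw [← he]
    obtain ⟨c₁, hc₁, a₁, ha₁, d₁, hd₁, rfl⟩ := h.two.split y hy
    have h1 : c * (c₁ * a₁ * d₁) * c⁻¹ * (c₁ * a₁ * d₁)⁻¹ = c * a₁ * c⁻¹ * a₁⁻¹ := by
      have h3 : Commute c c₁ := h.two.abelC c hc c₁ hc₁
      have h4 : Commute c d₁ := h.two.CD c hc d₁ hd₁
      have h5 : c * a₁ * c⁻¹ * a₁⁻¹ ∈ center G := by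
        have h6 := inv_mem (h.two.AC a₁ ha₁ c hc)
        rwa [show (a₁ * c * a₁⁻¹ * c⁻¹)⁻¹ = c * a₁ * c⁻¹ * a₁⁻¹ by group] at h6
      calc c * (c₁ * a₁ * d₁) * c⁻¹ * (c₁ * a₁ * d₁)⁻¹
          = (c * c₁) * a₁ * (d₁ * c⁻¹) * d₁⁻¹ * a₁⁻¹ * c₁⁻¹ := by group
        _ = c₁ * (c * a₁ * c⁻¹ * a₁⁻¹) * c₁⁻¹ := by rw [h3.eq, h4.inv_left.eq.symm]; group
        _ = _ := by rw [Subgroup.mem_center_iff.mp h5 c₁, mul_inv_cancel_right]
    set y := c₁ * a₁ * d₁ with hy'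
    have hcy : c * (z * c * z⁻¹) * y = y * (c * (z * c * z⁻¹)) := (hcent y hy).symm
    rw [show c * (c * (z * c * z⁻¹)) * y * (c * (c * (z * c * z⁻¹)))⁻¹ * y⁻¹ =
      c * ((c * (z * c * z⁻¹)) * y * (c * (z * c * z⁻¹))⁻¹) * c⁻¹ * y⁻¹ by group, hcy, mul_inv_cancel_right, h1,
      ← commutatorElement_def, ← commutatorElement_inv]
    exact inv_mem (Subgroup.commutator_mem_commutator ha₁ hc)
  · rw [show c⁻¹ * (z * c * z⁻¹) = (c⁻¹ * z * c⁻¹⁻¹) * z⁻¹ by group]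
    exact mul_mem (‹(Cfsg.pResidual p G).Normal›.conj_mem z h.res c⁻¹) (inv_mem h.res)

/-- The core is `nNeg` times the part of `D` fixed by `z`. -/
theorem osplit {o : G} (ho : o ∈ pCore p G) :
    ∃ n ∈ h.nNeg, ∃ d ∈ D, z * d * z⁻¹ = d ∧ o = n * d := by
  obtain ⟨c, hc, a, ha, d, hd, rfl⟩ := h.two.split o ho
  obtain ⟨hcn, -, hcD, hcf, hcc⟩ := h.adj_C hc
  obtain ⟨han, -, haD, haf, hac⟩ := h.adj_A ha
  obtain ⟨w, hw, d₀, hd₀, hz, rfl⟩ := h.dsplit hd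
  obtain ⟨-, -, -, -, hec⟩ := h.adj_facts h.two.C_le h.two.elemC h.two.CD hc
  obtain ⟨-, -, -, -, hea⟩ := h.adj_facts h.two.A_le h.two.elemA h.two.AD ha
  set dc := c * (z * c * z⁻¹) with hdc
  set da := a * (z * a * z⁻¹) with hda
  refine ⟨c⁻¹ * (z * c * z⁻¹) * (a⁻¹ * (z * a * z⁻¹)) * w, mul_mem (mul_mem hcn han)
    (h.lower_le_nNeg (mem_sup_left hw)), dc⁻¹ * da⁻¹ * d₀, mul_mem (mul_mem (inv_mem hcD) (inv_mem haD)) hd₀, ?_, ?_⟩
  · rw [show z * (dc⁻¹ * da⁻¹ * d₀) * z⁻¹ = (z * dc * z⁻¹)⁻¹ * (z * da * z⁻¹)⁻¹ * (z * d₀ * z⁻¹) by group,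
      hcf, haf, hz]
  · rw [← hec, ← hea]
    have hwO : w ∈ pCore p G := h.lower_le (mem_sup_left hw)
    have h1 : dc * (a * da * w) = (a * da * w) * dc :=
      (hcc _ (mul_mem (mul_mem (h.two.A_le ha) (h.two.D_le haD)) hwO)).symm
    have h2 : da * w = w * da := (hac w hwO).symm
    calc c * a * (w * d₀) = c * (a * (w * da) * dc) * (dc⁻¹ * da⁻¹ * d₀) := by group
      _ = c * (dc * (a * da * w)) * (dc⁻¹ * da⁻¹ * d₀) := by
          rw [h1, mul_assoc a da w, h2]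
      _ = _ := by group

theorem comm_adj {a c : G} (ha : a ∈ A) (hc : c ∈ C) :
    ⁅a⁻¹ * (z * a * z⁻¹), c⁻¹ * (z * c * z⁻¹)⁆ = ⁅a, c⁆ := by
  obtain ⟨-, -, -, -, hac⟩ := h.adj_A ha
  obtain ⟨-, -, -, -, hcc⟩ := h.adj_C hc
  obtain ⟨-, -, -, -, hec⟩ := h.adj_facts h.two.C_le h.two.elemC h.two.CD hc
  obtain ⟨-, -, -, -, hea⟩ := h.adj_facts h.two.A_le h.two.elemA h.two.AD ha
  rw [← hea, ← hec]
  set da := a * (z * a * z⁻¹)
  set dc := c * (z * c * z⁻¹)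
  have haO := h.two.A_le ha
  have hcO := h.two.C_le hc
  have h1 : Commute da (c * dc) := (hac _ (mul_mem hcO (mul_mem hcO
    ((inferInstance : (pCore p G).Normal).conj_mem c hcO z)))).symm
  have h2 : Commute dc a⁻¹ := (hcc _ (inv_mem haO)).symm
  rw [commutatorElement_def, commutatorElement_def]
  calc a * da * (c * dc) * (a * da)⁻¹ * (c * dc)⁻¹
      = a * (da * (c * dc) * da⁻¹) * a⁻¹ * (c * dc)⁻¹ := by group
    _ = a * c * (dc * a⁻¹) * dc⁻¹ * c⁻¹ := by rw [h1.eq, mul_inv_cancel_right]; group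
    _ = _ := by rw [h2.eq]; group

theorem nNeg_le_res : h.nNeg ≤ Cfsg.pResidual p G := by
  haveI := PResidual.pResidual_normal (G := G) (p := p)
  have hlow : wNeg S z ⊔ ⁅A, C⁆ ≤ Cfsg.pResidual p G := by
    refine sup_le (fun w hw => ?_) (Subgroup.commutator_le.mpr fun a ha c hc => ?_)
    · have hwp := h.pow_three (vmod_pow h.setting h.mild hw.1)
      have h1 : z * w * z⁻¹ * w⁻¹ ∈ Cfsg.pResidual p G := by
        rw [show z * w * z⁻¹ * w⁻¹ = z * (w * z⁻¹ * w⁻¹) by group]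
        exact mul_mem h.res (‹(Cfsg.pResidual p G).Normal›.conj_mem _ (inv_mem h.res) w)
      rwa [hw.2.2, ← _root_.mul_inv_rev, hwp, inv_inv] at h1
    · obtain ⟨-, ha', -, -, -⟩ := h.adj_A ha
      obtain ⟨-, hc', -, -, -⟩ := h.adj_C hc
      rw [← h.comm_adj ha hc, commutatorElement_def]
      exact mul_mem (mul_mem (mul_mem ha' hc') (inv_mem ha')) (inv_mem hc')
  intro n hn
  have h1 : z * n * z⁻¹ * n⁻¹ ∈ Cfsg.pResidual p G := by
    rw [show z * n * z⁻¹ * n⁻¹ = z * (n * z⁻¹ * n⁻¹) by group]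
    exact mul_mem h.res (‹(Cfsg.pResidual p G).Normal›.conj_mem _ (inv_mem h.res) n)
  have h2 : n * n ∈ Cfsg.pResidual p G := by
    rw [show n * n = (z * n * z⁻¹ * n⁻¹)⁻¹ * (z * n * z⁻¹ * n) by group]
    exact mul_mem (inv_mem h1) (hlow hn.2.1)
  obtain ⟨k, hk⟩ := isPGroup_pCore (G := G) p ⟨n, hn.1⟩
  have hk' : n ^ p ^ k = 1 := congrArg Subtype.val hk
  obtain ⟨m, hm⟩ : Odd (p ^ k) := by rw [h.three]; exact (by decide : Odd 3).pow
  rw [show n = (n * n) ^ (m + 1) by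
    rw [← pow_two, ← pow_mul, show 2 * (m + 1) = p ^ k + 1 by omega, pow_succ, hk', one_mul]]
  exact pow_mem h2 _

/-- **The core of the residual is `nNeg`.** -/
theorem core_eq : Cfsg.pResidual p G ⊓ pCore p G = h.nNeg := by
  refine le_antisymm ?_ (le_inf h.nNeg_le_res fun _ hn => hn.1)
  haveI := h.nNeg_normal
  haveI := PResidual.pResidual_normal (G := G) (p := p)
  haveI := h.wNeg_normal
  set L := Cfsg.pResidual p G with hL
  set π := QuotientGroup.mk' h.nNeg with hπ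
  set Lb := L.map π with hLb
  have hLs : Function.Surjective (π.subgroupMap L) := π.subgroupMap_surjective L
  have hcomm : ∀ {a b : G}, a * b * a⁻¹ * b⁻¹ ∈ h.nNeg → π a * π b = π b * π a := fun {a b} hab => by
    have h1 : π (a * b * a⁻¹ * b⁻¹) = 1 := (QuotientGroup.eq_one_iff _).mpr hab
    rwa [map_mul, map_mul, map_mul, map_inv, map_inv, mul_inv_eq_one, mul_inv_eq_iff_eq_mul] at h1
  have hgenL : Cfsg.pResidual p ↥L = ⊤ := by
    refine top_le_iff.mp fun x _ => ?_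
    have hle : L ≤ (Cfsg.pResidual p ↥L).map L.subtype := (Subgroup.closure_le _).mpr fun g hg =>
      ⟨⟨g, Subgroup.subset_closure hg⟩, Subgroup.subset_closure
        (show (orderOf (⟨g, _⟩ : ↥L)).Coprime p by rwa [← Subgroup.orderOf_coe]), rfl⟩
    obtain ⟨y, hy, hyx⟩ := hle x.2
    rwa [← L.subtype_injective hyx]
  have hgen : Cfsg.pResidual p ↥Lb = ⊤ := by
    rw [← PResidual.map_pResidual hLs, hgenL, Subgroup.map_top_of_surjective _ hLs]
  -- the Sylow subgroups of the residual commute modulo `nNeg`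
  have hSL : ∀ a ∈ (S : Subgroup G), a ∈ L → ∀ b ∈ (S : Subgroup G), b ∈ L →
      a * b * a⁻¹ * b⁻¹ ∈ h.nNeg := by
    have hdec : ∀ a ∈ (S : Subgroup G), a ∈ L →
        ∃ x ∈ X, ∃ d ∈ D, x * d ∈ L ∧ π a = π (x * d) := fun a ha haL => by
      obtain ⟨x, hx, o, ho, rfl⟩ := exists_mul' (X := X) (normalizer_top (pCore p G) X) (h.two.X_sup.ge ha)
      obtain ⟨n, hn, d, hd, -, rfl⟩ := h.osplit ho
      have hn' : d⁻¹ * n * d ∈ h.nNeg := by simpa using ‹h.nNeg.Normal›.conj_mem n hn d⁻¹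
      refine ⟨x, hx, d, hd, ?_, ?_⟩
      · rw [show x * d = x * (n * d) * (d⁻¹ * n * d)⁻¹ by group]
        exact mul_mem haL (inv_mem (h.nNeg_le_res hn'))
      · rw [show x * (n * d) = x * d * (d⁻¹ * n * d) by group, map_mul π (x * d),
          show π (d⁻¹ * n * d) = 1 from (QuotientGroup.eq_one_iff _).mpr hn', mul_one]
    intro a ha haL b hb hbL
    obtain ⟨x, hx, d, hd, hxd, ea⟩ := hdec a ha haL
    obtain ⟨x', hx', d', hd', -, eb⟩ := hdec b hb hbL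
    refine (QuotientGroup.eq_one_iff _).mp ?_
    show π (a * b * a⁻¹ * b⁻¹) = 1
    rw [map_mul, map_mul, map_mul, map_inv, map_inv, ea, eb, ← map_inv, ← map_inv, ← map_mul, ← map_mul, ← map_mul]
    refine (QuotientGroup.eq_one_iff _).mpr (h.lower_le_nNeg (mem_sup_left ?_))
    have hXV : ⁅X, vmod S⁆ ≤ wNeg S z := Subgroup.commutator_le.mpr fun y hy v hv => by
      obtain ⟨w, hw, e⟩ := h.conj_wNeg (g := y) hv
      rw [commutatorElement_def, e]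
      exact mul_mem (h.wNeg_normal.conj_mem w hw y) (inv_mem hw)
    have h1 : x * d * x' * (x * d)⁻¹ * x'⁻¹ ∈ wNeg S z := by
      rw [show x * d * x' * (x * d)⁻¹ * x'⁻¹ =
        x * (x' * d * x'⁻¹ * d⁻¹)⁻¹ * x⁻¹ * (x * x' * x⁻¹ * x'⁻¹) by group, h.two.abelX x hx x' hx',
        mul_inv_cancel_right, mul_inv_cancel, mul_one]
      exact h.wNeg_normal.conj_mem _ (inv_mem (hXV (h.two.DXv d hd x' hx'))) x
    rw [show x * d * (x' * d') * (x * d)⁻¹ * (x' * d')⁻¹ = (x * d * x' * (x * d)⁻¹ * x'⁻¹) *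
      (x' * (x * d * d' * (x * d)⁻¹ * d'⁻¹) * x'⁻¹) by group]
    exact mul_mem h1 (h.wNeg_normal.conj_mem _ (h.res_D hxd hd') x')
  intro q hq
  obtain ⟨P⟩ : Nonempty (Sylow p ↥L) := inferInstance
  obtain ⟨P₁, hP₁⟩ := P.exists_comap_subtype_eq
  obtain ⟨g, hg⟩ := MulAction.exists_smul_eq G P₁ S
  have hPS : ∀ x ∈ (P : Subgroup ↥L), g * (x : G) * g⁻¹ ∈ (S : Subgroup G) := fun x hx => by
    rw [← hg, Sylow.coe_subgroup_smul]
    rw [← hP₁] at hx
    exact Subgroup.smul_mem_pointwise_smul (x : G) (MulAut.conj g) _ hx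
  have hP : ∀ x ∈ (P : Subgroup ↥L), ∀ y ∈ (P : Subgroup ↥L), π x * π y = π y * π x := fun x hx y hy => by
    refine hcomm ?_
    have h1 := hSL _ (hPS x hx) (‹L.Normal›.conj_mem _ x.2 g) _ (hPS y hy) (‹L.Normal›.conj_mem _ y.2 g)
    have h2 := ‹h.nNeg.Normal›.conj_mem _ h1 g⁻¹
    rwa [show g⁻¹ * (g * x * g⁻¹ * (g * y * g⁻¹) * (g * x * g⁻¹)⁻¹ * (g * y * g⁻¹)⁻¹) * g⁻¹⁻¹ =
      (x : G) * y * (x : G)⁻¹ * (y : G)⁻¹ by group] at h2
  haveI : ((pCore p G).subgroupOf L).Normal := inferInstance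
  have hqP : (⟨q, hq.1⟩ : ↥L) ∈ (P : Subgroup ↥L) := pCore_le_sylow P
    (le_pCore ((isPGroup_pCore (G := G) p).comap_of_injective _ L.subtype_injective)
      (show (⟨q, hq.1⟩ : ↥L) ∈ (pCore p G).subgroupOf L from hq.2))
  obtain ⟨n, hn, d, hd, hz, hqe⟩ := h.osplit hq.2
  have hπq : π q = π d := by
    rw [hqe, map_mul, show π n = 1 from (QuotientGroup.eq_one_iff _).mpr hn, one_mul]
  have h1 := central_eq_one_of_abelian_sylow (P.mapSurjective hLs) (fun a ha b hb => by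
      obtain ⟨a', ha', rfl⟩ := ha
      obtain ⟨b', hb', rfl⟩ := hb
      exact Subtype.ext (hP a' ha' b' hb')) hgen (z := π.subgroupMap L ⟨q, hq.1⟩) ⟨_, hqP, rfl⟩ (fun y => by
      obtain ⟨y, rfl⟩ := hLs y
      refine Subtype.ext ?_
      show π q * π y = π y * π q
      rw [hπq, ← map_mul, ← map_mul, h.fixed_res hd hz y.2])
  exact (QuotientGroup.eq_one_iff q).mp (congrArg Subtype.val h1)

/-- The core of the residual moves itself only into `⁅A, C⁆`. -/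
theorem core_comm {o n : G} (ho : o ∈ pCore p G) (hn : n ∈ h.nNeg) : o * n * o⁻¹ * n⁻¹ ∈ ⁅A, C⁆ := by
  have h1 := inv_mem (hn.2.2 o ho)
  rwa [show (n * o * n⁻¹ * o⁻¹)⁻¹ = o * n * o⁻¹ * n⁻¹ by group] at h1

theorem lower_le_D : wNeg S z ⊔ ⁅A, C⁆ ≤ D :=
  (sup_le h.wNeg_le (h.comm_le_zc.trans inf_le_left)).trans h.two.V_le

theorem comm_nNeg : ⁅h.nNeg, h.nNeg⁆ = ⁅A, C⁆ := by
  refine le_antisymm (Subgroup.commutator_le.mpr fun a ha b hb => ?_) (Subgroup.commutator_le.mpr fun a ha c hc => ?_)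
  · rw [commutatorElement_def]; exact ha.2.2 b hb.1
  · rw [← h.comm_adj ha hc]
    exact Subgroup.commutator_mem_commutator (h.adj_A ha).1 (h.adj_C hc).1

theorem exists_A_not_D : ∃ a ∈ A, a ∉ D := by
  by_contra hno
  push Not at hno
  obtain ⟨y, hy, hye⟩ := h.sect'.onto ![0, 1]
  obtain ⟨c, hc, a, ha, d, hd, rfl⟩ := h.two.split y hy
  have h1 := (h.line' _ hy).mpr ⟨c, hc, by rw [mul_assoc, inv_mul_cancel_left]; exact mul_mem (hno a ha) hd⟩
  rw [hye] at h1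
  exact one_ne_zero (α := F) h1

theorem exists_C_not_D : ∃ c ∈ C, c ∉ D := by
  obtain ⟨y, hy, c, hc, hyc⟩ := h.two.toTwo.moves h.setting h.mild
  exact ⟨c, hc, fun hcD => hyc (h.two.V_le (h.two.DY c hcD y hy).1)⟩

theorem center_nNeg : h.nNeg ⊓ centralizer (h.nNeg : Set G) = wNeg S z ⊔ ⁅A, C⁆ := by
  refine le_antisymm ?_ (le_inf h.lower_le_nNeg fun m hm => Subgroup.mem_centralizer_iff.mpr fun n hn => ?_)
  · rintro q ⟨hq, hqc⟩
    obtain ⟨c, hc, a, ha, d, hd, hqe⟩ := h.two.split q hq.1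
    refine h.nNeg_inf_D ?_ hq
    -- the central element commutes with `A` and with `C`
    have hA : ∀ a₁ ∈ A, q * a₁ = a₁ * q := fun a₁ ha₁ => by
      obtain ⟨hn, -, hD, -, hcen⟩ := h.adj_A ha₁
      obtain ⟨-, -, -, -, he⟩ := h.adj_facts h.two.A_le h.two.elemA h.two.AD ha₁
      have h1 : (a₁⁻¹ * (z * a₁ * z⁻¹)) * q = q * (a₁⁻¹ * (z * a₁ * z⁻¹)) :=
        Subgroup.mem_centralizer_iff.mp hqc _ hn
      rw [← he] at h1
      have h2 := Commute.mul_left (show Commute _ q from h1) (show Commute q _ from hcen q hq.1).symm.inv_left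
      rw [mul_inv_cancel_right] at h2
      exact h2.symm.eq
    have hC : ∀ c₁ ∈ C, q * c₁ = c₁ * q := fun c₁ hc₁ => by
      obtain ⟨hn, -, hD, -, hcen⟩ := h.adj_C hc₁
      obtain ⟨-, -, -, -, he⟩ := h.adj_facts h.two.C_le h.two.elemC h.two.CD hc₁
      have h1 : (c₁⁻¹ * (z * c₁ * z⁻¹)) * q = q * (c₁⁻¹ * (z * c₁ * z⁻¹)) :=
        Subgroup.mem_centralizer_iff.mp hqc _ hn
      rw [← he] at h1
      have h2 := Commute.mul_left (show Commute _ q from h1) (show Commute q _ from hcen q hq.1).symm.inv_left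
      rw [mul_inv_cancel_right] at h2
      exact h2.symm.eq
    obtain ⟨a₀, ha₀, ha₀D⟩ := h.exists_A_not_D
    obtain ⟨c₀, hc₀, hc₀D⟩ := h.exists_C_not_D
    have hcD : c ∈ D := by
      by_contra hcD
      refine ha₀D (h.two.pairing' c hc hcD a₀ ha₀ ?_)
      have hk : Commute a₀ (a * d) := Commute.mul_right (h.two.abelA a₀ ha₀ a ha) (h.two.AD a₀ ha₀ d hd)
      have h1 : Commute (c * (a * d)) a₀ := by
        show c * (a * d) * a₀ = a₀ * (c * (a * d))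
        rw [← mul_assoc, hqe]; exact hA a₀ ha₀
      have h2 := h1.mul_left hk.symm.inv_left
      rw [mul_inv_cancel_right] at h2
      exact h2.symm.eq
    have haD : a ∈ D := by
      by_contra haD
      refine hc₀D (h.two.pairing a ha haD c₀ hc₀ ?_)
      have hk : Commute c₀ c := h.two.abelC c₀ hc₀ c hc
      have hk' : Commute c₀ d := h.two.CD c₀ hc₀ d hd
      have h1 : c * a * d * c₀ = c₀ * (c * a * d) := by rw [hqe]; exact hC c₀ hc₀
      have h2 := (hk.symm.inv_left.mul_left (show Commute (c * a * d) c₀ from h1)).mul_left hk'.symm.inv_left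
      rw [mul_assoc c a d, inv_mul_cancel_left, mul_inv_cancel_right] at h2
      exact h2.eq
    rw [← hqe]
    exact mul_mem (mul_mem hcD haD) hd
  · obtain ⟨w, hw, r, hr, rfl⟩ := h.lower_mem hm
    rw [← mul_assoc, h.wNeg_cent hw hn.1, mul_assoc, h.comm_fixed hr n, mul_assoc]

theorem lower_pow {m : G} (hm : m ∈ wNeg S z ⊔ ⁅A, C⁆) : m ^ p = 1 :=
  vmod_pow h.setting h.mild ((sup_le h.wNeg_le (h.comm_le_zc.trans inf_le_left)) hm)

/-- **`Ω₁` of the centre of the core of the residual.** -/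
theorem omega_eq : omegaOneCenter p h.nNeg = wNeg S z ⊔ ⁅A, C⁆ := by
  rw [omegaOneCenter, h.center_nNeg, omegaOne]
  refine le_antisymm ((Subgroup.closure_le _).mpr fun x hx => hx.1) fun x hx => ?_
  exact Subgroup.subset_closure ⟨hx, h.lower_pow hx⟩

theorem phi_lower {m : G} (hm : m ∈ wNeg S z ⊔ ⁅A, C⁆) : φ m = 0 ↔ m ∈ ⁅A, C⁆ := by
  obtain ⟨w, hw, r, hr, rfl⟩ := h.lower_mem hm
  have hrz := h.comm_le_zc hr
  rw [h.sect.mul _ hw.1 _ hrz.1, (h.sect.ker r hrz.1).mpr hrz, add_zero, h.sect.ker w hw.1]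
  refine ⟨fun hwz => ?_, fun hwr => ?_⟩
  · rw [show w = 1 from h.wNeg_fixed hw (by rw [Subgroup.mem_center_iff.mp hwz.2 z, mul_inv_cancel_right]), one_mul]
    exact hr
  · have h1 := mul_mem hwr (inv_mem hr)
    rw [mul_inv_cancel_right] at h1
    exact h.comm_le_zc h1

theorem phi_onto (v : Fin 2 → F) : ∃ w ∈ wNeg S z, φ w = v := by
  obtain ⟨y, hy, rfl⟩ := h.sect.onto v
  obtain ⟨w, hw, hu⟩ := h.vsplit hy
  refine ⟨w, hw, ?_⟩
  rw [show y = w * (w⁻¹ * y) by group, h.sect.mul _ hw.1 _ hu.1, (h.sect.ker _ hu.1).mpr hu, add_zero]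

theorem phi'_onto (v : Fin 2 → F) : ∃ n ∈ h.nNeg, φ' n = v := by
  obtain ⟨y, hy, rfl⟩ := h.sect'.onto v
  obtain ⟨n, hn, d, hd, -, rfl⟩ := h.osplit hy
  refine ⟨n, hn, ?_⟩
  rw [h.sect'.mul _ hn.1 _ (h.two.D_le hd), (h.sect'.ker d (h.two.D_le hd)).mpr hd, add_zero]

theorem phi'_nNeg {n : G} (hn : n ∈ h.nNeg) : φ' n = 0 ↔ n ∈ wNeg S z ⊔ ⁅A, C⁆ :=
  (h.sect'.ker n hn.1).trans ⟨fun hd => h.nNeg_inf_D hd hn, fun hm => h.lower_le_D hm⟩

/-- The core centralizes the lower layer. -/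
theorem core_lower {o m : G} (ho : o ∈ pCore p G) (hm : m ∈ wNeg S z ⊔ ⁅A, C⁆) : o * m = m * o := by
  obtain ⟨w, hw, r, hr, rfl⟩ := h.lower_mem hm
  rw [← mul_assoc, h.wNeg_cent hw ho, mul_assoc, h.comm_fixed hr o, mul_assoc]

theorem rho_of_fix {x : G} (hx : ∀ w ∈ wNeg S z, x * w = w * x) : x ∈ pCore p G := by
  rw [← h.ker, MonoidHom.mem_ker]
  refine sl_eq_of_mulVec fun v => ?_
  obtain ⟨w, hw, rfl⟩ := h.phi_onto v
  rw [← h.sect.equiv x w hw.1, hx w hw, mul_inv_cancel_right, Matrix.SpecialLinearGroup.coe_one, Matrix.one_mulVec]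

theorem inf_cent : Cfsg.pResidual p G ⊓ centralizer (Cfsg.pResidual p G : Set G) = ⁅A, C⁆ := by
  refine le_antisymm ?_ (le_inf (le_sup_right.trans (h.lower_le_nNeg.trans h.nNeg_le_res))
    fun r hr => Subgroup.mem_centralizer_iff.mpr fun g _ => h.comm_fixed hr g)
  rintro x ⟨hx, hxc⟩
  have hfix : ∀ g ∈ Cfsg.pResidual p G, g * x = x * g := Subgroup.mem_centralizer_iff.mp hxc
  have hxO : x ∈ pCore p G := h.rho_of_fix fun w hw =>
    (hfix w (h.nNeg_le_res (h.lower_le_nNeg (mem_sup_left hw)))).symm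
  have hxN : x ∈ h.nNeg := h.core_eq.le ⟨hx, hxO⟩
  have hzx : z * x * z⁻¹ = x := by rw [hfix z h.res, mul_inv_cancel_right]
  have h2 := hxN.2.1
  rw [hzx] at h2
  obtain ⟨k, hk⟩ := isPGroup_pCore (G := G) p ⟨x, hxO⟩
  have hk' : x ^ p ^ k = 1 := congrArg Subtype.val hk
  obtain ⟨m, hm⟩ : Odd (p ^ k) := by rw [h.three]; exact (by decide : Odd 3).pow
  have hxM : x ∈ wNeg S z ⊔ ⁅A, C⁆ := by
    rw [show x = (x * x) ^ (m + 1) by
      rw [← pow_two, ← pow_mul, show 2 * (m + 1) = p ^ k + 1 by omega, pow_succ, hk', one_mul]]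
    exact pow_mem h2 _
  obtain ⟨w, hw, r, hr, hwr⟩ := h.lower_mem hxM
  have hw1 : w = 1 := h.wNeg_fixed hw (by
    have e : z * x * z⁻¹ = (z * w * z⁻¹) * r := by
      rw [← hwr, show z * (w * r) * z⁻¹ = z * w * (r * z⁻¹) by group, ← h.comm_fixed hr z⁻¹]; group
    rw [hzx, ← hwr] at e
    exact (mul_right_cancel e).symm)
  rw [← hwr, hw1, one_mul]
  exact hr

theorem omega_inf_cent :
    (wNeg S z ⊔ ⁅A, C⁆) ⊓ centralizer (Cfsg.pResidual p G : Set G) = ⁅A, C⁆ :=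
  le_antisymm ((inf_le_inf_right _ (h.lower_le_nNeg.trans h.nNeg_le_res)).trans h.inf_cent.le)
    (le_inf le_sup_right fun r hr => Subgroup.mem_centralizer_iff.mpr fun g _ => h.comm_fixed hr g)

theorem card_R : Nat.card ↥(⁅A, C⁆ : Subgroup G) = Fintype.card F := by
  refine le_antisymm ?_ ?_
  · have hle : ⁅(S : Subgroup G), vmod S⁆ ≤ wNeg S z ⊓ centralizer ((S : Subgroup G) : Set G) :=
      Subgroup.commutator_le.mpr fun s hs v hv => by
        obtain ⟨w, hw, e⟩ := h.conj_wNeg (g := s) hv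
        rw [commutatorElement_def]
        refine Subgroup.mem_inf.mpr ⟨?_, (flag_top h.setting h.mild).quad v hv s hs⟩
        rw [e]
        exact mul_mem (h.wNeg_normal.conj_mem w hw s) (inv_mem hw)
    refine (h.two.cardR.trans (Subgroup.card_le_of_le hle)).trans ?_
    rw [← Nat.card_eq_fintype_card]
    refine Nat.card_le_card_of_injective (fun w => φ (w : G) 0) fun w w' he => ?_
    have hl : ∀ u : ↥(wNeg S z ⊓ centralizer ((S : Subgroup G) : Set G)), φ (u : G) 1 = 0 := fun u =>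
      (h.line _ u.2.1.1).mpr ⟨u, ⟨u.2.1.1, u.2.2⟩, by rw [inv_mul_cancel]; exact one_mem _⟩
    have h0 : φ ((w : G) * (w' : G)⁻¹) = 0 := by
      rw [h.sect.mul _ (h.wNeg_le w.2.1) _ (inv_mem (h.wNeg_le (show (w' : G) ∈ wNeg S z from w'.2.1))), h.sect.map_inv (h.wNeg_le w'.2.1)]
      refine funext (Fin.forall_fin_two.mpr ⟨?_, ?_⟩)
      · simp only [Pi.add_apply, Pi.neg_apply, Pi.zero_apply]; rw [show φ (w : G) 0 = φ (w' : G) 0 from he, add_neg_cancel]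
      · simp [hl w, hl w']
    have h1 := mul_mem (show (w : G) ∈ wNeg S z from w.2.1) (inv_mem (show (w' : G) ∈ wNeg S z from w'.2.1))
    have h2 := h.wNeg_fixed h1 (by
      have hz0 := (h.sect.ker _ (h.wNeg_le h1)).mp h0
      rw [Subgroup.mem_center_iff.mp hz0.2 z, mul_inv_cancel_right])
    exact Subtype.ext (mul_inv_eq_one.mp h2)
  · obtain ⟨a, ha, haD⟩ := h.exists_A_not_D
    let θ : ↥C →* G :=
      { toFun := fun c => a * (c : G) * a⁻¹ * (c : G)⁻¹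
        map_one' := by simp
        map_mul' := fun c c' => by
          have h1 : a * (c' : G) * a⁻¹ * (c' : G)⁻¹ ∈ center G := h.two.AC a ha c' c'.2
          rw [Subgroup.coe_mul, show a * ((c : G) * (c' : G)) * a⁻¹ * ((c : G) * (c' : G))⁻¹ =
            (a * (c : G) * a⁻¹) * (a * (c' : G) * a⁻¹ * (c' : G)⁻¹) * (c : G)⁻¹ by group,
            mul_assoc _ _ ((c : G)⁻¹), ← Subgroup.mem_center_iff.mp h1 ((c : G)⁻¹), ← mul_assoc] }
    have hrange : θ.range ≤ ⁅A, C⁆ := by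
      rintro _ ⟨c, rfl⟩
      show a * (c : G) * a⁻¹ * (c : G)⁻¹ ∈ _
      rw [← commutatorElement_def]
      exact Subgroup.commutator_mem_commutator ha c.2
    have hker : θ.ker.map C.subtype ≤ C ⊓ D := by
      rintro _ ⟨c, hc, rfl⟩
      refine ⟨c.2, h.two.pairing a ha haD c c.2 ?_⟩
      have h1 : a * (c : G) * a⁻¹ * (c : G)⁻¹ = 1 := hc
      exact mul_inv_eq_iff_eq_mul.mp (mul_inv_eq_one.mp h1)
    have h1 : Nat.card C ≤ Nat.card ↥(C ⊓ D) * Nat.card ↥(⁅A, C⁆ : Subgroup G) := by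
      rw [← θ.ker.card_mul_index, Subgroup.index_ker,
        ← Subgroup.card_map_of_injective C.subtype_injective (K := θ.ker)]
      exact Nat.mul_le_mul (Subgroup.card_le_of_le hker) (Subgroup.card_le_of_le hrange)
    have h2 := h.two.toTwo.card_bound h.setting h.mild
    rw [h.coords.card_S] at h2
    refine Nat.le_of_mul_le_mul_right ?_ (Nat.mul_pos (Nat.card_pos (α := ↥(pCore p G))) (Nat.card_pos (α := ↥(C ⊓ D))))
    calc Fintype.card F * (Nat.card ↥(pCore p G) * Nat.card ↥(C ⊓ D))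
        = Fintype.card F * Nat.card ↥(pCore p G) * Nat.card ↥(C ⊓ D) := by ring
      _ ≤ Nat.card C * Nat.card ↥(pCore p G) := h2
      _ ≤ Nat.card ↥(C ⊓ D) * Nat.card ↥(⁅A, C⁆ : Subgroup G) * Nat.card ↥(pCore p G) :=
          Nat.mul_le_mul_right _ h1
      _ = _ := by ring

theorem frattini_nNeg : (frattini ↥h.nNeg).map h.nNeg.subtype = ⁅A, C⁆ := by
  have hNp : IsPGroup p ↥h.nNeg := (isPGroup_pCore (G := G) p).to_le fun n hn => hn.1
  set R₀ := (⁅A, C⁆).subgroupOf h.nNeg with hR₀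
  haveI hn : R₀.Normal := ⟨fun r hr g => by
    show ((g * r * g⁻¹ : ↥h.nNeg) : G) ∈ ⁅A, C⁆
    rw [Subgroup.coe_mul, Subgroup.coe_mul, Subgroup.coe_inv,
      h.comm_fixed (show (r : G) ∈ ⁅A, C⁆ from hr) g, mul_inv_cancel_right]
    exact hr⟩
  letI : CommGroup (↥h.nNeg ⧸ R₀) :=
    { (inferInstance : Group (↥h.nNeg ⧸ R₀)) with
      mul_comm := fun a b => by
        obtain ⟨a, rfl⟩ := QuotientGroup.mk'_surjective R₀ a
        obtain ⟨b, rfl⟩ := QuotientGroup.mk'_surjective R₀ b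
        rw [← map_mul, ← map_mul]
        refine QuotientGroup.eq.mpr ?_
        show ((a * b)⁻¹ * (b * a) : ↥h.nNeg).1 ∈ ⁅A, C⁆
        have e : ((a * b)⁻¹ * (b * a) : ↥h.nNeg).1 = (b : G)⁻¹ * (a : G)⁻¹ * (b : G) * a := by
          simp only [Subgroup.coe_mul, Subgroup.coe_inv, _root_.mul_inv_rev]; group
        rw [e, ← h.comm_nNeg]
        have h1 := Subgroup.commutator_mem_commutator (inv_mem b.2) (inv_mem a.2)
        rwa [commutatorElement_def, inv_inv, inv_inv] at h1 }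
  have hexp : ∀ n : ↥h.nNeg ⧸ R₀, n ^ p = 1 := by
    intro n
    obtain ⟨⟨n, hn⟩, rfl⟩ := QuotientGroup.mk'_surjective R₀ n
    rw [← map_pow]
    refine (QuotientGroup.eq_one_iff _).mpr ?_
    show (n : G) ^ p ∈ ⁅A, C⁆
    obtain ⟨c, hc, a, ha, d, hd, rfl⟩ := h.two.split n hn.1
    obtain ⟨hcn, -, hcD, -, hcc⟩ := h.adj_C hc
    obtain ⟨han, -, haD, -, hac⟩ := h.adj_A ha
    obtain ⟨-, -, -, -, hec⟩ := h.adj_facts h.two.C_le h.two.elemC h.two.CD hc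
    obtain ⟨-, -, -, -, hea⟩ := h.adj_facts h.two.A_le h.two.elemA h.two.AD ha
    set dc := c * (z * c * z⁻¹) with hdc
    set da := a * (z * a * z⁻¹) with hda
    rw [← hec] at hcn
    rw [← hea] at han
    set d' := dc⁻¹ * da⁻¹ * d with hd'
    have hcdc : Commute c dc := (hcc c (h.two.C_le hc))
    have hada : Commute a da := (hac a (h.two.A_le ha))
    have he : c * a * d = c * dc * (a * da) * d' := by
      have e1 : Commute dc a := (hcc a (h.two.A_le ha)).symm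
      have e2 : Commute da dc := (hac dc (h.two.D_le hcD)).symm
      calc c * a * d = c * (a * dc) * dc⁻¹ * d := by group
        _ = c * dc * a * (da * dc⁻¹ * da⁻¹) * d := by rw [← e1.eq, e2.inv_right.eq]; group
        _ = _ := by rw [hd']; group
    have hd'D : d' ∈ D := mul_mem (mul_mem (inv_mem hcD) (inv_mem haD)) hd
    have hd'N : d' ∈ h.nNeg := by
      rw [show d' = (a * da)⁻¹ * (c * dc)⁻¹ * (c * a * d) by rw [he]; group]
      exact mul_mem (mul_mem (inv_mem han) (inv_mem hcn)) hn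
    have h3 : ∀ {u v : G}, Commute u v → u ^ p = 1 → v ^ p = 1 → (u * v) ^ p = 1 := fun huv hu hv => by
      rw [huv.mul_pow, hu, hv, one_mul]
    have hdp : ∀ {e : G}, e ^ p = 1 → Commute e (e * (z * e * z⁻¹)) → (e * (z * e * z⁻¹)) ^ p = 1 := fun {e} he hce => by
      have h4 : Commute e (z * e * z⁻¹) := mul_left_cancel (a := e) (by rw [hce.eq, mul_assoc])
      refine h3 h4 he ?_
      rw [conj_pow, he, mul_one, mul_inv_cancel]
    have hu : (c * dc) ^ p = 1 := h3 hcdc (h.two.elemC c hc) (hdp (h.two.elemC c hc) hcdc)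
    have hv : (a * da) ^ p = 1 := h3 hada (h.two.elemA a ha) (hdp (h.two.elemA a ha) hada)
    have hw := h.lower_pow (h.nNeg_inf_D hd'D hd'N)
    set π := QuotientGroup.mk' R₀
    have : π ⟨c * a * d, hn⟩ ^ p = 1 := by
      rw [show (⟨c * a * d, hn⟩ : ↥h.nNeg) = ⟨c * dc, hcn⟩ * ⟨a * da, han⟩ * ⟨d', hd'N⟩ from Subtype.ext he,
        map_mul, map_mul, mul_pow, mul_pow, ← map_pow, ← map_pow, ← map_pow,
        show (⟨c * dc, hcn⟩ : ↥h.nNeg) ^ p = 1 from Subtype.ext hu,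
        show (⟨a * da, han⟩ : ↥h.nNeg) ^ p = 1 from Subtype.ext hv,
        show (⟨d', hd'N⟩ : ↥h.nNeg) ^ p = 1 from Subtype.ext hw, map_one, one_mul, one_mul]
    rw [← map_pow] at this
    exact (QuotientGroup.eq_one_iff ((⟨c * a * d, hn⟩ : ↥h.nNeg) ^ p)).mp this
  refine le_antisymm ?_ ?_
  · rintro _ ⟨x, hx, rfl⟩
    have h1 := CfsgLib.YoshidaTransfer.frattini_le_ker (p := p) hexp (QuotientGroup.mk' R₀) hx
    exact (QuotientGroup.eq_one_iff x).mp h1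
  · calc ⁅A, C⁆ = (commutator ↥h.nNeg).map h.nNeg.subtype := by
          rw [_root_.commutator_def, Subgroup.map_commutator, ← MonoidHom.range_eq_map, Subgroup.range_subtype, h.comm_nNeg]
      _ ≤ _ := Subgroup.map_mono (CfsgLib.commutator_le_frattini_pGroup hNp)

/-- The image of the residual. -/
theorem rho_range : (ρ.comp (Cfsg.pResidual p G).subtype).range = commutator (Matrix.SpecialLinearGroup (Fin 2) F) := by
  rw [MonoidHom.range_comp, Subgroup.range_subtype, PResidual.map_pResidual h.surj, pResidual_sl]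

theorem acts_lower :
    ActsAsSL2OnSection F (commutator (Matrix.SpecialLinearGroup (Fin 2) F)) (Cfsg.pResidual p G)
      (wNeg S z ⊔ ⁅A, C⁆) ⁅A, C⁆ := by
  have hV := sup_le h.wNeg_le (h.comm_le_zc.trans inf_le_left)
  haveI := h.lower_normal
  let ψ : ↥(wNeg S z ⊔ ⁅A, C⁆) →* Multiplicative (Fin 2 → F) :=
    { toFun := fun u => Multiplicative.ofAdd (φ (u : G))
      map_one' := by rw [Subgroup.coe_one, h.sect.map_one]; rfl
      map_mul' := fun a b => by rw [Subgroup.coe_mul, h.sect.mul _ (hV a.2) _ (hV b.2)]; rfl }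
  refine ⟨(Subgroup.normalizer_eq_top_iff.mpr h.lower_normal).ge.trans' le_top, le_sup_right,
    ρ.comp (Cfsg.pResidual p G).subtype, ψ, h.rho_range, fun v => ?_, fun u => ?_, fun e u => ?_⟩
  · obtain ⟨w, hw, hwe⟩ := h.phi_onto (Multiplicative.toAdd v)
    exact ⟨⟨w, mem_sup_left hw⟩, congrArg Multiplicative.ofAdd hwe⟩
  · exact Iff.trans ⟨fun he => congrArg Multiplicative.toAdd he, fun he => congrArg Multiplicative.ofAdd he⟩
      (h.phi_lower u.2)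
  · exact ⟨⟨(e : G) * u * (e : G)⁻¹, h.lower_normal.conj_mem _ u.2 e⟩, rfl, h.sect.equiv e u (hV u.2)⟩

theorem acts_upper :
    ActsAsSL2OnSection F (commutator (Matrix.SpecialLinearGroup (Fin 2) F)) (Cfsg.pResidual p G)
      h.nNeg (wNeg S z ⊔ ⁅A, C⁆) := by
  let ψ : ↥h.nNeg →* Multiplicative (Fin 2 → F) :=
    { toFun := fun u => Multiplicative.ofAdd (φ' (u : G))
      map_one' := by rw [Subgroup.coe_one, h.sect'.map_one]; rfl
      map_mul' := fun a b => by rw [Subgroup.coe_mul, h.sect'.mul _ a.2.1 _ b.2.1]; rfl }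
  refine ⟨(Subgroup.normalizer_eq_top_iff.mpr h.nNeg_normal).ge.trans' le_top, h.lower_le_nNeg,
    ρ.comp (Cfsg.pResidual p G).subtype, ψ, h.rho_range, fun v => ?_, fun u => ?_, fun e u => ?_⟩
  · obtain ⟨w, hw, hwe⟩ := h.phi'_onto (Multiplicative.toAdd v)
    exact ⟨⟨w, hw⟩, congrArg Multiplicative.ofAdd hwe⟩
  · exact Iff.trans ⟨fun he => congrArg Multiplicative.toAdd he, fun he => congrArg Multiplicative.ofAdd he⟩
      (h.phi'_nNeg u.2)
  · exact ⟨⟨(e : G) * u * (e : G)⁻¹, h.nNeg_normal.conj_mem _ u.2 e⟩, rfl, h.sect'.equiv e u u.2.1⟩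

/-- **No element outside the core acts quadratically on the upper layer.** -/
theorem not_quadratic {b : G} (hb : b ∈ (S : Subgroup G))
    (hbU : b ∉ centralizer ((wNeg S z ⊔ ⁅A, C⁆ : Subgroup G) : Set G)) :
    ¬ ⁅⁅h.nNeg, Subgroup.zpowers b⁆, Subgroup.zpowers b⁆ ≤ ⁅A, C⁆ := by
  intro hquad
  haveI := h.nNeg_normal
  haveI := h.wNeg_normal
  have hbO : b ∉ pCore p G := fun hbO => hbU (Subgroup.mem_centralizer_iff.mpr fun m hm => (h.core_lower hbO hm).symm)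
  obtain ⟨x, hx, o, ho, rfl⟩ := exists_mul' (X := X) (normalizer_top (pCore p G) X) (h.two.X_sup.ge hb)
  have hxO : x ∉ pCore p G := fun hxO => hbO (mul_mem hxO ho)
  obtain ⟨a, ha, v, hv, hne, heq⟩ := h.two.keyAll x hx hxO
  obtain ⟨han, -, haD, haf, hac⟩ := h.adj_A ha
  obtain ⟨-, -, -, -, hea⟩ := h.adj_facts h.two.A_le h.two.elemA h.two.AD ha
  rw [← hea] at han
  set da := a * (z * a * z⁻¹) with hda
  -- `x` fixes the correcting element
  have hxda : x * da * x⁻¹ * da⁻¹ = 1 := by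
    have h1 : x * da * x⁻¹ * da⁻¹ ∈ wNeg S z := by
      refine (Subgroup.commutator_le.mpr fun y hy v hv => ?_) (h.two.DXv da haD x hx)
      obtain ⟨w, hw, e⟩ := h.conj_wNeg (g := y) hv
      rw [commutatorElement_def, e]
      exact mul_mem (h.wNeg_normal.conj_mem w hw y) (inv_mem hw)
    refine h.wNeg_fixed h1 ?_
    set m := x⁻¹ * z * x * z⁻¹ with hm
    have hmd : m * da = da * m := hac m (h.z_mod x)
    calc z * (x * da * x⁻¹ * da⁻¹) * z⁻¹
        = (z * x * z⁻¹) * (z * da * z⁻¹) * (z * x * z⁻¹)⁻¹ * (z * da * z⁻¹)⁻¹ := by group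
      _ = x * (m * da * m⁻¹) * x⁻¹ * da⁻¹ := by
          rw [haf, show z * x * z⁻¹ = x * m by rw [hm]; group]; group
      _ = _ := by rw [hmd, mul_inv_cancel_right]
  set a' := a * da with ha'
  set u := x * a * x⁻¹ * a⁻¹ with hu
  have hua : x * a' * x⁻¹ = u * a' := by
    rw [show x * a' * x⁻¹ = (x * a * x⁻¹) * (x * da * x⁻¹ * da⁻¹) * da by rw [ha']; group, hxda, hu, ha']; group
  have huN : u ∈ h.nNeg := by
    rw [show u = x * a' * x⁻¹ * a'⁻¹ by rw [hua]; group]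
    exact mul_mem (‹h.nNeg.Normal›.conj_mem _ han x) (inv_mem han)
  set r₁ := o * a' * o⁻¹ * a'⁻¹ with hr₁
  have hr₁R : r₁ ∈ ⁅A, C⁆ := h.core_comm ho han
  set r₂ := o * u * o⁻¹ * u⁻¹ with hr₂
  have hr₂R : r₂ ∈ ⁅A, C⁆ := h.core_comm ho huN
  have hg : x * o * a' * (x * o)⁻¹ * a'⁻¹ = r₁ * u := by
    rw [show x * o * a' * (x * o)⁻¹ * a'⁻¹ = (x * r₁) * a' * x⁻¹ * a'⁻¹ by rw [hr₁]; group, h.comm_fixed hr₁R x,
      show r₁ * x * a' * x⁻¹ * a'⁻¹ = r₁ * (x * a' * x⁻¹) * a'⁻¹ by group, hua]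
    group
  have h2 : x * o * (r₁ * u) * (x * o)⁻¹ * (r₁ * u)⁻¹ = r₂ * (x * v * x⁻¹ * v⁻¹) := by
    rw [← heq, show x * o * (r₁ * u) * (x * o)⁻¹ * (r₁ * u)⁻¹ =
      (x * (o * r₁)) * u * o⁻¹ * x⁻¹ * u⁻¹ * r₁⁻¹ by group, h.comm_fixed hr₁R o, ← mul_assoc x r₁ o,
      h.comm_fixed hr₁R x, show r₁ * x * o * u * o⁻¹ * x⁻¹ * u⁻¹ * r₁⁻¹ =
      r₁ * ((x * r₂) * u * x⁻¹ * u⁻¹) * r₁⁻¹ by rw [hr₂]; group, h.comm_fixed hr₂R x,
      ← h.comm_fixed hr₁R _, mul_inv_cancel_right]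
    group
  have h3 : ⁅⁅a', x * o⁆, x * o⁆ ∈ ⁅A, C⁆ := hquad (Subgroup.commutator_mem_commutator
    (Subgroup.commutator_mem_commutator han (Subgroup.mem_zpowers _)) (Subgroup.mem_zpowers _))
  rw [show ⁅a', x * o⁆ = (x * o * a' * (x * o)⁻¹ * a'⁻¹)⁻¹ by rw [commutatorElement_def]; group, hg,
    show ⁅(r₁ * u)⁻¹, x * o⁆ = (r₁ * u)⁻¹ * (x * o * (r₁ * u) * (x * o)⁻¹ * (r₁ * u)⁻¹) * (r₁ * u) by
      rw [commutatorElement_def]; group, h2] at h3
  have h5 : r₂ * (x * v * x⁻¹ * v⁻¹) ∈ ⁅A, C⁆ := by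
    have h6 : r₂ * (x * v * x⁻¹ * v⁻¹) * (r₁ * u) =
        (r₁ * u)⁻¹ * (r₂ * (x * v * x⁻¹ * v⁻¹)) * (r₁ * u) * (r₁ * u) := by
      rw [← h.comm_fixed h3 (r₁ * u)]; group
    rw [mul_right_cancel h6]
    exact h3
  have h7 := mul_mem (inv_mem hr₂R) h5
  rw [inv_mul_cancel_left] at h7
  exact hne (not_central h.setting h.mild h.two.opp h.two.conj (h.two.X_le hx) hxO hv (h.comm_le_zc h7).2)

end TwoEnv

end CfsgLib.BlockPush
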