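import Cfsg.Agent.Lib.BlockPush.BlockOne
import Cfsg.Agent.Lib.BlockPush.TwoLocal
import Cfsg.Agent.Lib.PLocal.ThompsonFactor

/-!
A component in the long configuration: its block is exceptional.
-/

set_option autoImplicit false
set_option linter.unusedSectionVars false
set_option linter.style.haveILetI false

namespace CfsgLib.BlockPush

open Cfsg CfsgLib CfsgLib.RootCommute CfsgLib.RootBlocks Matrix
open CfsgLib.SL2Pair (fix)
open CfsgLib.StrongFusion (cm cm_cm cm_one cm_inv_cm cm_mono card_cm conj_mem_cm)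
open scoped commutatorElement Pointwise

universe u

section Transport

variable {K : Type u} [Group K] [Finite K] {G' : Type u} [Group G'] [Finite G'] {p : ℕ} [Fact p.Prime] {f : K →* G'} (hf : Function.Injective f)
include hf

theorem omegaOneCenter_map_inj (X : Subgroup K) : omegaOneCenter p (X.map f) = (omegaOneCenter p X).map f :=
  (CfsgLib.PLocal.omegaZ_map (p := p) f fun _ _ _ _ h => hf h).symm

theorem inf_centralizer_map_inj (A X : Subgroup K) :
    A.map f ⊓ Subgroup.centralizer ((X.map f : Subgroup G') : Set G') =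
      (A ⊓ Subgroup.centralizer (X : Set K)).map f := by
  ext x
  constructor
  · rintro ⟨⟨a, ha, rfl⟩, hx⟩
    refine ⟨a, ⟨ha, fun k hk => hf ?_⟩, rfl⟩
    rw [map_mul, map_mul]
    exact hx (f k) ⟨k, hk, rfl⟩
  · rintro ⟨a, ⟨ha, hac⟩, rfl⟩
    refine ⟨⟨a, ha, rfl⟩, ?_⟩
    rintro _ ⟨k, hk, rfl⟩
    rw [← map_mul, ← map_mul, hac k hk]

theorem actsAsSL2_map_inj {F : Type} [Field F] {R : Subgroup (Matrix.SpecialLinearGroup (Fin 2) F)}
    {E U U₀ : Subgroup K} (h : ActsAsSL2OnSection F R E U U₀) :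
    ActsAsSL2OnSection F R (E.map f) (U.map f) (U₀.map f) := by
  obtain ⟨hN, hle, ρ, ψ, hρ, hψ, hker, heq⟩ := h
  refine ⟨(Subgroup.map_mono hN).trans (Subgroup.le_normalizer_map _), Subgroup.map_mono hle,
    ρ.comp (E.equivMapOfInjective f hf).symm.toMonoidHom,
    ψ.comp (U.equivMapOfInjective f hf).symm.toMonoidHom, ?_, ?_, ?_, ?_⟩
  · rw [← hρ, MonoidHom.range_comp, MonoidHom.range_eq_top.2 (MulEquiv.surjective _), ← MonoidHom.range_eq_map]
  · exact hψ.comp (MulEquiv.surjective _)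
  · intro x
    obtain ⟨u, rfl⟩ := (U.equivMapOfInjective f hf).surjective x
    rw [MonoidHom.comp_apply, MulEquiv.coe_toMonoidHom, MulEquiv.symm_apply_apply, hker,
      Subgroup.coe_equivMapOfInjective_apply]
    exact (Subgroup.mem_map_iff_mem hf).symm
  · intro a x
    obtain ⟨b, rfl⟩ := (E.equivMapOfInjective f hf).surjective a
    obtain ⟨u, rfl⟩ := (U.equivMapOfInjective f hf).surjective x
    obtain ⟨w, hw, hw'⟩ := heq b u
    refine ⟨U.equivMapOfInjective f hf w, ?_, ?_⟩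
    · simp [hw]
    · simpa using hw'

theorem frattini_map_inj (X : Subgroup K) :
    (frattini ↥(X.map f)).map (X.map f).subtype = ((frattini ↥X).map X.subtype).map f := by
  have hη : (frattini ↥X).map (X.equivMapOfInjective f hf).toMonoidHom = frattini ↥(X.map f) :=
    le_antisymm (Subgroup.map_le_iff_le_comap.2 (frattini_le_comap_frattini_of_surjective
        (MulEquiv.surjective _))) fun y hy =>
      ⟨(X.equivMapOfInjective f hf).symm y,
        frattini_le_comap_frattini_of_surjective (φ := (X.equivMapOfInjective f hf).symm.toMonoidHom)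
          (MulEquiv.surjective _) hy, MulEquiv.apply_symm_apply _ _⟩
  rw [← hη, Subgroup.map_map, Subgroup.map_map]
  rfl

end Transport

variable {G : Type u} [Group G] [Finite G] {p : ℕ} [hp : Fact p.Prime]

attribute [local instance] commGroupOf

/-- The exceptional shape of a block. -/
structure Exc (T : Sylow p G) (E₀ : Subgroup (G ⧸ cV p G)) : Prop where
  three : p = 3
  quot : ∃ (F : Type) (_ : Field F) (_ : Fintype F) (n : ℕ), Fintype.card F = p ^ n ∧
    Nonempty (↥(blk T E₀) ⧸ pCore p ↥(blk T E₀) ≃* ↥(commutator (Matrix.SpecialLinearGroup (Fin 2) F))) ∧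
    ActsAsSL2OnSection F (commutator (Matrix.SpecialLinearGroup (Fin 2) F)) (blk T E₀)
      (omegaOneCenter p (pCoreOf p (blk T E₀)))
      (omegaOneCenter p (pCoreOf p (blk T E₀)) ⊓ Subgroup.centralizer (blk T E₀ : Set G)) ∧
    ActsAsSL2OnSection F (commutator (Matrix.SpecialLinearGroup (Fin 2) F)) (blk T E₀)
      (pCoreOf p (blk T E₀)) (omegaOneCenter p (pCoreOf p (blk T E₀))) ∧
    Nat.card ↥(blk T E₀ ⊓ Subgroup.centralizer (blk T E₀ : Set G)) = 3 ^ n
  derived : ⁅pCoreOf p (blk T E₀), pCoreOf p (blk T E₀)⁆ =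
    omegaOneCenter p (pCoreOf p (blk T E₀)) ⊓ Subgroup.centralizer (blk T E₀ : Set G)
  frat : (frattini ↥(pCoreOf p (blk T E₀))).map (pCoreOf p (blk T E₀)).subtype =
    omegaOneCenter p (pCoreOf p (blk T E₀)) ⊓ Subgroup.centralizer (blk T E₀ : Set G)
  cent : blk T E₀ ⊓ Subgroup.centralizer (blk T E₀ : Set G) =
    omegaOneCenter p (pCoreOf p (blk T E₀)) ⊓ Subgroup.centralizer (blk T E₀ : Set G)
  quad : ∀ b : G, b ∈ tB T → b ∉ Subgroup.centralizer (omegaOneCenter p (pCoreOf p (blk T E₀)) : Set G) →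
    ¬ ⁅⁅pCoreOf p (blk T E₀), Subgroup.zpowers b⁆, Subgroup.zpowers b⁆ ≤
      blk T E₀ ⊓ Subgroup.centralizer (blk T E₀ : Set G)
  comm_rest : ∀ n ∈ nComp T E₀, ∀ q ∈ pCoreOf p (blk T E₀),
    n * q * n⁻¹ * q⁻¹ ∈ ⁅pCoreOf p (blk T E₀), pCoreOf p (blk T E₀)⁆
  omega_le : omegaOneCenter p (pCoreOf p (blk T E₀)) ≤ wComp E₀ ⊔ ⁅pCoreOf p (blk T E₀), pCoreOf p (blk T E₀)⁆
  derived_le : ⁅pCoreOf p (blk T E₀), pCoreOf p (blk T E₀)⁆ ≤ omegaOneCenter p (pCoreOf p (blk T E₀))
  omega_cent : ∀ u ∈ omegaOneCenter p (pCoreOf p (blk T E₀)), ∀ q ∈ pCoreOf p (blk T E₀), u * q = q * u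
  res : pCoreOf p (blk T E₀) ≤ ⁅pCoreOf p (blk T E₀), blk T E₀⁆

namespace Ctx

variable {T : Sylow p G} {M : Subgroup G} (c : Ctx T M)
include c
variable {r : ℕ} {E : Fin r → Subgroup (G ⧸ cV p G)}
  (L : Layout (qAct p G) (T.mapSurjective qC_surjective) (M.map (qC p G)) E)
include L

variable {i : Fin r} {H : Subgroup G} {R : Subgroup (G ⧸ cV p G)} {S : Sylow p ↥H}

theorem kComp_le_local (hl : Local T E i H R S) (hER : E i ≤ R) : kComp T (E i) ≤ H := by
  intro g hg
  obtain ⟨h, hh, he⟩ := hl.supp.map_eq.ge (hER hg.2)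
  have h1 : h⁻¹ * g ∈ qZero T := c.mem_qZero_of_one L (mul_mem (inv_mem (hl.supp.le_gZero hh)) hg.1)
    (by rw [map_mul, map_inv, he, inv_mul_cancel])
  have h2 := mul_mem hh (hl.supp.tB_le h1.2)
  rwa [mul_inv_cancel_left] at h2

/-- The block is the residual of the local subgroup. -/
theorem res_local (hl : Local T E i H R S) (hER : E i ≤ R) :
    (Cfsg.pResidual p ↥H).map H.subtype = blk T (E i) := by
  refine le_antisymm ?_ (BBlock.pResidualOf_le fun g hg hc =>
    ⟨⟨g, c.kComp_le_local L hl hER hg⟩, Subgroup.subset_closure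
      (show (orderOf (⟨g, _⟩ : ↥H)).Coprime p by rwa [← Subgroup.orderOf_coe]), rfl⟩)
  rw [Subgroup.map_le_iff_le_comap]
  refine (Subgroup.closure_le _).2 fun g hg => ?_
  have hc : (orderOf (g : G)).Coprime p := by rwa [Subgroup.orderOf_coe]
  exact BBlock.mem_pResidualOf (Subgroup.mem_inf.2 ⟨hl.supp.le_gZero g.2, c.coprime_image L hl g.2 hc⟩) hc

/-- **The block of a component in the long configuration is exceptional.** -/
theorem exc_of_twoAt {i : Fin r} (h : TwoAt T E i) : Exc T (E i) := by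
  classical
  obtain ⟨H, R, S, hl, F, iF, iF', hch, f, T', X, Y, A, C, D, h2, hco⟩ := h
  haveI := hch
  have hs := hl.supp.setting
  have hd := hl.supp.noChar.mild hs
  obtain ⟨ρ, φ, φ', z, hE⟩ := exists_twoEnv h2 hs hd hco
  have h3 := hE.three
  have hsl : IsSLKind (qAct p G) (T.mapSurjective qC_surjective) (E i) := (L.kind i).resolve_right fun hk => by
    obtain ⟨n, e, ψ, μ, rfl, -⟩ := hk
    omega
  have hER := c.comp_le_region L hl hsl
  have hres := c.res_local L hl hER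
  have hinj := H.subtype_injective
  have hBH : blk T (E i) ≤ H := hres.ge.trans (Subgroup.map_subtype_le _)
  -- the core of the block
  have hQ : pCoreOf p (blk T (E i)) = hE.nNeg.map H.subtype := by
    rw [← hE.core_eq]
    refine le_antisymm ?_ ?_
    · rw [c.pCoreOf_blk L]
      intro x hx
      obtain ⟨y, hy, rfl⟩ := hres.ge hx.1
      exact ⟨y, ⟨hy, hl.supp.qZero_le (c.blk_core_le L i hx)⟩, rfl⟩
    · rintro _ ⟨y, ⟨hy, hyO⟩, rfl⟩
      have hyB : (y : G) ∈ blk T (E i) := hres.le ⟨y, hy, rfl⟩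
      refine ⟨⟨y, hyB⟩, ?_, rfl⟩
      haveI : ((pCore p ↥H).comap (Subgroup.inclusion hBH)).Normal := inferInstance
      exact le_pCore ((isPGroup_pCore (G := ↥H) p).comap_of_injective _ (Subgroup.inclusion_injective hBH))
        (show (⟨y, hyB⟩ : ↥(blk T (E i))) ∈ (pCore p ↥H).comap (Subgroup.inclusion hBH) from hyO)
  have hU : omegaOneCenter p (pCoreOf p (blk T (E i))) = (wNeg S z ⊔ ⁅A, C⁆).map H.subtype := by
    rw [hQ, omegaOneCenter_map_inj hinj, hE.omega_eq]
  have hUC : omegaOneCenter p (pCoreOf p (blk T (E i))) ⊓ Subgroup.centralizer (blk T (E i) : Set G) =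
      (⁅A, C⁆).map H.subtype := by
    rw [hU, ← hres, inf_centralizer_map_inj hinj, hE.omega_inf_cent]
  have hEC : blk T (E i) ⊓ Subgroup.centralizer (blk T (E i) : Set G) = (⁅A, C⁆).map H.subtype := by
    rw [← hres, inf_centralizer_map_inj hinj, hE.inf_cent]
  have hR : ⁅pCoreOf p (blk T (E i)), pCoreOf p (blk T (E i))⁆ = (⁅A, C⁆).map H.subtype := by
    rw [hQ, ← Subgroup.map_commutator, hE.comm_nNeg]
  obtain ⟨n, hn⟩ : ∃ n : ℕ, Fintype.card F = p ^ n := ⟨_, (FiniteField.card F p).choose_spec.2⟩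
  refine ⟨h3, ⟨F, iF, iF', n, hn, ?_, ?_, ?_, ?_⟩, hR.trans hUC.symm, ?_, hEC.trans hUC.symm, ?_, ?_, ?_, ?_, ?_, ?_⟩
  · -- the quotient
    let θ : ↥(blk T (E i)) →* Matrix.SpecialLinearGroup (Fin 2) F := ρ.comp (Subgroup.inclusion hBH)
    have hrange : θ.range = commutator (Matrix.SpecialLinearGroup (Fin 2) F) := by
      rw [← hE.rho_range]
      ext x
      constructor
      · rintro ⟨y, rfl⟩
        obtain ⟨w, hw, hwy⟩ := hres.ge y.2
        exact ⟨⟨w, hw⟩, congrArg ρ (show w = Subgroup.inclusion hBH y from Subtype.ext hwy)⟩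
      · rintro ⟨w, rfl⟩
        exact ⟨⟨_, hres.le ⟨(w : ↥H), w.2, rfl⟩⟩, rfl⟩
    have hker : θ.ker = pCore p ↥(blk T (E i)) := by
      refine le_antisymm ?_ fun y hy => ?_
      · haveI : ((pCore p ↥H).comap (Subgroup.inclusion hBH)).Normal := inferInstance
        rw [← MonoidHom.comap_ker, hE.ker]
        exact le_pCore ((isPGroup_pCore (G := ↥H) p).comap_of_injective _ (Subgroup.inclusion_injective hBH))
      · obtain ⟨w, hw, hwy⟩ := hQ.le ⟨y, hy, rfl⟩
        rw [MonoidHom.mem_ker]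
        show ρ (Subgroup.inclusion hBH y) = 1
        rw [← show w = Subgroup.inclusion hBH y from Subtype.ext hwy, ← MonoidHom.mem_ker, hE.ker]
        exact hw.1
    exact ⟨(QuotientGroup.quotientMulEquivOfEq hker.symm).trans
      ((QuotientGroup.quotientKerEquivRange θ).trans (MulEquiv.subgroupCongr hrange))⟩
  · rw [hUC, hU]
    have := actsAsSL2_map_inj hinj hE.acts_lower
    rwa [hres] at this
  · rw [hU, hQ]
    have := actsAsSL2_map_inj hinj hE.acts_upper
    rwa [hres] at this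
  · rw [hEC, Subgroup.card_map_of_injective hinj, hE.card_R, hn, h3]
  · rw [hQ, frattini_map_inj hinj, hE.frattini_nNeg, ← hUC, hQ]
  · intro b hb hbU
    rw [hEC, hQ]
    have hbH : b ∈ H := hl.supp.tB_le hb
    have e : Subgroup.zpowers b = (Subgroup.zpowers (⟨b, hbH⟩ : ↥H)).map H.subtype := by
      rw [MonoidHom.map_zpowers]; rfl
    rw [e, ← Subgroup.map_commutator, ← Subgroup.map_commutator, Subgroup.map_le_map_iff_of_injective hinj]
    refine hE.not_quadratic (hl.supp.sylow.ge hb) fun hc => hbU ?_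
    rw [hU]
    rintro _ ⟨m, hm, rfl⟩
    exact congrArg Subtype.val (hc m hm)
  · intro m hm q hq
    rw [hR]
    obtain ⟨q, hq', rfl⟩ := hQ.le hq
    have hmH : m ∈ H := hl.supp.tB_le (c.nComp_le L i hm)
    exact ⟨_, hE.core_comm (c.nComp_le_core L hl (n := ⟨m, hmH⟩) hm) hq', rfl⟩
  · rw [hR, hU, Subgroup.map_sup]
    refine sup_le_sup_right ?_ _
    rintro _ ⟨w, hw, rfl⟩
    have hwp := hE.pow_three (PushUp.vmod_pow hs hd hw.1)
    have hc : (orderOf (z : G)).Coprime p := by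
      have h1 : (z : G) * z = 1 := congrArg Subtype.val hE.sq
      exact Nat.Coprime.coprime_dvd_left (orderOf_dvd_of_pow_eq_one (by rw [pow_two]; exact h1))
        (by rw [h3]; decide)
    have h4 := c.comm_xQ L (c.coprime_image L hl z.2 hc) hc (c.vmod_le_xQ L hl hw.1)
    have e : z * w * z⁻¹ * w⁻¹ = w := by rw [hw.2.2, ← _root_.mul_inv_rev, hwp, inv_inv]
    have e' : (z : G) * w * (z : G)⁻¹ * (w : G)⁻¹ = w := congrArg Subtype.val e
    rwa [e'] at h4
  · rw [hR, hU]; exact Subgroup.map_mono le_sup_right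
  · intro u hu q hq
    obtain ⟨u, hu', rfl⟩ := hU.le hu
    obtain ⟨q, hq', rfl⟩ := hQ.le hq
    exact congrArg Subtype.val (hE.core_lower hq'.1 hu').symm
  · rw [hQ, ← hres, ← Subgroup.map_commutator]
    refine Subgroup.map_mono fun n hn => ?_
    haveI := hE.nNeg_normal
    -- `n` is a commutator with `z` up to the lower layer
    have hlow : wNeg S z ⊔ ⁅A, C⁆ ≤ ⁅hE.nNeg, Cfsg.pResidual p ↥H⁆ := by
      refine sup_le (fun w hw => ?_) ?_
      · have hwp := hE.pow_three (PushUp.vmod_pow hs hd hw.1)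
        have h4 : ⁅w, z⁆ ∈ ⁅hE.nNeg, Cfsg.pResidual p ↥H⁆ :=
          Subgroup.commutator_mem_commutator (hE.lower_le_nNeg (Subgroup.mem_sup_left hw)) hE.res
        have e : ⁅w, z⁆ = w⁻¹ := by
          have e1 : z * w⁻¹ * z⁻¹ = w := by
            rw [show z * w⁻¹ * z⁻¹ = (z * w * z⁻¹)⁻¹ by group, hw.2.2, inv_inv]
          rw [commutatorElement_def, show w * z * w⁻¹ * z⁻¹ = w * (z * w⁻¹ * z⁻¹) by group, e1, hwp]
        rw [e] at h4
        exact inv_mem_iff.1 h4
      · rw [← hE.comm_nNeg]; exact Subgroup.commutator_mono le_rfl hE.nNeg_le_res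
    have h6 : n * n ∈ ⁅hE.nNeg, Cfsg.pResidual p ↥H⁆ := by
      have e : n * n = ⁅n, z⁆ * (z * n * z⁻¹ * n) := by rw [commutatorElement_def]; group
      rw [e]
      exact mul_mem (Subgroup.commutator_mem_commutator hn hE.res) (hlow hn.2.1)
    obtain ⟨k, hk⟩ := isPGroup_pCore (G := ↥H) p ⟨n, hn.1⟩
    have hk' : n ^ p ^ k = 1 := congrArg Subtype.val hk
    obtain ⟨m, hm⟩ : Odd (p ^ k) := by rw [h3]; exact (by decide : Odd 3).pow
    rw [show n = (n * n) ^ (m + 1) by
      rw [← pow_two, ← pow_mul, show 2 * (m + 1) = p ^ k + 1 by omega, pow_succ, hk', one_mul]]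
    exact pow_mem h6 _

end Ctx

end CfsgLib.BlockPush
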