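import Cfsg.Agent.Lib.BlockPush.Commute

/-!
The blocks are Baumann blocks, and together with the Sylow subgroup they give the whole group.
-/

set_option autoImplicit false
set_option linter.unusedSectionVars false
set_option linter.style.haveILetI false

namespace CfsgLib.BlockPush

open Cfsg CfsgLib CfsgLib.RootCommute CfsgLib.RootBlocks Matrix Equiv
open CfsgLib.SL2Pair (fix)
open CfsgLib.StrongFusion (cm cm_cm cm_one cm_inv_cm cm_mono card_cm conj_mem_cm)
open scoped commutatorElement Pointwise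

universe u

/-- The image of a subgroup in a quotient, read through a homomorphism with that kernel. -/
theorem map_mk_equiv {A : Type*} [Group A] {B : Type*} [Group B] (θ : A →* B) {N : Subgroup A} [N.Normal]
    (hN : θ.ker = N) (X : Subgroup A) :
    Nonempty (↥(X.map (QuotientGroup.mk' N)) ≃* ↥(X.map θ)) := by
  let l : A ⧸ N →* B := QuotientGroup.lift N θ hN.ge
  have hl : Function.Injective l := (injective_iff_map_eq_one l).2 fun a ha => by
    obtain ⟨a, rfl⟩ := QuotientGroup.mk'_surjective N a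
    exact (QuotientGroup.eq_one_iff a).2 (hN.le ha)
  refine ⟨((X.map (QuotientGroup.mk' N)).equivMapOfInjective l hl).trans (MulEquiv.subgroupCongr ?_)⟩
  rw [Subgroup.map_map]
  rfl

variable {G : Type u} [Group G] [Finite G] {p : ℕ} [hp : Fact p.Prime]

attribute [local instance] commGroupOf

namespace Ctx

variable {T : Sylow p G} {M : Subgroup G} (c : Ctx T M)
include c
variable {r : ℕ} {E : Fin r → Subgroup (G ⧸ cV p G)}
  (L : Layout (qAct p G) (T.mapSurjective qC_surjective) (M.map (qC p G)) E)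
include L

/-- The block mapped to its component. -/
noncomputable def qBlk (i : Fin r) : ↥(blk T (E i)) →* ↥(E i) :=
  ((qC p G).comp (blk T (E i)).subtype).codRestrict (E i) fun g => c.blk_image L g.2

theorem qBlk_coe (i : Fin r) (g : ↥(blk T (E i))) : ((c.qBlk L i g : ↥(E i)) : G ⧸ cV p G) = qC p G g := rfl

theorem mem_core_blk (i : Fin r) {g : ↥(blk T (E i))} : g ∈ pCore p ↥(blk T (E i)) ↔ qC p G (g : G) = 1 := by
  rw [← c.mem_core_iff L]
  refine ⟨fun h => ((c.pCoreOf_blk L i).le ⟨g, h, rfl⟩).2, fun h => ?_⟩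
  obtain ⟨y, hy, e⟩ := (c.pCoreOf_blk L i).ge (Subgroup.mem_inf.2 ⟨g.2, h⟩)
  rwa [← (blk T (E i)).subtype_injective e]

theorem hom_ker (i : Fin r) {G0 : Type*} [Group G0] (e : ↥(E i) ≃* G0) :
    (e.toMonoidHom.comp (c.qBlk L i)).ker = pCore p ↥(blk T (E i)) := by
  ext g
  rw [MonoidHom.mem_ker, MonoidHom.comp_apply, MulEquiv.coe_toMonoidHom, MulEquiv.map_eq_one_iff,
    c.mem_core_blk L]
  exact ⟨fun h => congrArg Subtype.val h, fun h => Subtype.ext h⟩

theorem hom_range (i : Fin r) {G0 : Type*} [Group G0] [Finite G0] (e : ↥(E i) ≃* G0) :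
    (e.toMonoidHom.comp (c.qBlk L i)).range = Cfsg.pResidual p G0 := by
  ext z
  constructor
  · rintro ⟨g, rfl⟩
    show e (c.qBlk L i g) ∈ _
    rw [map_pResidualOf e, qBlk_coe, ← c.blk_map L i]
    exact Subgroup.mem_map_of_mem _ g.2
  · intro hz
    obtain ⟨g, hg, hge⟩ := (c.blk_map L i).ge ((map_pResidualOf e (g := e.symm z)).1 (by rwa [MulEquiv.apply_symm_apply]))
    refine ⟨⟨g, hg⟩, ?_⟩
    show e (c.qBlk L i ⟨g, hg⟩) = z
    rw [show c.qBlk L i ⟨g, hg⟩ = e.symm z from Subtype.ext hge, MulEquiv.apply_symm_apply]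

/-- The quotient of a block by its core. -/
theorem quot_equiv (i : Fin r) {G0 : Type*} [Group G0] [Finite G0] (e : ↥(E i) ≃* G0) :
    Nonempty (↥(blk T (E i)) ⧸ pCore p ↥(blk T (E i)) ≃* ↥(Cfsg.pResidual p G0)) :=
  ⟨(QuotientGroup.quotientMulEquivOfEq (c.hom_ker L i e).symm).trans
    ((QuotientGroup.quotientKerEquivRange _).trans (MulEquiv.subgroupCongr (c.hom_range L i e)))⟩

theorem omega_wComp (i : Fin r) : omegaOneCenter p (wComp (E i)) = wComp (E i) := by
  refine le_antisymm (BBlock.omegaOneCenter_le p _) fun w hw => Subgroup.subset_closure ⟨⟨hw, ?_⟩, ?_⟩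
  · exact fun v hv => vQ_comm (wComp_le_vQ _ hv) (wComp_le_vQ _ hw)
  · exact vQ_pow (wComp_le_vQ _ hw)

theorem cent_wComp {i : Fin r} {w : G} (hw : w ∈ wComp (E i)) :
    w ∈ Subgroup.centralizer (blk T (E i) : Set G) ↔ av (wComp_le_vQ _ hw) ∈ fix (qAct p G) (E i) := by
  refine ⟨fun hc => ?_, fun hf => Subgroup.mem_centralizer_iff.2 fun g hg => ?_⟩
  · refine L.qfix_res i fun a ha => ?_
    obtain ⟨g, hg, rfl⟩ := (c.blk_map L i).ge ha
    have h1 : g * w * g⁻¹ = w := by rw [Subgroup.mem_centralizer_iff.1 hc g hg, mul_inv_cancel_right]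
    rw [qAct_av, av_eq (hw := wComp_le_vQ _ hw) |>.2 h1, sub_self]
    exact zero_mem _
  · have h1 := hf _ (c.blk_image L hg)
    rw [qAct_av, av_eq] at h1
    exact mul_inv_eq_iff_eq_mul.1 h1

/-- The coordinates of a component restricted to `W_i`. -/
theorem exists_coords_wComp (i : Fin r) {U0 : Type*} [AddCommGroup U0] (ψ : Additive ↥(vQ p G) →+ U0)
    (hs : Function.Surjective ψ) (hk : ∀ w, ψ w = 0 ↔ w ∈ fix (qAct p G) (E i)) :
    ∃ φ : ↥(wComp (E i)) →* Multiplicative U0, (∀ y, ∃ w, φ w = y) ∧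
      (∀ w : ↥(wComp (E i)), φ w = 1 ↔ (w : G) ∈ wComp (E i) ⊓ Subgroup.centralizer (blk T (E i) : Set G)) ∧
      ∀ w : ↥(wComp (E i)), Multiplicative.toAdd (φ w) = ψ (av (wComp_le_vQ _ w.2)) := by
  let φ : ↥(wComp (E i)) →* Multiplicative U0 :=
    { toFun := fun w => Multiplicative.ofAdd (ψ (av (wComp_le_vQ _ w.2)))
      map_one' := by
        show Multiplicative.ofAdd (ψ (0 : Additive ↥(vQ p G))) = 1
        rw [map_zero]; rfl
      map_mul' := fun a b => by
        show Multiplicative.ofAdd (ψ (av _)) = Multiplicative.ofAdd (ψ (av _) + ψ (av _))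
        rw [← map_add, av_add] }
  refine ⟨φ, fun y => ?_, fun w => ?_, fun w => rfl⟩
  · obtain ⟨x, hx⟩ := hs (Multiplicative.toAdd y)
    obtain ⟨f, hf, u, hu, rfl⟩ := AddSubgroup.mem_sup.1 ((fix_sup_img L.sum L.other i).ge (AddSubgroup.mem_top x))
    obtain ⟨v, hv, rfl⟩ := exists_av u
    refine ⟨⟨v, hv, hu⟩, ?_⟩
    rw [map_add, (hk f).2 hf, zero_add] at hx
    exact congrArg Multiplicative.ofAdd hx
  · have e : φ w = 1 ↔ ψ (av (wComp_le_vQ _ w.2)) = 0 :=
      ⟨fun he => congrArg Multiplicative.toAdd he, fun he => congrArg Multiplicative.ofAdd he⟩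
    rw [e, hk, ← c.cent_wComp L w.2]
    exact ⟨fun h => ⟨w.2, h⟩, fun h => h.2⟩

theorem blk_le_normalizer_wComp (i : Fin r) : blk T (E i) ≤ Subgroup.normalizer (wComp (E i) : Set G) :=
  fun _ hg => normalizer_wComp (Subgroup.mem_normalizer_iff_map_conj_eq.1 (Subgroup.le_normalizer (c.blk_image L hg)))

theorem acts_sl (i : Fin r) {F : Type} [Field F] [Fintype F] [CharP F p]
    (e : ↥(E i) ≃* Matrix.SpecialLinearGroup (Fin 2) F) (ψ : Additive ↥(vQ p G) →+ (Fin 2 → F))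
    (hs : Function.Surjective ψ) (hk : ∀ w, ψ w = 0 ↔ w ∈ fix (qAct p G) (E i))
    (ha : ∀ (g : ↥(E i)) w, ψ (qAct p G (g : G ⧸ cV p G) w) = natSL (e g) (ψ w)) :
    ActsAsSL2OnSection F (commutator (Matrix.SpecialLinearGroup (Fin 2) F)) (blk T (E i)) (wComp (E i))
      (wComp (E i) ⊓ Subgroup.centralizer (blk T (E i) : Set G)) := by
  obtain ⟨φ, h1, h2, h3⟩ := c.exists_coords_wComp L i ψ hs hk
  refine ⟨c.blk_le_normalizer_wComp L i, inf_le_left, e.toMonoidHom.comp (c.qBlk L i), φ,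
    by rw [c.hom_range L i e, pResidual_sl], h1, h2, fun g w =>
    ⟨⟨(g : G) * w * (g : G)⁻¹, (Subgroup.mem_normalizer_iff.1 (c.blk_le_normalizer_wComp L i g.2) _).1 w.2⟩, rfl, ?_⟩⟩
  rw [h3, h3]
  refine Eq.trans ?_ (ha (c.qBlk L i g) _)
  rw [qBlk_coe, qAct_av]

theorem acts_perm {i : Fin r} {k : ℕ} (hp2 : p = 2) (e : ↥(E i) ≃* Perm (Fin k))
    (ψ : Additive ↥(vQ p G) →+ ↥(evenVec (Fin k))) (hs : Function.Surjective ψ)
    (hk : ∀ w, ψ w = 0 ↔ w ∈ fix (qAct p G) (E i))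
    (ha : ∀ (g : ↥(E i)) w, ψ (qAct p G (g : G ⧸ cV p G) w) = natPerm (e g) (ψ w)) :
    ActsAsOddPermModuleOnSection k (alternatingGroup (Fin k)) (blk T (E i)) (wComp (E i))
      (wComp (E i) ⊓ Subgroup.centralizer (blk T (E i) : Set G)) := by
  subst hp2
  obtain ⟨φ, h1, h2, h3⟩ := c.exists_coords_wComp L i ψ hs hk
  let ι : Multiplicative ↥(evenVec (Fin k)) →* Multiplicative (Fin k → ZMod 2) :=
    AddMonoidHom.toMultiplicative (evenVec (Fin k)).subtype
  refine ⟨c.blk_le_normalizer_wComp L i, inf_le_left, e.toMonoidHom.comp (c.qBlk L i), ι.comp φ,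
    by rw [c.hom_range L i e, pResidual_perm], fun w => (Multiplicative.toAdd (φ w)).2, fun v hv => ?_, fun w => ?_,
    fun g w =>
      ⟨⟨(g : G) * w * (g : G)⁻¹, (Subgroup.mem_normalizer_iff.1 (c.blk_le_normalizer_wComp L i g.2) _).1 w.2⟩,
        rfl, fun j => ?_⟩⟩
  · obtain ⟨w, hw⟩ := h1 (Multiplicative.ofAdd ⟨v, hv⟩)
    refine ⟨w, ?_⟩
    show ((Multiplicative.toAdd (φ w) : ↥(evenVec (Fin k))) : Fin k → ZMod 2) = v
    rw [hw]
    rfl
  · rw [← h2]
    refine ⟨fun he => ?_, fun he => by rw [MonoidHom.comp_apply, he, map_one]⟩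
    exact congrArg Multiplicative.ofAdd (Subtype.ext (congrArg Multiplicative.toAdd he))
  · have e1 := ha (c.qBlk L i g) (av (wComp_le_vQ _ w.2))
    rw [qBlk_coe, qAct_av] at e1
    show ((Multiplicative.toAdd (φ _) : ↥(evenVec (Fin k))) : Fin k → ZMod 2) j =
      ((Multiplicative.toAdd (φ w) : ↥(evenVec (Fin k))) : Fin k → ZMod 2) _
    rw [h3, h3, e1]
    rfl

/-- Conjugates of blocks, with the component named. -/
theorem blk_conj_eq {g : G} {i j : Fin r} (h : cm (qC p G g) (E i) = E j) :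
    (blk T (E i)).map (MulAut.conj g).toMonoidHom = blk T (E j) := by
  have hk : (kComp T (E i)).map (MulAut.conj g).toMonoidHom = kComp T (E j) := by
    refine le_antisymm ?_ fun x hx => ?_
    · rintro _ ⟨x, hx, rfl⟩
      refine Subgroup.mem_inf.2 ⟨(c.gZero_normal L).conj_mem x hx.1 g, ?_⟩
      show qC p G (g * x * g⁻¹) ∈ E j
      rw [map_mul, map_mul, map_inv, ← h]
      exact conj_mem_cm hx.2
    · refine ⟨g⁻¹ * x * g, Subgroup.mem_inf.2 ⟨?_, ?_⟩, by simp [mul_assoc]⟩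
      · have := (c.gZero_normal L).conj_mem x hx.1 g⁻¹
        rwa [inv_inv] at this
      · rw [Subgroup.mem_comap, map_mul, map_mul, map_inv, ← RootCommute.mem_cm, h]
        exact hx.2
  rw [blk, map_pResidualOf_map, hk]
  rfl

theorem blk_trans (i j : Fin r) :
    ∃ t ∈ (T : Subgroup G), (blk T (E i)).map (MulAut.conj t).toMonoidHom = blk T (E j) := by
  obtain ⟨t', ⟨t, ht, rfl⟩, he⟩ := L.trans i j
  exact ⟨t, ht, c.blk_conj_eq L he⟩

theorem kComp_le_join (i : Fin r) : kComp T (E i) ≤ (⨆ j, blk T (E j)) ⊔ (T : Subgroup G) :=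
  (c.kComp_le_sup L i).trans (sup_le_sup (le_iSup (fun j => blk T (E j)) i) (inf_le_right.trans (tB_le T)))

theorem blk_iSup_sup_T : (⨆ j, blk T (E j)) ⊔ (T : Subgroup G) = ⊤ := by
  refine top_le_iff.1 ((c.jG_sup_T L).ge.trans (sup_le (fun g hg => ?_) le_sup_right))
  have h1 : qC p G g ∈ ((⨆ j, blk T (E j)) ⊔ (T : Subgroup G)).map (qC p G) := by
    have h2 : (⨆ j, E j) ≤ ((⨆ j, blk T (E j)) ⊔ (T : Subgroup G)).map (qC p G) := iSup_le fun j => by
      rw [← c.kComp_map L j]; exact Subgroup.map_mono (c.kComp_le_join L j)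
    exact h2 ((c.map_jG L).le (Subgroup.mem_map_of_mem _ hg))
  obtain ⟨y, hy, hye⟩ := h1
  have h3 : y⁻¹ * g ∈ pCore p G := (c.mem_core_iff L).2 (by rw [map_mul, map_inv, hye, inv_mul_cancel])
  have h4 := mul_mem hy (Subgroup.mem_sup_right (pCore_le_sylow T h3) :
    y⁻¹ * g ∈ (⨆ j, blk T (E j)) ⊔ (T : Subgroup G))
  rwa [mul_inv_cancel_left] at h4

theorem blk_iSup_normal : (⨆ j, blk T (E j)).Normal := by
  refine ⟨fun x hx g => ?_⟩
  have hle : (⨆ j, blk T (E j)).map (MulAut.conj g).toMonoidHom ≤ ⨆ j, blk T (E j) := by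
    rw [Subgroup.map_iSup]
    refine iSup_le fun j => ?_
    obtain ⟨k, hk⟩ := c.blk_conj L g j
    rw [hk]
    exact le_iSup (fun j => blk T (E j)) k
  exact hle ⟨x, hx, rfl⟩

/-- A block moves `Ω₁(Z(T))`. -/
theorem blk_moves_omega (i : Fin r) : ⁅blk T (E i), omegaOneCenter p (T : Subgroup G)⁆ ≠ ⊥ := by
  intro h
  refine c.omega ⟨fun z hz g => ?_⟩
  have hc : ∀ j, blk T (E j) ≤ Subgroup.centralizer {z} := fun j x hx => by
    obtain ⟨t, ht, hte⟩ := c.blk_trans L i j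
    obtain ⟨y, hy, rfl⟩ := hte.ge hx
    have h1 : y * z = z * y := by
      have h2 := Subgroup.commutator_mem_commutator hy hz
      rw [h, Subgroup.mem_bot, commutatorElement_def, mul_inv_eq_one, mul_inv_eq_iff_eq_mul] at h2
      exact h2
    have h3 : Commute t z := BBlock.omegaOneCenter_comm p _ hz ht
    rw [Subgroup.mem_centralizer_singleton_iff]
    exact ((h3.mul_left h1).mul_left h3.inv_left).eq
  have htop : (⊤ : Subgroup G) ≤ Subgroup.centralizer {z} := (c.blk_iSup_sup_T L).ge.trans (sup_le (iSup_le hc)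
    fun t ht => Subgroup.mem_centralizer_singleton_iff.2 (BBlock.omegaOneCenter_comm p _ hz ht))
  rw [Subgroup.mem_centralizer_singleton_iff.1 (htop (Subgroup.mem_top g)), mul_inv_cancel_right]
  exact hz

/-- **The blocks are Baumann blocks.** -/
theorem isBaumannBlock_blk (i : Fin r) : IsBaumannBlock p (T : Subgroup G) (blk T (E i)) := by
  rcases c.one_or_two L i with h | h
  · have hQ : pCoreOf p (blk T (E i)) = wComp (E i) := (c.pCoreOf_blk L i).trans (c.core_one L h)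
    have hU : omegaOneCenter p (pCoreOf p (blk T (E i))) = wComp (E i) := by rw [hQ, c.omega_wComp L]
    refine ⟨pResidualOf_idem _, c.blk_commutator_tB L i, le_antisymm (Subgroup.le_normalizer_iff_commutator_le_left.1 ?_) ?_,
      c.blk_moves_omega L i, ?_⟩
    · rw [hQ]; exact c.blk_le_normalizer_wComp L i
    · rw [hQ]; exact c.wComp_le_commutator L i
    rcases L.kind i with ⟨F, iF, iF', n, e, ψ, -, hcard, hch, hs, hk, ha, -, -⟩ | ⟨n, e, ψ, μ, hp2, hn, hs, hk, ha, -⟩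
    · haveI := hch
      refine Or.inl ⟨F, iF, iF', n, hcard, ?_, ?_, Or.inl (hQ.trans hU.symm)⟩
      · obtain ⟨q⟩ := c.quot_equiv L i e
        exact ⟨q.trans (MulEquiv.subgroupCongr (pResidual_sl p))⟩
      · rw [hU]; exact c.acts_sl L i e ψ hs hk ha
    · have h2 : ∀ k : ℕ, (∃ m, k = 2 * m + 1) → (∃ (e : ↥(E i) ≃* Perm (Fin k))
          (ψ : Additive ↥(vQ p G) →+ ↥(evenVec (Fin k))), Function.Surjective ψ ∧
          (∀ w, ψ w = 0 ↔ w ∈ fix (qAct p G) (E i)) ∧
          (∀ (g : ↥(E i)) w, ψ (qAct p G (g : G ⧸ cV p G) w) = natPerm (e g) (ψ w))) →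
          ∃ m : ℕ, Nonempty (↥(blk T (E i)) ⧸ pCore p ↥(blk T (E i)) ≃* ↥(alternatingGroup (Fin (2 * m + 1)))) ∧
            ActsAsOddPermModuleOnSection (2 * m + 1) (alternatingGroup (Fin (2 * m + 1))) (blk T (E i))
              (omegaOneCenter p (pCoreOf p (blk T (E i))))
              (omegaOneCenter p (pCoreOf p (blk T (E i))) ⊓ Subgroup.centralizer (blk T (E i) : Set G)) := by
        rintro k ⟨m, rfl⟩ ⟨e, ψ, hs, hk, ha⟩
        refine ⟨m, ?_, ?_⟩
        · obtain ⟨q⟩ := c.quot_equiv L i e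
          exact ⟨q.trans (MulEquiv.subgroupCongr (by subst hp2; exact pResidual_perm))⟩
        · rw [hU]; exact c.acts_perm L hp2 e ψ hs hk ha
      obtain ⟨m, hm1, hm2⟩ := h2 (2 ^ n + 1) ⟨2 ^ (n - 1), by
        rw [← pow_succ', Nat.sub_add_cancel hn]⟩ ⟨e, ψ, hs, hk, ha⟩
      exact Or.inr ⟨hp2, m, hm1, hm2, hQ.trans hU.symm⟩
  · have hx := c.exc_of_twoAt L h
    obtain ⟨F, iF, iF', n, hn, hq, ha1, ha2, hcard⟩ := hx.quot
    refine ⟨pResidualOf_idem _, c.blk_commutator_tB L i, le_antisymm (Subgroup.le_normalizer_iff_commutator_le_left.1 ?_)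
      hx.res, c.blk_moves_omega L i, Or.inl ⟨F, iF, iF', n, hn, hq, ha1, Or.inr ⟨hx.three, ha2, hx.derived, hx.frat,
        hx.cent, hcard, hx.quad⟩⟩⟩
    exact ha2.1

end Ctx

end CfsgLib.BlockPush
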