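import Cfsg.Agent.Lib.BlockPush.PermPiece

/-!
Point stabilizers in symmetric groups of degree `2 ^ n + 1`.
-/

set_option autoImplicit false
set_option linter.unusedSectionVars false
set_option linter.style.haveILetI false

namespace CfsgLib.BlockPush

open Equiv MulAction CfsgLib.SymSylow

universe u

/-- A pairing of an odd number of points fixes a point. -/
theorem pairing_point {α : Type u} [Fintype α] [DecidableEq α] {μ : Perm α} (hμ : IsPairing μ)
    (hodd : ¬ 2 ∣ Fintype.card α) : ∃ x, μ x = x := by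
  haveI : Fact (Nat.Prime 2) := ⟨Nat.prime_two⟩
  refine Perm.exists_fixed_point_of_prime (n := 1) hodd (Equiv.ext fun a => ?_)
  rw [pow_one, pow_two, Perm.mul_apply, hμ.invol]
  rfl

/-- A group with all even permutations fixing `x` and one odd such holds all that fix `x`. -/
theorem stab_of_even {α : Type u} [Fintype α] [DecidableEq α] {H : Subgroup (Perm α)} {x : α}
    (hev : ∀ σ ∈ alternatingGroup α, σ x = x → σ ∈ H) {s : Perm α} (hs : s ∈ H) (hsx : s x = x)
    (hsign : Perm.sign s = -1) {σ : Perm α} (hσ : σ x = x) : σ ∈ H := by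
  rcases Int.units_eq_one_or (Perm.sign σ) with h | h
  · exact hev σ (Perm.mem_alternatingGroup.2 h) hσ
  · have h1 : σ * s ∈ H := hev _ (Perm.mem_alternatingGroup.2 (by rw [map_mul, h, hsign]; rfl))
      (by rw [Perm.mul_apply, hsx, hσ])
    have := mul_mem h1 (inv_mem hs)
    rwa [mul_inv_cancel_right] at this

/-- A point stabilizer is maximal. -/
theorem top_of_stab {α : Type u} [Fintype α] [DecidableEq α] (h3 : 3 ≤ Fintype.card α) {H : Subgroup (Perm α)}
    {x : α} (hst : ∀ σ : Perm α, σ x = x → σ ∈ H) {g : Perm α} (hg : g ∈ H) (hgx : g x ≠ x) : H = ⊤ := by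
  set c := g⁻¹ x with hc
  have hgc : g c = x := by rw [hc]; exact g.apply_symm_apply x
  have hcx : c ≠ x := fun e => hgx (by rw [← e, hgc, e])
  obtain ⟨d, hdx, hdc⟩ : ∃ d, d ≠ x ∧ d ≠ c := by
    obtain ⟨d, -, hd⟩ := Finset.exists_mem_notMem_of_card_lt_card
      (lt_of_le_of_lt Finset.card_le_two (by rw [Finset.card_univ]; omega) :
        ({x, c} : Finset α).card < (Finset.univ : Finset α).card)
    exact ⟨d, fun e => hd (by simp [e]), fun e => hd (by simp [e])⟩
  have hb : g d ≠ x := fun e => hdc (g.injective (e.trans hgc.symm))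
  have h0 : swap x (g d) ∈ H := by
    have h1 := mul_mem (mul_mem hg (hst (swap c d) (swap_apply_of_ne_of_ne hcx.symm hdx.symm))) (inv_mem hg)
    rwa [← swap_apply_apply, hgc] at h1
  have hall : ∀ b, b ≠ x → swap x b ∈ H := fun b hbx => by
    have hk : (swap (g d) b) x = x := swap_apply_of_ne_of_ne hb.symm hbx.symm
    have h1 := mul_mem (mul_mem (hst _ hk) h0) (inv_mem (hst _ hk))
    rwa [← swap_apply_apply, hk, swap_apply_left] at h1
  refine top_le_iff.1 fun σ _ => Perm.swap_induction_on (motive := fun σ => σ ∈ H) σ (one_mem H) fun f a b hab hf => ?_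
  refine mul_mem ?_ hf
  by_cases ha : a = x
  · subst ha; exact hall b hab.symm
  by_cases hb' : b = x
  · subst hb'; rw [swap_comm]; exact hall a hab
  exact hst _ (swap_apply_of_ne_of_ne (Ne.symm ha) (Ne.symm hb'))

/-- The even permutations fixing `x` are generated by those of order three. -/
theorem even_stab_gen {α : Type u} [Fintype α] [DecidableEq α] {X : Subgroup (Perm α)} {x : α}
    (h : ∀ σ ∈ alternatingGroup α, σ x = x → σ ^ 3 = 1 → σ ∈ X) {σ : Perm α} (hσ : σ ∈ alternatingGroup α)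
    (hσx : σ x = x) : σ ∈ X := by
  let f : Perm {y : α // y ≠ x} →* Perm α := Perm.ofSubtype
  have hle : alternatingGroup {y : α // y ≠ x} ≤ X.comap f := by
    rw [← Equiv.Perm.closure_three_cycles_eq_alternating, Subgroup.closure_le]
    intro τ hτ
    refine h _ ?_ ?_ ?_
    · rw [Perm.mem_alternatingGroup, Perm.sign_ofSubtype]
      exact Perm.mem_alternatingGroup.1 (Equiv.Perm.IsThreeCycle.mem_alternatingGroup hτ)
    · exact Perm.ofSubtype_apply_of_not_mem τ (fun h => h rfl)
    · rw [← map_pow, ← Equiv.Perm.IsThreeCycle.orderOf hτ, pow_orderOf_eq_one, map_one]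
  have hp : ∀ y, σ y ≠ x ↔ y ≠ x := fun y => not_congr
    ⟨fun e => σ.injective (e.trans hσx.symm), fun e => by rw [e, hσx]⟩
  have hτ : f (σ.subtypePerm hp) = σ :=
    Perm.ofSubtype_subtypePerm hp fun y hy e => hy (by rw [e, hσx])
  rw [← hτ]
  refine hle (Perm.mem_alternatingGroup.2 ?_)
  rw [← Perm.sign_ofSubtype]
  show Perm.sign (f _) = 1
  rw [hτ]
  exact Perm.mem_alternatingGroup.1 hσ

/-- A point stabilizer in an alternating group. -/
theorem alt_stab_equiv {k : ℕ} (x : Fin (k + 1)) :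
    Nonempty (↥(alternatingGroup (Fin (k + 1)) ⊓ stabilizer (Perm (Fin (k + 1))) x) ≃* ↥(alternatingGroup (Fin k))) := by
  let ι : Fin k ≃ {y : Fin (k + 1) // y ≠ x} := finSuccAboveEquiv x
  let f : Perm (Fin k) →* Perm (Fin (k + 1)) := Perm.ofSubtype.comp ι.permCongrHom.toMonoidHom
  have hf : Function.Injective f := Perm.ofSubtype_injective.comp ι.permCongrHom.injective
  have hsign : ∀ τ, Perm.sign (f τ) = Perm.sign τ := fun τ => by
    show Perm.sign (Perm.ofSubtype (ι.permCongr τ)) = _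
    rw [Perm.sign_ofSubtype, Perm.sign_permCongr]
  have hmap : (alternatingGroup (Fin k)).map f = alternatingGroup (Fin (k + 1)) ⊓ stabilizer (Perm (Fin (k + 1))) x := by
    ext σ
    constructor
    · rintro ⟨τ, hτ, rfl⟩
      refine Subgroup.mem_inf.2 ⟨Perm.mem_alternatingGroup.2 ?_, ?_⟩
      · rw [hsign]; exact Perm.mem_alternatingGroup.1 hτ
      · exact Perm.ofSubtype_apply_of_not_mem _ (fun h => h rfl)
    · rintro ⟨hσ, hσx⟩
      have hσx : σ x = x := hσx
      have hp : ∀ y, σ y ≠ x ↔ y ≠ x := fun y => not_congr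
        ⟨fun e => σ.injective (e.trans hσx.symm), fun e => by rw [e, hσx]⟩
      have hτ : f (ι.permCongrHom.symm (σ.subtypePerm hp)) = σ := by
        show Perm.ofSubtype (ι.permCongrHom (ι.permCongrHom.symm (σ.subtypePerm hp))) = σ
        rw [MulEquiv.apply_symm_apply]
        exact Perm.ofSubtype_subtypePerm hp fun y hy e => hy (by rw [e, hσx])
      refine ⟨_, Perm.mem_alternatingGroup.2 ?_, hτ⟩
      rw [← hsign, hτ]
      exact Perm.mem_alternatingGroup.1 hσ
  exact ⟨(((alternatingGroup (Fin k)).equivMapOfInjective f hf).trans (MulEquiv.subgroupCongr hmap)).symm⟩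

variable {n : ℕ} {μ : Perm (Fin (2 ^ n + 1))}

theorem pairing_moves (hμ : IsPairing μ) {x : Fin (2 ^ n + 1)} (hx : μ x = x) {b : Fin (2 ^ n + 1)} (hb : b ≠ x) :
    μ b ≠ b := fun e => hb (hμ.fixed b x e hx)

theorem odd_card (hn : 1 ≤ n) : ¬ 2 ∣ Fintype.card (Fin (2 ^ n + 1)) := by
  rw [Fintype.card_fin]
  have : 2 ∣ 2 ^ n := dvd_pow_self 2 (by omega)
  omega

/-- A Sylow subgroup holding the transpositions of the pairing fixes the point fixed by it. -/
theorem sylow_fix (hn : 1 ≤ n) (hμ : IsPairing μ) {x : Fin (2 ^ n + 1)} (hx : μ x = x)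
    (S : Sylow 2 (Perm (Fin (2 ^ n + 1)))) (hsw : ∀ a, swap a (μ a) ∈ (S : Subgroup (Perm (Fin (2 ^ n + 1)))))
    {σ : Perm (Fin (2 ^ n + 1))} (hσ : σ ∈ (S : Subgroup (Perm (Fin (2 ^ n + 1))))) : σ x = x := by
  haveI : Fact (Nat.Prime 2) := ⟨Nat.prime_two⟩
  obtain ⟨y, hy⟩ := S.2.nonempty_fixed_point_of_prime_not_dvd_card (Fin (2 ^ n + 1))
    (by rw [Nat.card_eq_fintype_card]; exact odd_card hn)
  have hyμ : μ y = y := by
    have h1 : swap y (μ y) y = y := hy ⟨_, hsw y⟩
    rwa [swap_apply_left] at h1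
  obtain rfl : y = x := hμ.fixed y x hyμ hx
  exact hy ⟨σ, hσ⟩

/-- A Sylow subgroup holding the transpositions of the pairing is transitive on the other points. -/
theorem sylow_trans (hn : 1 ≤ n) (hμ : IsPairing μ) {x : Fin (2 ^ n + 1)} (hx : μ x = x)
    (S : Sylow 2 (Perm (Fin (2 ^ n + 1)))) (hsw : ∀ a, swap a (μ a) ∈ (S : Subgroup (Perm (Fin (2 ^ n + 1)))))
    {a b : Fin (2 ^ n + 1)} (ha : a ≠ x) (hb : b ≠ x) :
    ∃ σ ∈ (S : Subgroup (Perm (Fin (2 ^ n + 1)))), σ a = b := by
  classical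
  haveI : Fact (Nat.Prime 2) := ⟨Nat.prime_two⟩
  set K := stabilizer (Perm (Fin (2 ^ n + 1))) x with hK
  have hSK : (S : Subgroup (Perm (Fin (2 ^ n + 1)))) ≤ K := fun σ hσ => sylow_fix hn hμ hx S hsw hσ
  set Hs := stabilizer ↥K a with hHs
  have horb : ∀ c, c ∈ orbit ↥K a ↔ c ≠ x := fun c => by
    constructor
    · rintro ⟨k, rfl⟩ e
      exact ha (k.1.injective ((show k.1 a = x from e).trans (show k.1 x = x from k.2).symm))
    · intro hc
      exact ⟨⟨swap a c, swap_apply_of_ne_of_ne ha.symm hc.symm⟩, swap_apply_left a c⟩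
  have horbset : orbit ↥K a = ↑(Finset.univ.erase x) := Set.ext fun c => by simp [horb c]
  have hKcard : Nat.card ↥K = 2 ^ n * Nat.card ↥Hs := by
    have h := card_orbit_mul_card_stabilizer_eq_card_group ↥K a
    rw [← Nat.card_eq_fintype_card, ← Nat.card_eq_fintype_card, ← Nat.card_eq_fintype_card] at h
    rw [← h]
    congr 1
    rw [horbset, Nat.card_coe_set_eq, Set.ncard_coe_finset, Finset.card_erase_of_mem (Finset.mem_univ x),
      Finset.card_univ, Fintype.card_fin, Nat.add_sub_cancel]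
  have hGcard : Nat.card (Perm (Fin (2 ^ n + 1))) = (2 ^ n + 1) * Nat.card ↥K := by
    have h := card_orbit_mul_card_stabilizer_eq_card_group (Perm (Fin (2 ^ n + 1))) x
    rw [← Nat.card_eq_fintype_card, ← Nat.card_eq_fintype_card, ← Nat.card_eq_fintype_card] at h
    rw [← h]
    congr 1
    rw [MulAction.orbit_eq_univ (Perm (Fin (2 ^ n + 1))) x, Nat.card_coe_set_eq, Set.ncard_univ, Nat.card_eq_fintype_card,
      Fintype.card_fin]
  set O := orbit ↥(S : Subgroup (Perm (Fin (2 ^ n + 1)))) a with hO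
  set St := stabilizer ↥(S : Subgroup (Perm (Fin (2 ^ n + 1)))) a with hSt
  have hS : Nat.card O * Nat.card ↥St = Nat.card ↥(S : Subgroup (Perm (Fin (2 ^ n + 1)))) := by
    have h := card_orbit_mul_card_stabilizer_eq_card_group ↥(S : Subgroup (Perm (Fin (2 ^ n + 1)))) a
    rwa [← Nat.card_eq_fintype_card, ← Nat.card_eq_fintype_card, ← Nat.card_eq_fintype_card] at h
  have hdvd : Nat.card ↥St ∣ Nat.card ↥Hs := by
    have hle : St.map (Subgroup.inclusion hSK) ≤ Hs := by
      rintro _ ⟨s, hs, rfl⟩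
      exact hs
    rw [← Subgroup.card_map_of_injective (Subgroup.inclusion_injective hSK) (K := St)]
    exact Subgroup.card_dvd_of_le hle
  have hidx := (S : Subgroup (Perm (Fin (2 ^ n + 1)))).card_mul_index
  obtain ⟨h', hh'⟩ := hdvd
  have hkey : Nat.card O * (S : Subgroup (Perm (Fin (2 ^ n + 1)))).index = 2 ^ n * ((2 ^ n + 1) * h') := by
    refine Nat.eq_of_mul_eq_mul_right (Nat.card_pos (α := ↥St)) ?_
    calc Nat.card O * (S : Subgroup (Perm (Fin (2 ^ n + 1)))).index * Nat.card ↥St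
        = Nat.card ↥(S : Subgroup (Perm (Fin (2 ^ n + 1)))) * (S : Subgroup (Perm (Fin (2 ^ n + 1)))).index := by rw [← hS]; ring
      _ = (2 ^ n + 1) * (2 ^ n * (Nat.card ↥St * h')) := by rw [hidx, hGcard, hKcard, hh']
      _ = _ := by ring
  have h2n : 2 ^ n ∣ Nat.card O :=
    (Nat.Coprime.pow_left n ((Fact.out : Nat.Prime 2).coprime_iff_not_dvd.2 S.not_dvd_index)).dvd_of_dvd_mul_right
      ⟨_, hkey⟩
  have hsub : O ⊆ ↑(Finset.univ.erase x) := by
    rintro _ ⟨s, rfl⟩
    simp only [Finset.coe_erase, Finset.coe_univ, Set.mem_sdiff, Set.mem_univ, Set.mem_singleton_iff, true_and]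
    intro e
    exact ha (s.1.injective ((show s.1 a = x from e).trans (show s.1 x = x from hSK s.2).symm))
  have hpos : 0 < Nat.card O := by
    haveI : Nonempty O := ⟨⟨a, mem_orbit_self a⟩⟩
    exact Nat.card_pos
  have heq : O = ↑(Finset.univ.erase x) := by
    refine Set.eq_of_subset_of_ncard_le hsub ?_
    rw [Set.ncard_coe_finset, Finset.card_erase_of_mem (Finset.mem_univ x), Finset.card_univ, Fintype.card_fin,
      Nat.add_sub_cancel, ← Nat.card_coe_set_eq]
    exact Nat.le_of_dvd hpos h2n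
  have hbO : b ∈ O := by rw [heq]; simp [hb]
  obtain ⟨s, hs⟩ := hbO
  exact ⟨s, s.2, hs⟩

end CfsgLib.BlockPush
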