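import Cfsg.Agent.Lib.BlockPush.Blocks
import Cfsg.Agent.Lib.BlockPush.PermStab

/-!
The intersection of `C*(G,T)` with the blocks.
-/

set_option autoImplicit false
set_option linter.unusedSectionVars false
set_option linter.style.haveILetI false

namespace CfsgLib.BlockPush

open Cfsg CfsgLib CfsgLib.RootCommute CfsgLib.RootBlocks Matrix Equiv CfsgLib.SymSylow
open CfsgLib.SL2Pair (fix)
open CfsgLib.StrongFusion (cm cm_cm cm_one cm_inv_cm cm_mono card_cm conj_mem_cm)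
open CfsgLib.PSL2 (uSL vSL coe_uSL coe_vSL)
open scoped commutatorElement Pointwise

universe u

variable {G : Type u} [Group G] [Finite G] {p : ℕ} [hp : Fact p.Prime]

attribute [local instance] commGroupOf

theorem sylow_le_cStar (T : Sylow p G) : (T : Subgroup G) ≤ cStarOf p (T : Subgroup G) := fun _ ht =>
  Subgroup.mem_sup_left (Subgroup.mem_centralizer_iff.2 fun _ hz => (BBlock.omegaOneCenter_comm p _ hz ht).symm)

theorem upper_conj {F : Type} [Field F] (a : Matrix.SpecialLinearGroup (Fin 2) F)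
    (h : (a * uSL 1 * a⁻¹).1 1 0 = 0) : a.1 1 0 = 0 := by
  simp [coe_uSL, Matrix.mul_apply, Fin.sum_univ_two, Matrix.adjugate_fin_two] at h
  exact mul_self_eq_zero.1 (by linear_combination -h)

namespace Ctx

variable {T : Sylow p G} {M : Subgroup G} (c : Ctx T M)
include c
variable {r : ℕ} {E : Fin r → Subgroup (G ⧸ cV p G)}
  (L : Layout (qAct p G) (T.mapSurjective qC_surjective) (M.map (qC p G)) E)
include L

theorem T_image {t : G} (ht : t ∈ (T : Subgroup G)) :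
    qC p G t ∈ (T.mapSurjective (f := qC p G) qC_surjective : Subgroup (G ⧸ cV p G)) :=
  Subgroup.mem_map_of_mem (qC p G) ht

theorem mem_M_of_image {g : G} (h : qC p G g ∈ M.map (qC p G)) : g ∈ M := by
  obtain ⟨m, hm, he⟩ := h
  have h1 : m⁻¹ * g ∈ M := c.cV_le_M (qC_eq_one.1 (by rw [map_mul, map_inv, he, inv_mul_cancel]))
  have := mul_mem hm h1
  rwa [mul_inv_cancel_left] at this

/-- No component lies in `M`. -/
theorem comp_not_le (i : Fin r) : ¬ E i ≤ M.map (qC p G) := by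
  intro h
  refine L.base.M_ne (top_le_iff.1 (L.sup.ge.trans (sup_le (iSup_le fun j => ?_) L.base.le_M)))
  obtain ⟨t, ht, hte⟩ := L.trans i j
  rw [← hte]
  rintro _ ⟨x, hx, rfl⟩
  exact mul_mem (mul_mem (L.base.le_M ht) (h hx)) (inv_mem (L.base.le_M ht))

theorem tB_ne_bot (i : Fin r) : tB T ≠ ⊥ := fun h => c.blk_moves_omega L i (by
  have hb : blk T (E i) = ⊥ := by
    rw [← c.blk_commutator_tB L i, h, Subgroup.commutator_bot_right]
  rw [hb, Subgroup.commutator_bot_left])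

/-- What normalizes `B(T)` lies in `C*(G,T)`. -/
theorem normalizer_tB_le (i : Fin r) : Subgroup.normalizer (tB T : Set G) ≤ cStarOf p (T : Subgroup G) := by
  refine le_sup_of_le_right (le_iSup_of_le (f := fun C : {C : Subgroup G // C ≤ tB T ∧ C ≠ ⊥ ∧
      (C.subgroupOf (tB T)).Characteristic} => Subgroup.normalizer ((C : Subgroup G) : Set G))
    ⟨tB T, le_rfl, c.tB_ne_bot L i, ?_⟩ le_rfl)
  rw [Subgroup.subgroupOf_self]
  infer_instance

/-- An element of a component that normalizes the offenders in it lifts into `C*(G,T)`. -/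
theorem mem_cStar_of_norm (i : Fin r) {g : G} (hg : qC p G g ∈ E i)
    (hn : ∀ u ∈ offs (qAct p G) (T.mapSurjective qC_surjective) (E i),
      qC p G g * u * (qC p G g)⁻¹ ∈ offs (qAct p G) (T.mapSurjective qC_surjective) (E i)) :
    g ∈ cStarOf p (T : Subgroup G) := by
  refine c.normalizer_tB_le L i (ZJFailure.mem_normalizer_of_forall fun b hb => ?_)
  refine c.mem_tB_of_offs L ((c.gZero_normal L).conj_mem b (c.tB_le_gZero L hb) g) ?_
  rw [map_mul, map_mul, map_inv]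
  have h1 := (c.map_tB L).le (Subgroup.mem_map_of_mem (qC p G) hb)
  have hle : offs (qAct p G) (T.mapSurjective qC_surjective) ⊤ ≤
      (offs (qAct p G) (T.mapSurjective qC_surjective) ⊤).comap (MulAut.conj (qC p G g)).toMonoidHom := by
    rw [← Subgroup.map_le_iff_le_comap]
    conv_lhs => rw [L.offs_eq, Subgroup.map_iSup]
    refine iSup_le fun j => ?_
    rintro _ ⟨x, hx, rfl⟩
    show qC p G g * x * (qC p G g)⁻¹ ∈ _
    by_cases hji : j = i
    · subst hji; exact L.offs_le_top j (hn x hx)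
    · rw [L.comm i j (Ne.symm hji) _ hg x (offs_le hx).2, mul_inv_cancel_right]
      exact L.offs_le_top j hx
  exact hle h1

section SL

variable {i : Fin r} {F : Type} [Field F] [Fintype F] (e : ↥(E i) ≃* Matrix.SpecialLinearGroup (Fin 2) F)
  (hT : ∀ g : ↥(E i), e g ∈ (uGrp : Subgroup (Matrix.SpecialLinearGroup (Fin 2) F)) ↔
    (g : G ⧸ cV p G) ∈ (T.mapSurjective (f := qC p G) qC_surjective : Subgroup (G ⧸ cV p G)))
include hT

theorem upper_of_M (g : ↥(E i)) (hg : (g : G ⧸ cV p G) ∈ M.map (qC p G)) : (e g).1 1 0 = 0 := by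
  have hU : (uGrp : Subgroup (Matrix.SpecialLinearGroup (Fin 2) F)) ≤
      ((M.map (qC p G)).subgroupOf (E i)).map e.toMonoidHom := fun x hx =>
    ⟨e.symm x, L.base.le_M ((hT _).1 (by rwa [MulEquiv.apply_symm_apply])), e.apply_symm_apply x⟩
  rcases upper_or_top hU with h | h
  · exact h _ ⟨g, hg, rfl⟩
  · refine absurd (fun x hx => ?_) (c.comp_not_le L i)
    obtain ⟨y, hy, hye⟩ := h.ge (Subgroup.mem_top (e ⟨x, hx⟩))
    rw [show x = (y : G ⧸ cV p G) from congrArg Subtype.val (e.injective hye).symm]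
    exact hy

theorem part_upper {g a : G ⧸ cV p G} (hg : g ∈ ⨆ j, E j) (hgM : g ∈ M.map (qC p G))
    (ha : IsPart (qAct p G) (E i) g a) : (e ⟨a, ha.1⟩).1 1 0 = 0 := by
  set x := e.symm (uSL 1)
  have hxM : (x : G ⧸ cV p G) ∈ M.map (qC p G) :=
    L.base.le_M ((hT _).1 (by rw [MulEquiv.apply_symm_apply]; exact uSL_mem 1))
  have h1 := mul_mem (mul_mem hgM hxM) (inv_mem hgM)
  rw [L.conj_part hg ha x.2] at h1
  have h2 := c.upper_of_M L e hT (⟨a, ha.1⟩ * x * (⟨a, ha.1⟩)⁻¹) h1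
  rw [map_mul, map_mul, map_inv, MulEquiv.apply_symm_apply] at h2
  exact upper_conj _ h2

omit hT in
theorem mem_cStar_sl (hoffs : ∀ g : ↥(E i), (g : G ⧸ cV p G) ∈ offs (qAct p G) (T.mapSurjective qC_surjective) (E i) ↔
      e g ∈ (uGrp : Subgroup (Matrix.SpecialLinearGroup (Fin 2) F)))
    {g : G} (hg : qC p G g ∈ E i) (h10 : (e ⟨_, hg⟩).1 1 0 = 0) : g ∈ cStarOf p (T : Subgroup G) := by
  refine c.mem_cStar_of_norm L i hg fun u hu => ?_
  have hu' := (hoffs ⟨u, (offs_le hu).2⟩).1 hu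
  have h := (Subgroup.mem_normalizer_iff.1 (normalizer_uGrp h10) _).1 hu'
  rw [← map_mul, ← map_inv, ← map_mul] at h
  exact (hoffs _).2 h

end SL

section Perm

variable {i : Fin r} {n : ℕ} (hn : 1 ≤ n) (hp2 : p = 2) (e : ↥(E i) ≃* Perm (Fin (2 ^ n + 1)))
  {μ : Perm (Fin (2 ^ n + 1))} (hμ : IsPairing μ) {x : Fin (2 ^ n + 1)} (hx : μ x = x)
  (hsw : ∀ g : ↥(E i), ∀ a, e g = swap a (μ a) →
    (g : G ⧸ cV p G) ∈ (T.mapSurjective (f := qC p G) qC_surjective : Subgroup (G ⧸ cV p G)))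
include hn hp2 hμ hx hsw

theorem exists_sylow_perm : ∃ S : Sylow 2 (Perm (Fin (2 ^ n + 1))),
    (∀ a, swap a (μ a) ∈ (S : Subgroup (Perm (Fin (2 ^ n + 1))))) ∧
      ∀ g : ↥(E i), e g ∈ (S : Subgroup (Perm (Fin (2 ^ n + 1)))) ↔
        (g : G ⧸ cV p G) ∈ (T.mapSurjective (f := qC p G) qC_surjective : Subgroup (G ⧸ cV p G)) := by
  subst hp2
  set Tq : Subgroup (G ⧸ cV 2 G) := ((T.mapSurjective (f := qC 2 G) qC_surjective : Sylow 2 (G ⧸ cV 2 G)) :
    Subgroup (G ⧸ cV 2 G))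
  have hSp : IsPGroup 2 ↥(((Tq ⊓ E i).subgroupOf (E i)).map e.toMonoidHom) :=
    (((T.mapSurjective qC_surjective).2.to_le inf_le_left).of_equiv
      (Subgroup.subgroupOfEquivOfLe (inf_le_right : Tq ⊓ E i ≤ E i)).symm).map _
  obtain ⟨S, hS⟩ := hSp.exists_le_sylow
  have hiff : ∀ g : ↥(E i), e g ∈ (S : Subgroup (Perm (Fin (2 ^ n + 1)))) ↔ (g : G ⧸ cV 2 G) ∈ Tq := fun g => by
    refine ⟨fun hg => ?_, fun hg => hS ⟨g, ⟨hg, g.2⟩, rfl⟩⟩
    exact (L.sylow_max i (Subgroup.map_subtype_le _)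
      ((S.2.comap_of_injective e.toMonoidHom e.injective).map (E i).subtype)
      (fun y hy => ⟨⟨y, hy.2⟩, hS ⟨⟨y, hy.2⟩, hy, rfl⟩, rfl⟩) ⟨g, hg, rfl⟩).1
  refine ⟨S, fun a => ?_, hiff⟩
  have := (hiff (e.symm (swap a (μ a)))).2 (hsw _ a (e.apply_symm_apply _))
  rwa [MulEquiv.apply_symm_apply] at this

variable (ψ : Additive ↥(vQ p G) →+ ↥(evenVec (Fin (2 ^ n + 1))))
  (hk : ∀ w, ψ w = 0 ↔ w ∈ fix (qAct p G) (E i))
  (hact : ∀ (g : ↥(E i)) w, ψ (qAct p G (g : G ⧸ cV p G) w) = natPerm (e g) (ψ w))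
include ψ hk hact

/-- The lifts centralizing `Ω₁(Z(T))` cover the even permutations fixing the point. -/
theorem even_lift {σ : Perm (Fin (2 ^ n + 1))} (hσ : σ ∈ alternatingGroup (Fin (2 ^ n + 1))) (hσx : σ x = x) :
    ∃ k ∈ blk T (E i) ⊓ Subgroup.centralizer (omegaOneCenter p (T : Subgroup G) : Set G),
      ∃ hk : qC p G k ∈ E i, e ⟨_, hk⟩ = σ := by
  subst hp2
  obtain ⟨S, hSsw, hS⟩ := c.exists_sylow_perm L hn rfl e hμ hx hsw
  set Cb := blk T (E i) ⊓ Subgroup.centralizer (omegaOneCenter 2 (T : Subgroup G) : Set G)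
  set X := ((Cb.map (qC 2 G)).subgroupOf (E i)).map e.toMonoidHom with hX
  suffices σ ∈ X by
    obtain ⟨⟨y, hy⟩, ⟨k, hk, rfl⟩, he⟩ := this
    exact ⟨k, hk, hy, he⟩
  refine even_stab_gen (x := x) (fun τ hτ hτx hτ3 => ?_) hσ hσx
  have h1 : (e.symm τ : G ⧸ cV 2 G) ∈ pResidualOf 2 (E i) :=
    (map_pResidualOf e).1 (by rwa [MulEquiv.apply_symm_apply, pResidual_perm])
  obtain ⟨k, hk', hke⟩ := (c.blk_map L i).ge h1
  obtain ⟨a, m, hm, hkm⟩ := Nat.exists_eq_pow_mul_and_not_dvd (orderOf_pos k).ne' 2 (by norm_num)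
  set k' := k ^ 2 ^ a with hk'def
  have hk'c : (orderOf k').Coprime 2 := by
    rw [hk'def, orderOf_pow' _ (pow_ne_zero a two_ne_zero), hkm, Nat.gcd_mul_right_left,
      Nat.mul_div_cancel_left _ (pow_pos two_pos a)]
    exact ((Nat.prime_two.coprime_iff_not_dvd).2 hm).symm
  have hk'E : qC 2 G k' ∈ E i := c.blk_image L (pow_mem hk' _)
  have hek : e ⟨_, hk'E⟩ = τ ^ 2 ^ a := by
    rw [show (⟨_, hk'E⟩ : ↥(E i)) = (e.symm τ) ^ 2 ^ a from Subtype.ext (by
      show qC 2 G (k ^ 2 ^ a) = _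
      rw [map_pow, hke]; rfl), map_pow, MulEquiv.apply_symm_apply]
  have hfix : (τ ^ 2 ^ a) x = x := Function.IsFixedPt.perm_pow hτx _
  have hcent : k' ∈ Subgroup.centralizer (omegaOneCenter 2 (T : Subgroup G) : Set G) := by
    refine Subgroup.mem_centralizer_iff.2 fun z hz => ?_
    have hzV : z ∈ vQ 2 G := c.omega_le_vQ hz
    -- the coordinates are constant off the point
    set v : Fin (2 ^ n + 1) → ZMod 2 := (ψ (av hzV) : Fin (2 ^ n + 1) → ZMod 2) with hv
    have hinv : ∀ s ∈ (S : Subgroup (Perm (Fin (2 ^ n + 1)))), ∀ j, v (s j) = v j := by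
      intro s hs j
      have hsT := (hS (e.symm s)).1 (by rwa [MulEquiv.apply_symm_apply])
      obtain ⟨t, ht, hte⟩ := hsT
      have e1 := hact (e.symm s) (av hzV)
      rw [MulEquiv.apply_symm_apply, show ((e.symm s : ↥(E i)) : G ⧸ cV 2 G) = qC 2 G t from hte.symm, qAct_av,
        av_eq (hw := hzV) |>.2 (mul_inv_eq_iff_eq_mul.2 (BBlock.omegaOneCenter_comm 2 _ hz ht))] at e1
      have e2 := congrFun (congrArg Subtype.val e1) (s j)
      rwa [natPerm_apply, show s⁻¹ (s j) = j from s.symm_apply_apply j] at e2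
    have hconst : ∀ j, v ((τ ^ 2 ^ a)⁻¹ j) = v j := by
      intro j
      by_cases hj : j = x
      · rw [hj, show (τ ^ 2 ^ a)⁻¹ x = x from Equiv.symm_apply_eq _ |>.2 hfix.symm]
      · have hj' : (τ ^ 2 ^ a)⁻¹ j ≠ x := fun h => hj (by
          rw [← hfix, ← h]; exact ((τ ^ 2 ^ a).apply_symm_apply j).symm)
        obtain ⟨s, hs, hse⟩ := sylow_trans hn hμ hx S hSsw hj' hj
        have h := hinv s hs ((τ ^ 2 ^ a)⁻¹ j)
        rw [hse] at h
        exact h.symm
    set d := k' * z * k'⁻¹ * z⁻¹ with hd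
    have hdV : d ∈ vQ 2 G := mul_mem (vQ_normal.conj_mem z hzV k') (inv_mem hzV)
    have hdfix : av hdV ∈ fix (qAct 2 G) (E i) := by
      rw [← hk, show av hdV = qAct 2 G (qC 2 G k') (av hzV) - av hzV from (sub_av k' hzV).symm, map_sub, sub_eq_zero]
      refine (hact ⟨_, hk'E⟩ _).trans (Subtype.ext (funext fun j => ?_))
      rw [natPerm_apply, hek]
      exact hconst j
    have h2 : d ∈ (⊥ : Subgroup G) := by
      refine PushUp.push_down (p := 2) hk'c (show k' * z * k'⁻¹ = d * z by rw [hd]; group)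
        ⟨1, Subgroup.mem_bot.2 (by rw [pow_one]; exact vQ_pow hdV)⟩ ?_
      have h3 := hdfix _ hk'E
      rw [qAct_av, av_eq] at h3
      rw [Subgroup.mem_bot, h3, mul_inv_cancel]
    rw [Subgroup.mem_bot, hd, mul_inv_eq_one, mul_inv_eq_iff_eq_mul] at h2
    exact h2.symm
  have hmem : τ ^ 2 ^ a ∈ X :=
    ⟨⟨_, hk'E⟩, ⟨k', Subgroup.mem_inf.2 ⟨pow_mem hk' _, hcent⟩, rfl⟩, hek⟩
  -- the two powers generate the same group
  have h2a : 2 ^ a % 3 = 1 ∨ 2 ^ a % 3 = 2 := by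
    have h3 : ¬ 3 ∣ 2 ^ a := fun h => by
      have := Nat.prime_three.dvd_of_dvd_pow h
      omega
    omega
  have hpow : τ ^ 2 ^ a = τ ^ (2 ^ a % 3) := by
    conv_lhs => rw [← Nat.div_add_mod (2 ^ a) 3, pow_add, pow_mul, hτ3, one_pow, one_mul]
  rcases h2a with h | h
  · rwa [hpow, h, pow_one] at hmem
  · rw [hpow, h] at hmem
    have e4 : τ = (τ ^ 2) ^ 2 := by rw [← pow_mul, show 2 * 2 = 3 + 1 by rfl, pow_succ, hτ3, one_mul]
    rw [e4]
    exact pow_mem hmem 2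

theorem fixes_of_M (g : ↥(E i)) (hg : (g : G ⧸ cV p G) ∈ M.map (qC p G)) : e g x = x := by
  subst hp2
  by_contra hgx
  obtain ⟨S, hSsw, hS⟩ := c.exists_sylow_perm L hn rfl e hμ hx hsw
  set H := ((M.map (qC 2 G)).subgroupOf (E i)).map e.toMonoidHom with hH
  have hev : ∀ σ ∈ alternatingGroup (Fin (2 ^ n + 1)), σ x = x → σ ∈ H := fun σ hσ hσx => by
    obtain ⟨k, hk', hkE, hke⟩ := c.even_lift L hn rfl e hμ hx hsw ψ hk hact hσ hσx
    exact ⟨⟨_, hkE⟩, Subgroup.mem_map_of_mem _ (c.cStar_le (Subgroup.mem_sup_left hk'.2)), hke⟩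
  have h3 : 3 ≤ Fintype.card (Fin (2 ^ n + 1)) := by
    rw [Fintype.card_fin]
    have := Nat.pow_le_pow_right (n := 2) two_pos hn
    omega
  obtain ⟨b, hb⟩ : ∃ b, b ≠ x := by
    haveI : Nontrivial (Fin (2 ^ n + 1)) := Fintype.one_lt_card_iff_nontrivial.1 (by omega)
    exact exists_ne x
  have hs : swap b (μ b) ∈ H := by
    obtain ⟨y, rfl⟩ : ∃ y, y = e.symm (swap b (μ b)) := ⟨_, rfl⟩
    exact ⟨_, L.base.le_M (hsw _ b (e.apply_symm_apply _)), e.apply_symm_apply _⟩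
  have hst : ∀ σ : Perm (Fin (2 ^ n + 1)), σ x = x → σ ∈ H := fun σ hσ =>
    stab_of_even hev hs
      (swap_apply_of_ne_of_ne hb.symm fun h => hb (by rw [← hμ.invol b, ← h, hx]))
      (Perm.sign_swap (Ne.symm (pairing_moves hμ hx hb))) hσ
  have htop := top_of_stab h3 hst (show e g ∈ H from ⟨g, hg, rfl⟩) hgx
  refine c.comp_not_le L i fun y hy => ?_
  obtain ⟨z, hz, hze⟩ := htop.ge (Subgroup.mem_top (e ⟨y, hy⟩))
  rw [show y = (z : G ⧸ cV 2 G) from congrArg Subtype.val (e.injective hze).symm]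
  exact hz

theorem part_fixes {g a : G ⧸ cV p G} (hg : g ∈ ⨆ j, E j) (hgM : g ∈ M.map (qC p G))
    (ha : IsPart (qAct p G) (E i) g a) : e ⟨a, ha.1⟩ x = x := by
  set σ := e ⟨a, ha.1⟩ with hσ
  by_contra hne
  set b := σ⁻¹ x with hb
  have hσb : σ b = x := σ.apply_symm_apply x
  have hbx : b ≠ x := fun h => hne (by rw [← h]; exact hσb.trans h.symm)
  set y := e.symm (swap b (μ b))
  have hyM : (y : G ⧸ cV p G) ∈ M.map (qC p G) := L.base.le_M (hsw _ b (e.apply_symm_apply _))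
  have h1 := mul_mem (mul_mem hgM hyM) (inv_mem hgM)
  rw [L.conj_part hg ha y.2] at h1
  have h2 := c.fixes_of_M L hn hp2 e hμ hx hsw ψ hk hact (⟨a, ha.1⟩ * y * (⟨a, ha.1⟩)⁻¹) h1
  rw [map_mul, map_mul, map_inv, MulEquiv.apply_symm_apply, ← hσ, ← swap_apply_apply, hσb, swap_apply_left] at h2
  exact pairing_moves hμ hx hbx (σ.injective (h2.trans hσb.symm))

theorem mem_cStar_perm {g : G} (hg : g ∈ blk T (E i)) (h : e (c.qBlk L i ⟨g, hg⟩) x = x) :
    g ∈ cStarOf p (T : Subgroup G) := by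
  subst hp2
  have hev : e (c.qBlk L i ⟨g, hg⟩) ∈ alternatingGroup (Fin (2 ^ n + 1)) := by
    rw [← pResidual_perm, ← c.hom_range L i e]
    exact ⟨⟨g, hg⟩, rfl⟩
  obtain ⟨k, hk', hkE, hke⟩ := c.even_lift L hn rfl e hμ hx hsw ψ hk hact hev h
  have e1 : qC 2 G k = qC 2 G g := congrArg Subtype.val (e.injective hke)
  have hQ : k⁻¹ * g ∈ pCore 2 G := (c.mem_core_iff L).2 (by rw [map_mul, map_inv, e1, inv_mul_cancel])
  have := mul_mem (Subgroup.mem_sup_left hk'.2 : k ∈ cStarOf 2 (T : Subgroup G))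
    (sylow_le_cStar T (pCore_le_sylow T hQ))
  rwa [mul_inv_cancel_left] at this

end Perm

/-- An element of a block lies in `C*(G,T)` when it is the part of something in `M`. -/
theorem cStar_of_part (i : Fin r) {g : G ⧸ cV p G} (hg : g ∈ ⨆ j, E j) (hgM : g ∈ M.map (qC p G)) {h : G}
    (hh : h ∈ blk T (E i)) (hp' : IsPart (qAct p G) (E i) g (qC p G h)) : h ∈ cStarOf p (T : Subgroup G) := by
  rcases L.kind i with ⟨F, iF, iF', n, e, ψ, -, -, -, -, -, -, hT, hoffs⟩ |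
    ⟨n, e, ψ, μ, hp2, hn, -, hk, hact, hμ, hsw, -⟩
  · exact c.mem_cStar_sl L e hoffs hp'.1 (c.part_upper L e hT hg hgM hp')
  · obtain ⟨x, hx⟩ := pairing_point hμ (odd_card hn)
    exact c.mem_cStar_perm L hn hp2 e hμ hx hsw ψ hk hact hh
      (c.part_fixes L hn hp2 e hμ hx hsw ψ hk hact hg hgM hp')

theorem blk_M_le_cStar (i : Fin r) {h : G} (hh : h ∈ blk T (E i)) (hM : qC p G h ∈ M.map (qC p G)) :
    h ∈ cStarOf p (T : Subgroup G) :=
  c.cStar_of_part L i (le_iSup E i (c.blk_image L hh)) hM hh (L.part_self (c.blk_image L hh))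

/-- What `M` meets in the product of the blocks is generated by the intersections of `C*(G,T)` with them. -/
theorem mem_iSup_cStar {g : G} (hg : g ∈ ⨆ j, blk T (E j)) (hgM : qC p G g ∈ M.map (qC p G)) :
    g ∈ ⨆ j, (cStarOf p (T : Subgroup G) ⊓ blk T (E j)) := by
  classical
  suffices ∀ s : Finset (Fin r), ∀ g ∈ ⨆ j ∈ s, blk T (E j), qC p G g ∈ M.map (qC p G) →
      g ∈ ⨆ j, (cStarOf p (T : Subgroup G) ⊓ blk T (E j)) from
    this Finset.univ g (by simpa using hg) hgM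
  intro s
  induction s using Finset.induction_on with
  | empty =>
    intro g hg _
    simp only [Finset.notMem_empty, iSup_false, iSup_bot, Subgroup.mem_bot] at hg
    rw [hg]; exact one_mem _
  | insert i s hi ih =>
    intro g hg hgM
    rw [Finset.iSup_insert, ← SetLike.mem_coe, Subgroup.coe_mul_of_left_le_normalizer_right] at hg
    · obtain ⟨a, ha, b, hb, rfl⟩ := hg
      have haE := c.blk_image L ha
      have hbE : qC p G b ∈ ⨆ j ∈ s, E j := by
        have hle : (⨆ j ∈ s, blk T (E j)) ≤ (⨆ j ∈ s, E j).comap (qC p G) := iSup₂_le fun j hj x hx =>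
          le_iSup₂ (f := fun j (_ : j ∈ s) => E j) j hj (c.blk_image L hx)
        exact hle hb
      have hsE : (⨆ j ∈ s, E j) ≤ ⨆ j, E j := iSup₂_le fun j _ => le_iSup E j
      have hb1 : IsPart (qAct p G) (E i) (qC p G b) 1 := by
        let K : Subgroup (G ⧸ cV p G) :=
          { carrier := {y | y ∈ (⨆ j, E j) ∧ IsPart (qAct p G) (E i) y 1}
            one_mem' := ⟨one_mem _, L.part_self (one_mem _)⟩
            mul_mem' := fun {y z} ⟨hy, hy'⟩ ⟨hz, hz'⟩ => ⟨mul_mem hy hz, one_mul (1 : G ⧸ cV p G) ▸ L.part_mul hy hy' hz'⟩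
            inv_mem' := fun {y} ⟨hy, hy'⟩ => ⟨inv_mem hy, inv_one (G := G ⧸ cV p G) ▸ L.part_inv hy hy'⟩ }
        have hle : (⨆ j ∈ s, E j) ≤ K := iSup₂_le fun j hj y hy =>
          ⟨le_iSup E j hy, L.part_other (show j ≠ i from fun e => hi (e ▸ hj)) hy⟩
        exact (hle hbE).2
      have hpart : IsPart (qAct p G) (E i) (qC p G (a * b)) (qC p G a) := by
        have := L.part_mul (le_iSup E i haE) (L.part_self haE) hb1
        rwa [mul_one, ← map_mul] at this
      have hab : qC p G (a * b) ∈ ⨆ j, E j := by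
        rw [map_mul]; exact mul_mem (le_iSup E i haE) (hsE hbE)
      have haC := c.cStar_of_part L i hab hgM ha hpart
      refine mul_mem (le_iSup (fun j => cStarOf p (T : Subgroup G) ⊓ blk T (E j)) i ⟨haC, ha⟩) (ih b hb ?_)
      have haM : qC p G a ∈ M.map (qC p G) := Subgroup.mem_map_of_mem _ (c.cStar_le haC)
      have := mul_mem (inv_mem haM) hgM
      rwa [map_mul, inv_mul_cancel_left] at this
    · intro a ha
      refine ZJFailure.mem_normalizer_of_forall fun b hb => ?_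
      have hle : (⨆ j ∈ s, blk T (E j)) ≤ Subgroup.centralizer {a} := iSup₂_le fun j hj x hx =>
        Subgroup.mem_centralizer_singleton_iff.2 (c.blk_comm L (show j ≠ i from fun e => hi (e ▸ hj)) hx ha)
      rw [← Subgroup.mem_centralizer_singleton_iff.1 (hle hb), mul_inv_cancel_right]
      exact hb

end Ctx

end CfsgLib.BlockPush
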