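import Cfsg.Agent.Lib.BlockPush.BlockTwo

/-!
Blocks of different components commute.
-/

set_option autoImplicit false
set_option linter.unusedSectionVars false
set_option linter.style.haveILetI false

namespace CfsgLib.BlockPush

open Cfsg CfsgLib CfsgLib.RootCommute CfsgLib.RootBlocks
open CfsgLib.SL2Pair (fix)
open CfsgLib.StrongFusion (cm cm_cm cm_one cm_inv_cm cm_mono card_cm conj_mem_cm)
open scoped commutatorElement Pointwise

universe u

variable {G : Type u} [Group G] [Finite G] {p : ℕ} [hp : Fact p.Prime]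

attribute [local instance] commGroupOf

namespace Ctx

variable {T : Sylow p G} {M : Subgroup G} (c : Ctx T M)
include c
variable {r : ℕ} {E : Fin r → Subgroup (G ⧸ cV p G)}
  (L : Layout (qAct p G) (T.mapSurjective qC_surjective) (M.map (qC p G)) E)
include L

/-- The displacements of a component are fixed by every other component. -/
theorem wComp_fixed {i j : Fin r} (hij : i ≠ j) {g w : G} (hg : qC p G g ∈ E j) (hw : w ∈ wComp (E i)) :
    g * w = w * g := by
  obtain ⟨hwV, hw'⟩ := hw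
  have h1 := L.other i j hij hw' _ hg
  rw [qAct_av, av_eq] at h1
  exact mul_inv_eq_iff_eq_mul.1 h1

theorem conj_omega {X : Subgroup G} {g : G} (hg : g ∈ Subgroup.normalizer (X : Set G)) :
    g ∈ Subgroup.normalizer (omegaOneCenter p X : Set G) := by
  rw [Subgroup.mem_normalizer_iff_map_conj_eq] at hg ⊢
  have h := omegaOneCenter_map_inj (p := p) (f := (MulAut.conj g).toMonoidHom) (MulAut.conj g).injective X
  exact h.symm.trans (congrArg (omegaOneCenter p) hg)

/-- **The core of a block is centralized by the other blocks.** -/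
theorem core_fixed {i j : Fin r} (hij : i ≠ j) {g q : G} (hg : g ∈ blk T (E j))
    (hq : q ∈ blk T (E i) ⊓ pCore p G) : g * q = q * g := by
  rcases c.one_or_two L i with h | h
  · rw [c.core_one L h] at hq
    exact c.wComp_fixed L hij (c.blk_image L hg) hq
  have hx := c.exc_of_twoAt L h
  set Q := pCoreOf p (blk T (E i)) with hQ
  set U := omegaOneCenter p Q with hU
  set RR := ⁅Q, Q⁆ with hRR
  have hQeq : Q = blk T (E i) ⊓ pCore p G := c.pCoreOf_blk L i
  have hKQ : ∀ k ∈ kComp T (E j), k ∈ Subgroup.normalizer (Q : Set G) := fun k hk => by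
    refine ZJFailure.mem_normalizer_of_forall fun x hx => ?_
    rw [hQeq] at hx ⊢
    exact Subgroup.mem_inf.2 ⟨(Subgroup.mem_normalizer_iff.1
      (c.blk_normalizer L i (c.offs_top_norm L i hk.1)) x).1 hx.1,
      (inferInstance : (pCore p G).Normal).conj_mem x hx.2 k⟩
  have hKU : ∀ k ∈ kComp T (E j), k ∈ Subgroup.normalizer (U : Set G) := fun k hk => c.conj_omega L (hKQ k hk)
  -- the elements acting trivially above `U`
  let K' : Subgroup G :=
    { carrier := {k | k ∈ kComp T (E j) ∧ ∀ x ∈ Q, k * x * k⁻¹ * x⁻¹ ∈ U}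
      one_mem' := ⟨one_mem _, fun x _ => by simp⟩
      mul_mem' := fun {a b} ha hb => ⟨mul_mem ha.1 hb.1, fun x hx => by
        rw [show a * b * x * (a * b)⁻¹ * x⁻¹ = a * (b * x * b⁻¹ * x⁻¹) * a⁻¹ * (a * x * a⁻¹ * x⁻¹) by group]
        exact mul_mem ((Subgroup.mem_normalizer_iff.1 (hKU a ha.1) _).1 (hb.2 x hx)) (ha.2 x hx)⟩
      inv_mem' := fun {a} ha => ⟨inv_mem ha.1, fun x hx => by
        rw [show a⁻¹ * x * a⁻¹⁻¹ * x⁻¹ = a⁻¹ * (a * x * a⁻¹ * x⁻¹)⁻¹ * a⁻¹⁻¹ by group]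
        exact (Subgroup.mem_normalizer_iff.1 (hKU _ (inv_mem ha.1)) _).1 (inv_mem (ha.2 x hx))⟩ }
  have hK'n : ∀ a ∈ kComp T (E j), ∀ k ∈ K', a * k * a⁻¹ ∈ K' := fun a ha k hk =>
    ⟨mul_mem (mul_mem ha hk.1) (inv_mem ha), fun x hx => by
      have hx' : a⁻¹ * x * a ∈ Q := by
        have := (Subgroup.mem_normalizer_iff.1 (hKQ _ (inv_mem ha)) x).1 hx
        rwa [inv_inv] at this
      rw [show a * k * a⁻¹ * x * (a * k * a⁻¹)⁻¹ * x⁻¹ = a * (k * (a⁻¹ * x * a) * k⁻¹ * (a⁻¹ * x * a)⁻¹) * a⁻¹ by group]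
      exact (Subgroup.mem_normalizer_iff.1 (hKU a ha) _).1 (hk.2 _ hx')⟩
  have hB : ∀ b ∈ kComp T (E j) ⊓ tB T, b ∈ K' := fun b hb => ⟨hb.1, fun x hxQ =>
    hx.derived_le (hx.comm_rest b ((c.mem_nComp L).2 ⟨hb.2, L.part_other (Ne.symm hij) hb.1.2⟩) x hxQ)⟩
  have hblk : blk T (E j) ≤ K' := by
    conv_lhs => rw [← c.blk_commutator L j]
    refine Subgroup.commutator_le.2 fun a ha b hb => ?_
    rw [commutatorElement_def]
    exact mul_mem (hK'n a (c.blk_le L j ha) b (hB b hb)) (inv_mem (hB b hb))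
  -- the layers are fixed
  have hfixR : ∀ k ∈ blk T (E j), ∀ x ∈ RR, k * x = x * k := fun k hk x hxR => by
    have hle : RR ≤ Subgroup.centralizer {k} := Subgroup.commutator_le.2 fun a ha b hb => by
      rw [Subgroup.mem_centralizer_singleton_iff, commutatorElement_def]
      have e1 : k * a * k⁻¹ = (k * a * k⁻¹ * a⁻¹) * a := by group
      have e2 : k * b * k⁻¹ = (k * b * k⁻¹ * b⁻¹) * b := by group
      have hu := (hblk hk).2 a ha
      have hv := (hblk hk).2 b hb
      set u := k * a * k⁻¹ * a⁻¹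
      set v := k * b * k⁻¹ * b⁻¹
      have hub : Commute u b := hx.omega_cent u hu b hb
      have hav : Commute a v := (show Commute v a from hx.omega_cent v hv a ha).symm
      have huv : Commute u v := hx.omega_cent u hu v (BBlock.omegaOneCenter_le p Q hv)
      have h1 : k * (a * b * a⁻¹ * b⁻¹) * k⁻¹ = a * b * a⁻¹ * b⁻¹ := by
        calc k * (a * b * a⁻¹ * b⁻¹) * k⁻¹
            = (k * a * k⁻¹) * (k * b * k⁻¹) * (k * a * k⁻¹)⁻¹ * (k * b * k⁻¹)⁻¹ := by group
          _ = u * (a * v) * b * a⁻¹ * (u⁻¹ * b⁻¹) * v⁻¹ := by rw [e1, e2]; group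
          _ = u * v * (a * b * a⁻¹ * b⁻¹) * (u⁻¹ * v⁻¹) := by rw [hav.eq, hub.inv_inv.eq]; group
          _ = _ := by
              have hm : ∀ y, y ∈ U → Commute y (a * b * a⁻¹ * b⁻¹) := fun y hy =>
                hx.omega_cent y hy _ (mul_mem (mul_mem (mul_mem ha hb) (inv_mem ha)) (inv_mem hb))
              rw [((hm u hu).mul_left (hm v hv)).eq, huv.inv_inv.eq]
              group
      exact mul_inv_eq_iff_eq_mul.1 h1 |>.symm
    exact (Subgroup.mem_centralizer_singleton_iff.1 (hle hxR)).symm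
  have hfixU : ∀ k ∈ blk T (E j), ∀ x ∈ U, k * x = x * k := fun k hk x hxU => by
    have hle : wComp (E i) ⊔ RR ≤ Subgroup.centralizer {k} := sup_le
      (fun w hw => Subgroup.mem_centralizer_singleton_iff.2 (c.wComp_fixed L hij (c.blk_image L hk) hw).symm)
      (fun w hw => Subgroup.mem_centralizer_singleton_iff.2 (hfixR k hk w hw).symm)
    exact (Subgroup.mem_centralizer_singleton_iff.1 (hle (hx.omega_le hxU))).symm
  have hcop : ∀ k ∈ kComp T (E j), (orderOf k).Coprime p → ∀ x ∈ Q, k * x = x * k := by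
    intro k hk hc x hxQ
    have hkb : k ∈ blk T (E j) := BBlock.mem_pResidualOf hk hc
    set d := k * x * k⁻¹ * x⁻¹ with hd
    have hdU : d ∈ U := (hblk hkb).2 x hxQ
    have h1 : d ∈ (⊥ : Subgroup G) := by
      refine PushUp.push_down hc (show k * x * k⁻¹ = d * x by rw [hd]; group) ?_ ?_
      · obtain ⟨m, hm⟩ := isPGroup_pCore (G := G) p ⟨d, (hQeq.le (BBlock.omegaOneCenter_le p Q hdU)).2⟩
        exact ⟨m, Subgroup.mem_bot.2 (congrArg Subtype.val hm)⟩
      · rw [Subgroup.mem_bot, hfixU k hkb d hdU, mul_inv_cancel_right, mul_inv_cancel]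
    rw [Subgroup.mem_bot, hd, mul_inv_eq_one, mul_inv_eq_iff_eq_mul] at h1
    exact h1
  have hle : blk T (E j) ≤ Subgroup.centralizer (Q : Set G) := BBlock.pResidualOf_le fun k hk hc =>
    Subgroup.mem_centralizer_iff.2 fun x hx => (hcop k hk hc x hx).symm
  exact (Subgroup.mem_centralizer_iff.1 (hle hg) q (hQeq.ge hq)).symm

/-- **Blocks of different components commute.** -/
theorem blk_comm {i j : Fin r} (hij : i ≠ j) {x y : G} (hx : x ∈ blk T (E i)) (hy : y ∈ blk T (E j)) :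
    x * y = y * x := by
  have hin : ∀ {a b : G}, a ∈ blk T (E i) → b ∈ blk T (E j) →
      a * b * a⁻¹ * b⁻¹ ∈ blk T (E i) ⊓ pCore p G ∧ a * b * a⁻¹ * b⁻¹ ∈ blk T (E j) := by
    intro a b ha hb
    have hai := c.blk_normalizer L j (c.offs_top_norm L j (c.blk_le L i ha).1)
    have hbj := c.blk_normalizer L i (c.offs_top_norm L i (c.blk_le L j hb).1)
    have h1 : a * b * a⁻¹ * b⁻¹ ∈ blk T (E i) := by
      rw [show a * b * a⁻¹ * b⁻¹ = a * (b * a⁻¹ * b⁻¹) by group]
      exact mul_mem ha ((Subgroup.mem_normalizer_iff.1 hbj _).1 (inv_mem ha))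
    have h2 : a * b * a⁻¹ * b⁻¹ ∈ blk T (E j) := mul_mem ((Subgroup.mem_normalizer_iff.1 hai _).1 hb) (inv_mem hb)
    refine ⟨Subgroup.mem_inf.2 ⟨h1, (c.mem_core_iff L).2 ?_⟩, h2⟩
    exact L.part_unique (L.part_self (c.blk_image L h1)) (L.part_other (Ne.symm hij) (c.blk_image L h2))
  let θ : ↥(blk T (E i)) →* ↥(pCore p G) :=
    { toFun := fun a => ⟨(a : G) * y * (a : G)⁻¹ * y⁻¹, (hin a.2 hy).1.2⟩
      map_one' := Subtype.ext (by simp)
      map_mul' := fun a b => Subtype.ext (by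
        obtain ⟨hb1, hb2⟩ := hin b.2 hy
        obtain ⟨ha1, -⟩ := hin a.2 hy
        have hab : (a : G) * ((b : G) * y * (b : G)⁻¹ * y⁻¹) =
            ((b : G) * y * (b : G)⁻¹ * y⁻¹) * (a : G) :=
          c.core_fixed L (Ne.symm hij) a.2 ⟨hb2, hb1.2⟩
        have hcc : ((b : G) * y * (b : G)⁻¹ * y⁻¹) * ((a : G) * y * (a : G)⁻¹ * y⁻¹) =
            ((a : G) * y * (a : G)⁻¹ * y⁻¹) * ((b : G) * y * (b : G)⁻¹ * y⁻¹) :=
          (c.core_fixed L (Ne.symm hij) ha1.1 ⟨hb2, hb1.2⟩).symm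
        show (a : G) * b * y * ((a : G) * b)⁻¹ * y⁻¹ =
          ((a : G) * y * (a : G)⁻¹ * y⁻¹) * ((b : G) * y * (b : G)⁻¹ * y⁻¹)
        rw [show (a : G) * b * y * ((a : G) * b)⁻¹ * y⁻¹ =
          ((a : G) * ((b : G) * y * (b : G)⁻¹ * y⁻¹)) * (a : G)⁻¹ * ((a : G) * y * (a : G)⁻¹ * y⁻¹) by group,
          hab, mul_inv_cancel_right, hcc]) }
  have h1 := congrArg Subtype.val (hom_eq_one_of_pResidualOf (pResidualOf_idem _) (isPGroup_pCore (G := G) p) θ ⟨x, hx⟩)
  exact mul_inv_eq_iff_eq_mul.1 (mul_inv_eq_one.1 h1)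

theorem blk_commutator_eq_bot {i j : Fin r} (hij : i ≠ j) : ⁅blk T (E i), blk T (E j)⁆ = ⊥ := by
  refine le_bot_iff.1 (Subgroup.commutator_le.2 fun a ha b hb => ?_)
  rw [Subgroup.mem_bot, commutatorElement_def, c.blk_comm L hij ha hb, mul_inv_cancel_right, mul_inv_cancel]

end Ctx

end CfsgLib.BlockPush
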