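import Cfsg.Agent.Lib.BlockPush.CompDefs

/-!
A component with a model has the properties used.
-/

set_option autoImplicit false
set_option linter.unusedSectionVars false
set_option linter.style.haveILetI false

namespace CfsgLib.BlockPush

open CfsgLib CfsgLib.RootCommute
open CfsgLib.SL2Pair (fix mem_fix)
open CfsgLib.StrongFusion (cm)

universe u v w z

variable {P : Type u} [Group P] [Finite P] {W : Type v} [AddCommGroup W] [Finite W] {p : ℕ} [hp : Fact p.Prime]
  {ρ : P →* AddMonoid.End W} {T : Sylow p P} {E : Subgroup P}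

theorem mem_qfix {A : Subgroup P} {w : W} : w ∈ qfix ρ E A ↔ ∀ a ∈ A, ρ a w - w ∈ fix ρ E := Iff.rfl

theorem fix_le_qfix (A : Subgroup P) : fix ρ A ≤ qfix ρ E A := fun w hw a ha => by
  rw [hw a ha, sub_self]; exact zero_mem _

theorem qfix_antitone {A B : Subgroup P} (h : A ≤ B) : qfix ρ E B ≤ qfix ρ E A := fun _ hw a ha => hw a (h ha)

theorem offs_le : offs ρ T E ≤ (T : Subgroup P) ⊓ E := sSup_le fun _ h => h.1

theorem le_offs {B : Subgroup P} (h : B ≤ (T : Subgroup P) ⊓ E) (he : Elem p B) (hmu : Nat.card W ≤ mu ρ B) :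
    B ≤ offs ρ T E := le_sSup ⟨h, he, hmu⟩

/-- An offender inside a component fixes what it moves into the fixed space only. -/
theorem qfix_le_fix_of_mu {B : Subgroup P} (hb : Nat.card B ≤ (qfix ρ E B).index) (hmu : Nat.card W ≤ mu ρ B) :
    qfix ρ E B ≤ fix ρ B := by
  have h1 := (qfix ρ E B).card_mul_index
  have h2 : Nat.card (qfix ρ E B) ≤ Nat.card (fix ρ B) := by
    refine Nat.le_of_mul_le_mul_left ?_ (Nat.card_pos (α := ↥B))
    calc Nat.card B * Nat.card (qfix ρ E B) ≤ (qfix ρ E B).index * Nat.card (qfix ρ E B) := Nat.mul_le_mul_right _ hb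
      _ = Nat.card W := by rw [mul_comm]; exact h1
      _ ≤ _ := hmu
  exact (AddSubgroup.eq_of_le_of_card_ge (fix_le_qfix B) h2).ge

/-- The pull back of a subgroup of the model. -/
def lift {G0 : Type w} [Group G0] (e : ↥E ≃* G0) (H : Subgroup G0) : Subgroup P :=
  (H.comap e.toMonoidHom).map E.subtype

theorem mem_lift {G0 : Type w} [Group G0] {e : ↥E ≃* G0} {H : Subgroup G0} {x : P} :
    x ∈ lift e H ↔ ∃ h : x ∈ E, e ⟨x, h⟩ ∈ H := by
  constructor
  · rintro ⟨g, hg, rfl⟩; exact ⟨g.2, hg⟩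
  · rintro ⟨h, hx⟩; exact ⟨⟨x, h⟩, hx, rfl⟩

theorem coe_mem_lift {G0 : Type w} [Group G0] {e : ↥E ≃* G0} {H : Subgroup G0} {g : ↥E} :
    (g : P) ∈ lift e H ↔ e g ∈ H := by
  rw [mem_lift]; exact ⟨fun ⟨_, h⟩ => h, fun h => ⟨g.2, h⟩⟩

namespace Model

variable {G0 : Type w} [Group G0] [Finite G0] {U0 : Type z} [AddCommGroup U0] [Finite U0] {σ0 : G0 →* AddMonoid.End U0}
  {S0 : Sylow p G0} {e : ↥E ≃* G0} {ψ : W →+ U0} {J0 : Subgroup G0}

variable (m : Model ρ T E σ0 S0 e ψ)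
include m

theorem card_W : Nat.card W = Nat.card (fix ρ E) * Nat.card U0 := by
  have h1 := ψ.ker.card_mul_index
  rw [AddSubgroup.index_ker, AddMonoidHom.range_eq_top.2 m.surj, AddSubgroup.card_top,
    show ψ.ker = fix ρ E from AddSubgroup.ext fun w => m.ker w] at h1
  exact h1.symm

theorem sylow_lift : lift e (S0 : Subgroup G0) = (T : Subgroup P) ⊓ E := by
  ext x
  rw [mem_lift, Subgroup.mem_inf]
  exact ⟨fun ⟨h, hx⟩ => ⟨(m.sylow ⟨x, h⟩).1 hx, h⟩, fun ⟨hT, h⟩ => ⟨h, (m.sylow ⟨x, h⟩).2 hT⟩⟩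

theorem qfix_eq {A : Subgroup P} (hA : A ≤ E) :
    qfix ρ E A = (fix σ0 ((A.subgroupOf E).map e.toMonoidHom)).comap ψ := by
  ext w
  rw [mem_qfix, AddSubgroup.mem_comap]
  refine ⟨fun h x hx => ?_, fun h a ha => ?_⟩
  · obtain ⟨g, hg, rfl⟩ := hx
    show σ0 (e g) (ψ w) = ψ w
    rw [← m.act, ← sub_eq_zero, ← map_sub, m.ker]
    exact h g hg
  · rw [← m.ker, map_sub, sub_eq_zero, show a = ((⟨a, hA ha⟩ : ↥E) : P) from rfl, m.act]
    exact h _ ⟨⟨a, hA ha⟩, ha, rfl⟩

/-- An elementary abelian subgroup of the component read in the model. -/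
theorem elem_map {A : Subgroup P} (hA : A ≤ (T : Subgroup P) ⊓ E) (he : Elem p A) :
    ((A.subgroupOf E).map e.toMonoidHom ≤ (S0 : Subgroup G0)) ∧
      (∀ a ∈ (A.subgroupOf E).map e.toMonoidHom, ∀ c ∈ (A.subgroupOf E).map e.toMonoidHom, a * c = c * a) ∧
      (∀ a ∈ (A.subgroupOf E).map e.toMonoidHom, a ^ p = 1) ∧
      Nat.card ↥((A.subgroupOf E).map e.toMonoidHom) = Nat.card A := by
  refine ⟨?_, ?_, ?_, ?_⟩
  · rintro _ ⟨g, hg, rfl⟩; exact (m.sylow g).2 (hA hg).1
  · rintro _ ⟨g, hg, rfl⟩ _ ⟨h, hh, rfl⟩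
    rw [← map_mul, ← map_mul, show g * h = h * g from Subtype.ext (he.1 _ hg _ hh)]
  · rintro _ ⟨g, hg, rfl⟩
    rw [← map_pow, show g ^ p = 1 from Subtype.ext (he.2 _ hg), map_one]
  · rw [Subgroup.card_map_of_injective e.injective,
      Nat.card_congr (Subgroup.subgroupOfEquivOfLe (hA.trans inf_le_right)).toEquiv]

theorem mu_le {A : Subgroup P} (hA : A ≤ (T : Subgroup P) ⊓ E) (he : Elem p A) (hmu : Nat.card W ≤ mu ρ A) :
    Nat.card U0 ≤ mu σ0 ((A.subgroupOf E).map e.toMonoidHom) := by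
  obtain ⟨-, -, -, hc⟩ := m.elem_map hA he
  set A0 := (A.subgroupOf E).map e.toMonoidHom
  have h1 : Nat.card (qfix ρ E A) = Nat.card (fix ρ E) * Nat.card (fix σ0 A0) := by
    rw [m.qfix_eq (hA.trans inf_le_right)]
    let f : ↥((fix σ0 A0).comap ψ) →+ ↥(fix σ0 A0) := (ψ.comp (AddSubgroup.subtype _)).codRestrict _ fun x => x.2
    have h := f.ker.card_mul_index
    rw [AddSubgroup.index_ker, show f.range = ⊤ from eq_top_iff.2 fun x _ => by
      obtain ⟨y, hy⟩ := m.surj x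
      exact ⟨⟨y, show ψ y ∈ fix σ0 A0 from hy.symm ▸ x.2⟩, Subtype.ext hy⟩, AddSubgroup.card_top] at h
    rw [← h]
    congr 1
    exact Nat.card_congr
      { toFun := fun x => ⟨((x : ↥((fix σ0 A0).comap ψ)) : W), (m.ker _).1 (congrArg Subtype.val x.2 :)⟩
        invFun := fun x => ⟨⟨x, show ψ _ ∈ fix σ0 A0 by rw [(m.ker _).2 x.2]; exact zero_mem _⟩,
          Subtype.ext ((m.ker _).2 x.2)⟩
        left_inv := fun x => rfl
        right_inv := fun x => rfl }
  have h2 : mu ρ A ≤ Nat.card A * Nat.card (qfix ρ E A) :=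
    Nat.mul_le_mul_left _ (Nat.card_le_card_of_injective _ (AddSubgroup.inclusion_injective (fix_le_qfix (E := E) A)))
  refine Nat.le_of_mul_le_mul_left ?_ (Nat.card_pos (α := ↥(fix ρ E)))
  rw [← m.card_W, mu, hc, mul_left_comm, ← h1]
  exact hmu.trans h2

variable (hP : Piece p σ0 S0 J0)
include hP

theorem bound {A : Subgroup P} (hA : A ≤ (T : Subgroup P) ⊓ E) (he : Elem p A) :
    Nat.card A ≤ (qfix ρ E A).index := by
  obtain ⟨h1, h2, h3, h4⟩ := m.elem_map hA he
  rw [m.qfix_eq (hA.trans inf_le_right), AddSubgroup.index_comap_of_surjective _ m.surj]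
  refine Nat.le_of_mul_le_mul_right ?_
    (Nat.card_pos (α := ↥(fix σ0 ((A.subgroupOf E).map e.toMonoidHom))))
  rw [mul_comm (AddSubgroup.index _), AddSubgroup.card_mul_index]
  exact h4 ▸ (hP.bound _ h1 h2 h3).1

/-- The subgroup generated by the offenders is the one of the model. -/
theorem offs_eq (hex : ∃ B : Subgroup P, B ≤ (T : Subgroup P) ⊓ E ∧ Elem p B ∧ B ≠ ⊥ ∧ Nat.card W ≤ mu ρ B) :
    offs ρ T E = lift e J0 := by
  refine le_antisymm (sSup_le fun B hB x hx => ?_) ?_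
  · obtain ⟨h1, h2, h3, -⟩ := m.elem_map hB.1 hB.2.1
    have hxE := (hB.1 hx).2
    exact mem_lift.2 ⟨hxE, (hP.bound _ h1 h2 h3).2 (m.mu_le hB.1 hB.2.1 hB.2.2) ⟨⟨x, hxE⟩, hx, rfl⟩⟩
  · obtain ⟨B, hB, he, hne, hmu⟩ := hex
    obtain ⟨h1, h2, h3, -⟩ := m.elem_map hB he
    set K := ((offs ρ T E).subgroupOf E).map e.toMonoidHom with hK
    have hJK : J0 ≤ K := by
      refine hP.span _ K h1 h2 h3 (fun h => hne ?_) (m.mu_le hB he hmu)
        (Subgroup.map_mono fun g hg => le_offs hB he hmu hg) fun s hs => ?_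
      · rw [Subgroup.map_eq_bot_iff_of_injective _ e.injective, Subgroup.subgroupOf_eq_bot] at h
        exact h.eq_bot_of_le (hB.trans inf_le_right)
      · obtain ⟨g, rfl⟩ := e.surjective s
        refine Subgroup.mem_normalizer_iff.2 fun x => ?_
        obtain ⟨y, rfl⟩ := e.surjective x
        have hgT := (m.sylow g).1 hs
        have hn : (g : P) ∈ Subgroup.normalizer (offs ρ T E : Set P) := by
          refine Local.mem_normalizer_of_map_conj_eq (Subgroup.eq_of_le_of_card_ge ?_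
            (Subgroup.card_map_of_injective (MulAut.conj (g : P)).injective).ge)
          refine Subgroup.map_le_iff_le_comap.2 (sSup_le fun C hC => Subgroup.map_le_iff_le_comap.1 ?_)
          refine le_offs ?_ ⟨?_, ?_⟩ ?_
          · rintro _ ⟨c, hc, rfl⟩
            exact ⟨(T : Subgroup P).mul_mem ((T : Subgroup P).mul_mem hgT (hC.1 hc).1)
              ((T : Subgroup P).inv_mem hgT), E.mul_mem (E.mul_mem g.2 (hC.1 hc).2) (E.inv_mem g.2)⟩
          · rintro _ ⟨a, ha, rfl⟩ _ ⟨c, hc, rfl⟩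
            rw [← map_mul, ← map_mul, hC.2.1.1 a ha c hc]
          · rintro _ ⟨a, ha, rfl⟩
            rw [← map_pow, hC.2.1.2 a ha, map_one]
          · show Nat.card W ≤ mu ρ (cm (g : P) C)
            rw [mu, StrongFusion.card_cm, card_fix_cm]
            exact hC.2.2
        rw [← map_inv, ← map_mul, ← map_mul, hK, Subgroup.mem_map_equiv, Subgroup.mem_map_equiv,
          e.symm_apply_apply, e.symm_apply_apply, Subgroup.mem_subgroupOf, Subgroup.mem_subgroupOf]
        exact (Subgroup.mem_normalizer_iff.1 hn (y : P))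
    intro x hx
    obtain ⟨hxE, hx⟩ := mem_lift.1 hx
    have := hJK hx
    rw [hK, Subgroup.mem_map_equiv, e.symm_apply_apply] at this
    exact this

variable (hirr : ∀ X : AddSubgroup U0, (∀ g, ∀ x ∈ X, σ0 g x ∈ X) → X = ⊥ ∨ X = ⊤)
  (hinj : Function.Injective σ0)
include hirr hinj

/-- **One component.** -/
theorem comp (hex : ∃ B : Subgroup P, B ≤ (T : Subgroup P) ⊓ E ∧ Elem p B ∧ B ≠ ⊥ ∧ Nat.card W ≤ mu ρ B) :
    Comp ρ T E := by
  have hJ := m.offs_eq hP hex
  set J := offs ρ T E with hJdef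
  have hJE : J ≤ E := offs_le.trans inf_le_right
  have hmemJ : ∀ g : ↥E, (g : P) ∈ J ↔ e g ∈ J0 := fun g => by rw [hJ]; exact coe_mem_lift
  have hJmap : (J.subgroupOf E).map e.toMonoidHom = J0 := by
    ext x
    obtain ⟨g, rfl⟩ := e.surjective x
    rw [Subgroup.mem_map_equiv, e.symm_apply_apply, Subgroup.mem_subgroupOf, hmemJ]
  have hfixJ : ∀ w, ψ w ∈ fix σ0 J0 → w ∈ fix ρ J := fun w hw => by
    have h1 : w ∈ qfix ρ E J := by rw [m.qfix_eq hJE, hJmap]; exact hw
    have h2 : J ≤ pointStab ρ w := sSup_le fun B hB b hb =>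
      qfix_le_fix_of_mu (m.bound hP hB.1 hB.2.1) hB.2.2 (qfix_antitone (le_offs hB.1 hB.2.1 hB.2.2) h1) b hb
    exact fun a ha => h2 ha
  refine ⟨fun A hA he => m.bound hP hA he, fun w hw => hfixJ w ?_, ?_, ?_, ?_, ?_, ?_, ?_, ?_, ?_, ?_⟩
  · rw [m.qfix_eq hJE, hJmap] at hw; exact hw
  · intro h
    refine hP.fix_ne ((AddSubgroup.eq_bot_iff_forall _).2 fun u hu => ?_)
    obtain ⟨w, rfl⟩ := m.surj u
    exact (m.ker w).2 (h (hfixJ w hu))
  · intro w hw
    rw [← m.ker, ← AddSubgroup.mem_bot, ← hP.no_fixed]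
    intro x _
    obtain ⟨g, rfl⟩ := e.surjective x
    rw [← m.act, ← sub_eq_zero, ← map_sub, m.ker]
    exact hw g g.2
  · intro X hX hinv
    have hXc : X = (X.map ψ).comap ψ := by
      rw [AddSubgroup.comap_map_eq, show ψ.ker = fix ρ E from AddSubgroup.ext fun w => m.ker w, sup_eq_left.2 hX]
    rcases hirr (X.map ψ) (by
      rintro x _ ⟨w, hw, rfl⟩
      obtain ⟨g, rfl⟩ := e.surjective x
      exact ⟨_, hinv g g.2 w hw, m.act g w⟩) with h | h
    · refine Or.inl ?_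
      rw [hXc, h]
      exact AddSubgroup.ext fun w => (AddSubgroup.mem_bot.trans (m.ker w))
    · exact Or.inr (by rw [hXc, h, AddSubgroup.comap_top])
  · intro g hg h
    have h1 : σ0 (e ⟨g, hg⟩) = 1 := AddMonoidHom.ext fun u => by
      obtain ⟨w, rfl⟩ := m.surj u
      show σ0 (e ⟨g, hg⟩) (ψ w) = ψ w
      rw [← m.act, ← sub_eq_zero, ← map_sub, m.ker]
      exact h w
    rw [← map_one σ0] at h1
    exact congrArg Subtype.val (e.injective ((hinj h1).trans e.map_one.symm))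
  · intro t htE ⟨k, hk⟩ hfix
    have htfix : ∀ s : P, cm s E = E → ∀ w, w ∈ fix ρ E → ρ s w ∈ fix ρ E := fun s hs w hw => by
      rw [← hs, mem_fix_cm, act_inv]; exact hw
    have htE' : cm t⁻¹ E = E := by
      conv_lhs => rw [← htE]
      exact StrongFusion.cm_inv_cm _ _
    obtain ⟨t0, ht0⟩ : ∃ t0 : AddMonoid.End U0, ∀ w, t0 (ψ w) = ψ (ρ t w) := by
      refine ⟨ψ.liftOfSurjective m.surj ⟨ψ.comp (ρ t), fun w hw => ?_⟩, fun w => ?_⟩
      · show ψ (ρ t w) = 0
        rw [m.ker]; exact htfix t htE w ((m.ker w).1 hw)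
      · exact AddMonoidHom.liftOfRightInverse_comp_apply ψ _ _ _ w
    obtain ⟨t0', ht0'⟩ : ∃ t0 : AddMonoid.End U0, ∀ w, t0 (ψ w) = ψ (ρ t⁻¹ w) := by
      refine ⟨ψ.liftOfSurjective m.surj ⟨ψ.comp (ρ t⁻¹), fun w hw => ?_⟩, fun w => ?_⟩
      · show ψ (ρ t⁻¹ w) = 0
        rw [m.ker]; exact htfix t⁻¹ htE' w ((m.ker w).1 hw)
      · exact AddMonoidHom.liftOfRightInverse_comp_apply ψ _ _ _ w
    obtain ⟨j, hj, hjt⟩ := hP.fixer t0 t0'
      (fun u => by obtain ⟨w, rfl⟩ := m.surj u; rw [ht0, ht0', act_inv])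
      (fun u => by obtain ⟨w, rfl⟩ := m.surj u; rw [ht0', ht0, act_inv'])
      (fun x => by
        obtain ⟨g, rfl⟩ := e.surjective x
        have hc : t * (g : P) * t⁻¹ ∈ E := htE.le (StrongFusion.conj_mem_cm g.2)
        refine ⟨e ⟨_, hc⟩, fun u => ?_⟩
        obtain ⟨w, rfl⟩ := m.surj u
        rw [ht0', ← m.act, ht0, ← m.act, act_mul, act_mul])
      (fun u hu => by
        obtain ⟨w, rfl⟩ := m.surj u
        rw [ht0, ← sub_eq_zero, ← map_sub, m.ker]
        exact hfix w (hfixJ w hu))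
      ⟨k, AddMonoidHom.ext fun u => by
        obtain ⟨w, rfl⟩ := m.surj u
        have hn : ∀ n : ℕ, (t0 ^ n) (ψ w) = ψ (ρ (t ^ n) w) := by
          intro n
          induction n with
          | zero => rw [pow_zero, pow_zero, act_one]; rfl
          | succ n ih =>
            rw [pow_succ', pow_succ', act_mul]
            show t0 ((t0 ^ n) (ψ w)) = _
            rw [ih, ht0]
        exact (hn (p ^ k)).trans (by rw [hk, act_one]; rfl)⟩
    refine ⟨((e.symm j : ↥E) : P), (hmemJ _).2 (by rwa [e.apply_symm_apply]), fun w => ?_⟩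
    rw [← m.ker, map_sub, sub_eq_zero, ← ht0, m.act, e.apply_symm_apply, hjt]
  · obtain ⟨g0, hg0⟩ := hP.gen
    obtain ⟨g, rfl⟩ := e.surjective g0
    refine ⟨g, g.2, fun x hx => ?_⟩
    have h1 : J0 ⊔ cm (e g) J0 ≤ ((J ⊔ cm (g : P) J).subgroupOf E).map e.toMonoidHom := by
      refine sup_le (fun y hy => ?_) fun y hy => ?_
      · obtain ⟨k, rfl⟩ := e.surjective y
        exact ⟨k, Subgroup.mem_sup_left ((hmemJ k).2 hy), rfl⟩
      · obtain ⟨z, hz, rfl⟩ := hy
        obtain ⟨k, rfl⟩ := e.surjective z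
        exact ⟨g * k * g⁻¹, Subgroup.mem_sup_right (StrongFusion.conj_mem_cm ((hmemJ k).2 hz)), by
          show e (g * k * g⁻¹) = e g * e k * (e g)⁻¹
          rw [map_mul, map_mul, map_inv]⟩
    obtain ⟨k, hk, hke⟩ := h1 (hg0.ge (Subgroup.mem_top (e ⟨x, hx⟩)))
    have := e.injective hke
    rw [this] at hk
    exact hk
  · refine (RootCommute.img_le ρ).2 fun a ha w => hfixJ _ ?_
    rw [map_sub, show a = ((⟨a, hJE ha⟩ : ↥E) : P) from rfl, m.act]
    exact hP.quad (sub_mem_img σ0 ((hmemJ ⟨a, hJE ha⟩).1 ha) (ψ w))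
  · intro B K hB he hne hmu hBK hN
    obtain ⟨h1, h2, h3, -⟩ := m.elem_map hB he
    have hJK : J0 ≤ ((K ⊓ E).subgroupOf E).map e.toMonoidHom := by
      refine hP.span _ _ h1 h2 h3 (fun h => hne ?_) (m.mu_le hB he hmu)
        (Subgroup.map_mono fun g hg => Subgroup.mem_inf.2 ⟨hBK hg, g.2⟩) fun s hs => ?_
      · rw [Subgroup.map_eq_bot_iff_of_injective _ e.injective, Subgroup.subgroupOf_eq_bot] at h
        exact h.eq_bot_of_le (hB.trans inf_le_right)
      · obtain ⟨g, rfl⟩ := e.surjective s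
        refine Subgroup.mem_normalizer_iff.2 fun x => ?_
        obtain ⟨y, rfl⟩ := e.surjective x
        have hn := Subgroup.mem_normalizer_iff.1 (hN ⟨(m.sylow g).1 hs, g.2⟩) (y : P)
        rw [← map_inv, ← map_mul, ← map_mul, Subgroup.mem_map_equiv, Subgroup.mem_map_equiv,
          e.symm_apply_apply, e.symm_apply_apply, Subgroup.mem_subgroupOf, Subgroup.mem_subgroupOf,
          Subgroup.mem_inf, Subgroup.mem_inf]
        exact ⟨fun h => ⟨hn.1 h.1, (g * y * g⁻¹).2⟩, fun h => ⟨hn.2 h.1, y.2⟩⟩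
    intro x hx
    obtain ⟨k, hk, hke⟩ := hJK ((hmemJ ⟨x, hJE hx⟩).1 hx)
    rw [e.injective hke] at hk
    exact hk.1
  · obtain ⟨R0, F, iF, iF', n, f, hf, hn, hcard, hJR, hRS, hRN, hRP, hRmax⟩ := hP.region
    let res : ↥(lift e R0) →* ↥R0 :=
      { toFun := fun x => ⟨e ⟨x, (mem_lift.1 x.2).1⟩, (mem_lift.1 x.2).2⟩
        map_one' := Subtype.ext (map_one e)
        map_mul' := fun x y => Subtype.ext (map_mul e ⟨x.1, _⟩ ⟨y.1, _⟩) }
    have hres : Function.Surjective res := fun r => by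
      obtain ⟨g, hg⟩ := e.surjective r.1
      refine ⟨⟨g, coe_mem_lift.2 (hg.symm ▸ r.2)⟩, Subtype.ext hg⟩
    have hNJ : ∀ g : ↥E, (g : P) ∈ Subgroup.normalizer (J : Set P) ↔ e g ∈ Subgroup.normalizer (J0 : Set G0) := by
      intro g
      rw [Subgroup.mem_normalizer_iff, Subgroup.mem_normalizer_iff]
      constructor
      · intro h x
        obtain ⟨y, rfl⟩ := e.surjective x
        rw [← map_inv, ← map_mul, ← map_mul, ← hmemJ, ← hmemJ]
        exact h y
      · intro h x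
        by_cases hx : x ∈ E
        · have h1 := h (e ⟨x, hx⟩)
          rw [← map_inv, ← map_mul, ← map_mul, ← hmemJ, ← hmemJ] at h1
          exact h1
        · refine iff_of_false (fun h' => hx (hJE h')) fun h' => hx ?_
          have h2 := E.mul_mem (E.mul_mem (E.inv_mem g.2) (hJE h')) g.2
          rwa [show (g : P)⁻¹ * ((g : P) * x * (g : P)⁻¹) * (g : P) = x by group] at h2
    refine ⟨lift e R0, F, iF, iF', n, f.comp res, hf.comp hres, hn, hcard, ?_, Subgroup.map_subtype_le _, ?_, ?_, ?_,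
      ?_⟩
    · exact hJ.le.trans (Subgroup.map_mono (Subgroup.comap_mono hJR))
    · rw [← m.sylow_lift, lift, lift, ← Subgroup.map_sup,
        Subgroup.comap_sup_eq_of_le_range (f := e.toMonoidHom) (H := R0) (K := (S0 : Subgroup G0))
          (fun x _ => e.surjective x) (fun x _ => e.surjective x), hRS, Subgroup.comap_top,
        ← MonoidHom.range_eq_map, Subgroup.range_subtype]
    · intro h
      refine hRN fun x hx => ?_
      obtain ⟨g, rfl⟩ := e.surjective x
      exact (hNJ g).1 (h (coe_mem_lift.2 hx))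
    · intro X hX hXp hJX
      have hXE : X ≤ E := hX.trans (Subgroup.map_subtype_le _)
      have h1 : (X.subgroupOf E).map e.toMonoidHom ≤ J0 := hRP _ (by
        rintro _ ⟨g, hg, rfl⟩; exact coe_mem_lift.1 (hX hg))
        ((hXp.of_equiv (Subgroup.subgroupOfEquivOfLe hXE).symm).map _) (by
          intro x hx
          obtain ⟨g, rfl⟩ := e.surjective x
          exact ⟨g, hJX ((hmemJ g).2 hx), rfl⟩)
      exact fun x hx => (hmemJ ⟨x, hXE hx⟩).2 (h1 ⟨⟨x, hXE hx⟩, hx, rfl⟩)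
    · intro H hJH hH
      have hHE : H ≤ E := hH.trans (Subgroup.map_subtype_le _)
      rcases hRmax ((H.subgroupOf E).map e.toMonoidHom) (by
          intro x hx
          obtain ⟨g, rfl⟩ := e.surjective x
          exact ⟨g, hJH ((hmemJ g).2 hx), rfl⟩) (by
          rintro _ ⟨g, hg, rfl⟩; exact coe_mem_lift.1 (hH hg)) with h | h
      · refine Or.inl (le_antisymm hH fun x hx => ?_)
        obtain ⟨hxE, hx⟩ := mem_lift.1 hx
        rw [← h, Subgroup.mem_map_equiv, e.symm_apply_apply] at hx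
        exact hx
      · exact Or.inr fun x hx => (hNJ ⟨x, hHE hx⟩).2 (h ⟨⟨x, hHE hx⟩, hx, rfl⟩)

end Model

end CfsgLib.BlockPush
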