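import Cfsg.Agent.Lib.BlockPush.Piece

/-!
What is used of one component inside the group acting on the whole module. (Definitions only.)
-/

set_option autoImplicit false
set_option linter.unusedSectionVars false

namespace CfsgLib.BlockPush

open CfsgLib CfsgLib.RootCommute
open CfsgLib.SL2Pair (fix mem_fix)
open CfsgLib.StrongFusion (cm)

universe u v w z

variable {P : Type u} [Group P] {W : Type v} [AddCommGroup W] {p : ℕ}

/-- The vectors that `A` moves only inside the fixed space of `E`. -/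
def qfix (ρ : P →* AddMonoid.End W) (E A : Subgroup P) : AddSubgroup W where
  carrier := {w | ∀ a ∈ A, ρ a w - w ∈ fix ρ E}
  zero_mem' a _ := by rw [map_zero, sub_zero]; exact zero_mem _
  add_mem' {v w} hv hw a ha := by
    rw [map_add, add_sub_add_comm]; exact add_mem (hv a ha) (hw a ha)
  neg_mem' {v} hv a ha := by
    rw [map_neg, neg_sub_neg, ← neg_sub]; exact neg_mem (hv a ha)

/-- An elementary abelian subgroup. -/
def Elem (p : ℕ) (A : Subgroup P) : Prop := (∀ a ∈ A, ∀ c ∈ A, a * c = c * a) ∧ ∀ a ∈ A, a ^ p = 1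

/-- The subgroup generated by the elementary abelian subgroups of `T` in `E` that do not lose. -/
def offs (ρ : P →* AddMonoid.End W) (T : Sylow p P) (E : Subgroup P) : Subgroup P :=
  sSup {B | B ≤ (T : Subgroup P) ⊓ E ∧ Elem p B ∧ Nat.card W ≤ mu ρ B}

/-- The properties of one component. -/
structure Comp (ρ : P →* AddMonoid.End W) (T : Sylow p P) (E : Subgroup P) : Prop where
  bound : ∀ A : Subgroup P, A ≤ (T : Subgroup P) ⊓ E → Elem p A → Nat.card A ≤ (qfix ρ E A).index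
  fix_eq : qfix ρ E (offs ρ T E) ≤ fix ρ (offs ρ T E)
  fix_ne : ¬ fix ρ (offs ρ T E) ≤ fix ρ E
  no_fixed : qfix ρ E E ≤ fix ρ E
  irr : ∀ X : AddSubgroup W, fix ρ E ≤ X → (∀ g ∈ E, ∀ x ∈ X, ρ g x ∈ X) → X = fix ρ E ∨ X = ⊤
  faithful : ∀ g ∈ E, (∀ w, ρ g w - w ∈ fix ρ E) → g = 1
  fixer : ∀ t : P, cm t E = E → (∃ k : ℕ, t ^ p ^ k = 1) →
    (∀ w ∈ fix ρ (offs ρ T E), ρ t w - w ∈ fix ρ E) → ∃ j ∈ offs ρ T E, ∀ w, ρ t w - ρ j w ∈ fix ρ E
  gen : ∃ g ∈ E, E ≤ offs ρ T E ⊔ cm g (offs ρ T E)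
  quad : img ρ (offs ρ T E) ≤ fix ρ (offs ρ T E)
  span : ∀ B K : Subgroup P, B ≤ (T : Subgroup P) ⊓ E → Elem p B → B ≠ ⊥ → Nat.card W ≤ mu ρ B → B ≤ K →
    (T : Subgroup P) ⊓ E ≤ Subgroup.normalizer (K : Set P) → offs ρ T E ≤ K
  region : ∃ (R : Subgroup P) (F : Type) (_ : Field F) (_ : Fintype F) (n : ℕ)
    (f : ↥R →* Matrix.ProjectiveSpecialLinearGroup (Fin 2) F), Function.Surjective f ∧ 1 ≤ n ∧
      Fintype.card F = p ^ n ∧ offs ρ T E ≤ R ∧ R ≤ E ∧ E ≤ R ⊔ ((T : Subgroup P) ⊓ E) ∧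
      ¬ R ≤ Subgroup.normalizer (offs ρ T E : Set P) ∧
      (∀ X ≤ R, IsPGroup p X → offs ρ T E ≤ X → X ≤ offs ρ T E) ∧
      ∀ H, offs ρ T E ≤ H → H ≤ R → H = R ∨ H ≤ Subgroup.normalizer (offs ρ T E : Set P)

/-- A component seen as a group of matrices or permutations on its module. -/
structure Model (ρ : P →* AddMonoid.End W) (T : Sylow p P) (E : Subgroup P) {G0 : Type w} [Group G0] {U0 : Type z}
    [AddCommGroup U0] (σ0 : G0 →* AddMonoid.End U0) (S0 : Sylow p G0) (e : ↥E ≃* G0) (ψ : W →+ U0) : Prop where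
  surj : Function.Surjective ψ
  ker : ∀ w, ψ w = 0 ↔ w ∈ fix ρ E
  act : ∀ (g : ↥E) w, ψ (ρ (g : P) w) = σ0 (e g) (ψ w)
  sylow : ∀ g : ↥E, e g ∈ (S0 : Subgroup G0) ↔ (g : P) ∈ (T : Subgroup P)

end CfsgLib.BlockPush
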