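import Cfsg.Agent.Lib.BlockPush.Local
import Cfsg.Agent.Lib.TransferRoot.Factor
import Cfsg.Agent.Lib.KInf.Criterion

/-!
The chief factors of `G` between `X` and `C_Q(Z)` in the long configuration.
-/

set_option autoImplicit false
set_option linter.unusedSectionVars false
set_option linter.style.haveILetI false

namespace CfsgLib.BlockPush

open Cfsg CfsgLib CfsgLib.RootCommute CfsgLib.RootBlocks Matrix
open CfsgLib.SL2Pair (fix)
open CfsgLib.StrongFusion (cm cm_cm cm_one cm_inv_cm cm_mono card_cm conj_mem_cm)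
open scoped commutatorElement Pointwise

universe u

variable {G : Type u} [Group G] [Finite G] {p : ℕ} [hp : Fact p.Prime]

attribute [local instance] commGroupOf

theorem sq_one_scal {F : Type} [Field F] (h2 : (2 : F) ≠ 0) {g : Matrix.SpecialLinearGroup (Fin 2) F}
    (h : g * g = 1) : IsScal g := by
  have hi : g⁻¹ = g := inv_eq_of_mul_eq_one_right h
  have e := congrArg Subtype.val hi
  rw [Matrix.SpecialLinearGroup.coe_inv, Matrix.adjugate_fin_two] at e
  have a := congrFun (congrFun e 0) 0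
  have b := congrFun (congrFun e 0) 1
  have c := congrFun (congrFun e 1) 0
  simp at a b c
  refine ⟨(mul_eq_zero.1 (show (2 : F) * g.1 0 1 = 0 by linear_combination -b)).resolve_left h2,
    (mul_eq_zero.1 (show (2 : F) * g.1 1 0 = 0 by linear_combination -c)).resolve_left h2, a.symm⟩

theorem scal_uGrp {F : Type} [Field F] {g : Matrix.SpecialLinearGroup (Fin 2) F} (h : IsScal g)
    (hu : g ∈ (uGrp : Subgroup (Matrix.SpecialLinearGroup (Fin 2) F))) : g = 1 := by
  rw [uGrp_eq hu, h.1]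
  exact Subtype.ext (by simp [PSL2.coe_uSL, Matrix.one_fin_two])

namespace Ctx

variable {T : Sylow p G} {M : Subgroup G} (c : Ctx T M)
include c
variable {r : ℕ} {E : Fin r → Subgroup (G ⧸ cV p G)}
  (L : Layout (qAct p G) (T.mapSurjective qC_surjective) (M.map (qC p G)) E)
include L

/-- `B(T)` is abelian modulo `C_Q(Z)`. -/
theorem comm_tB {a b : G} (ha : a ∈ tB T) (hb : b ∈ tB T) : a * b * a⁻¹ * b⁻¹ ∈ qZero T := by
  have h1 : ∀ {x}, x ∈ tB T → qC p G x ∈ offs (qAct p G) (T.mapSurjective qC_surjective) ⊤ := fun hx =>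
    (c.map_tB L).le (Subgroup.mem_map_of_mem _ hx)
  have hab : qC p G a * qC p G b = qC p G b * qC p G a := by
    have hA := (L.offs_top_le (h1 ha)).2
    have hB := (L.offs_top_le (h1 hb)).2
    refine congrArg Subtype.val (L.eq_of_partHom (g := ⟨_, hA⟩ * ⟨_, hB⟩) (g' := ⟨_, hB⟩ * ⟨_, hA⟩) fun i => ?_)
    rw [map_mul, map_mul]
    exact Subtype.ext ((offs_elem (L.kind i)).1 _ (L.part_offs (h1 ha) (L.isPart_partHom i ⟨_, hA⟩)) _
      (L.part_offs (h1 hb) (L.isPart_partHom i ⟨_, hB⟩)))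
  have hC : a * b * a⁻¹ * b⁻¹ ∈ cV p G := by
    rw [← qC_eq_one, map_mul, map_mul, map_mul, map_inv, map_inv, hab, mul_inv_cancel_right, mul_inv_cancel]
  have hB' : a * b * a⁻¹ * b⁻¹ ∈ tB T := mul_mem (mul_mem (mul_mem ha hb) (inv_mem ha)) (inv_mem hb)
  exact Subgroup.mem_inf.2 ⟨c.inf_cV_eq.le (Subgroup.mem_inf.2 ⟨tB_le T hB', hC⟩), hB'⟩

/-- **The commutators of `C_G(V)` with `B(T)` fix every chief factor between `X` and `C_Q(Z)`.** -/
theorem factor_fix (h : ∀ i, TwoAt T E i) {U V : Subgroup G} (hUV : IsChiefFactor U V) (hXV : xQ T ≤ V)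
    (hU : U ≤ qZero T) {k b : G} (hk : k ∈ cV p G) (hkc : (orderOf k).Coprime p) (hb : b ∈ tB T) :
    ∀ x ∈ U, k * b * k⁻¹ * b⁻¹ * x * (k * b * k⁻¹ * b⁻¹)⁻¹ * x⁻¹ ∈ V := by
  classical
  haveI := c.qZero_normal L
  haveI hUn := hUV.2.1
  haveI hVn := hUV.2.2.1
  have hUQ : U ≤ pCore p G := hU.trans inf_le_left
  obtain ⟨W, _, _, ρ, π, hrep, hpW, hQker, hirr⟩ := TransferRoot.exists_facRep (p := p) hUV hUQ
  suffices hy : k * b * k⁻¹ * b⁻¹ ∈ ρ.ker by
    intro x hx
    refine (hrep.zero _ (mul_mem (hUn.conj_mem x hx _) (inv_mem hx))).1 ?_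
    rw [hrep.comm_mem _ hx, MonoidHom.mem_ker.1 hy]
    exact sub_self _
  by_cases hkK : k ∈ ρ.ker
  · rw [show k * b * k⁻¹ * b⁻¹ = k * (b * k⁻¹ * b⁻¹) by group]
    exact mul_mem hkK ((MonoidHom.normal_ker ρ).conj_mem _ (inv_mem hkK) b)
  have hKM : ρ.ker ≤ M := by
    refine le_sup_right.trans (c.uniq _ le_sup_left fun e => hkK ?_)
    exact PResidual.pResidual_le_of_sup_eq_top T.2 e (Subgroup.subset_closure hkc)
  set mk := QuotientGroup.mk' ρ.ker with hmk
  have hmks : Function.Surjective mk := QuotientGroup.mk'_surjective _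
  have hmk1 : ∀ {g}, mk g = 1 ↔ g ∈ ρ.ker := fun {g} => QuotientGroup.eq_one_iff g
  set Tb : Sylow p (G ⧸ ρ.ker) := TransferRoot.sylowBar ρ T with hTb
  set Mb := M.map mk with hMb
  have hcomap : Mb.comap mk = M := by
    rw [hMb, Subgroup.comap_map_eq, QuotientGroup.ker_mk', sup_eq_left.2 hKM]
  have hWne : (⊤ : AddSubgroup W) ≠ ⊥ := fun e => hkK (MonoidHom.mem_ker.2 (AddMonoidHom.ext fun x => by
    rw [AddSubgroup.mem_bot.1 (e.le (AddSubgroup.mem_top x))]; exact (map_zero _).trans (map_zero _).symm))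
  have hover : Over (TransferRoot.bar ρ) Tb Mb := by
    refine ⟨TransferRoot.bar_injective ρ, hpW, Subgroup.map_mono c.le_M, fun e => c.M_ne ?_, fun H hH hne => ?_,
      fun N hN hNp => ?_⟩
    · rw [← hcomap, e, Subgroup.comap_top]
    · have h1 : H.comap mk ≤ M := c.uniq _ (fun t ht => hH ⟨t, ht, rfl⟩) fun e => hne (by
        rw [← Subgroup.map_comap_eq_self_of_surjective hmks H, e, Subgroup.map_top_of_surjective _ hmks])
      rw [← Subgroup.map_comap_eq_self_of_surjective hmks H]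
      exact Subgroup.map_mono h1
    · haveI := hN
      obtain ⟨w, -, hw0, hw⟩ := exists_fix (TransferRoot.bar ρ) hpW hNp (W := ⊤) (fun _ _ _ _ => trivial) hWne
      have h1 := hirr (fix (TransferRoot.bar ρ) N) fun g x hx a ha => by
        have e := hx _ (hN.conj_mem a ha (mk g)⁻¹)
        rw [inv_inv, act_mul, act_mul] at e
        have e2 := congrArg (TransferRoot.bar ρ (mk g)) e
        rw [act_inv'] at e2
        exact e2
      have h2 := h1.resolve_left fun e => hw0 (AddSubgroup.mem_bot.1 (e.le hw))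
      refine (Subgroup.eq_bot_iff_forall _).2 fun a ha => TransferRoot.bar_injective ρ (AddMonoidHom.ext fun x => ?_)
      exact ((h2.ge (AddSubgroup.mem_top x) : x ∈ fix _ N) a ha).trans (act_one _ x).symm
  -- the offender
  obtain ⟨j₀⟩ : Nonempty (Fin r) := by
    obtain ⟨r', E', hr', L'⟩ := c.exists_components
    by_contra hno
    rw [not_nonempty_iff] at hno
    have h1 := L.sup
    rw [iSup_of_empty, bot_sup_eq] at h1
    refine (L'.base.M_ne (top_le_iff.1 ?_))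
    rw [← h1]; exact L'.base.le_M
  have hp3 : p = 3 := c.p_eq_three L h j₀
  obtain ⟨H, R, S, hl, F, iF, iF', hch, f, T', X, Y, A, C, D, h2, hco⟩ := h j₀
  have hs := hl.supp.setting
  have hd := hl.supp.noChar.mild hs
  haveI := h2.toTwo.D_normal hs hd
  set O := pCore p ↥H with hO
  set CD := C ⊔ D with hCD
  have hXsub : ∀ x ∈ X, (x : G) ∈ tB T := fun x hx => hl.supp.sylow.le (h2.X_le hx)
  set Xb := (X.map H.subtype).map mk with hXb
  have hel : ∀ a ∈ Xb, ∀ d ∈ Xb, a * d = d * a := by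
    rintro _ ⟨_, ⟨x, hx, rfl⟩, rfl⟩ _ ⟨_, ⟨y, hy, rfl⟩, rfl⟩
    exact ((map_mul mk _ _).symm.trans (congrArg mk (congrArg Subtype.val (h2.abelX x hx y hy)))).trans
      (map_mul mk _ _)
  have hxp : ∀ a ∈ Xb, a ^ p = 1 := by
    rintro _ ⟨_, ⟨x, hx, rfl⟩, rfl⟩
    rw [← map_pow, ← map_pow, h2.elemX x hx, map_one, map_one]
  have hXT : Xb ≤ (Tb : Subgroup (G ⧸ ρ.ker)) := by
    rintro _ ⟨_, ⟨x, hx, rfl⟩, rfl⟩
    exact ⟨_, tB_le T (hXsub x hx), rfl⟩
  have hXker : ∀ x ∈ X, mk (x : G) = 1 → x ∈ O := fun x hx e =>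
    hl.supp.qZero_le (Subgroup.mem_inf.2 ⟨c.inf_le_core (MonoidHom.normal_ker ρ) hKM
      (Subgroup.mem_inf.2 ⟨tB_le T (hXsub x hx), hmk1.1 e⟩), hXsub x hx⟩)
  -- its image is large
  set q := Fintype.card F with hq
  have hcS : Nat.card (S : Subgroup ↥H) = q * Nat.card O := hco.card_S
  have hbig : q ≤ Nat.card Xb := by
    have h1 := TransferRoot.card_map_mul_inf (mk.comp H.subtype) X
    rw [← Subgroup.map_map, ← hXb] at h1
    have h3 : Nat.card ↥(X ⊓ (mk.comp H.subtype).ker) ≤ Nat.card ↥(X ⊓ O) :=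
      Subgroup.card_le_of_le fun x hx => Subgroup.mem_inf.2 ⟨hx.1, hXker x hx.1 hx.2⟩
    have h4 := TransferRoot.card_sup_mul (A := X) (B := O) (PushUp.normalizer_top _ _)
    rw [h2.X_sup, hcS] at h4
    refine Nat.le_of_mul_le_mul_right ?_ (Nat.mul_pos (Nat.card_pos (α := O)) (Nat.card_pos (α := ↥(X ⊓ O))))
    calc q * (Nat.card O * Nat.card ↥(X ⊓ O)) = Nat.card X * Nat.card O := by rw [← h4]; ring
      _ ≤ Nat.card Xb * Nat.card ↥(X ⊓ O) * Nat.card O := by
          rw [← h1]; exact Nat.mul_le_mul_right _ (Nat.mul_le_mul_left _ h3)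
      _ = _ := by ring
  -- and it fixes a subgroup of small index
  have hUO : ∀ u ∈ U, ∃ hu : u ∈ H, (⟨u, hu⟩ : ↥H) ∈ O := fun u hu =>
    ⟨hl.supp.tB_le (hU hu).2, hl.supp.qZero_le (hU hu)⟩
  have hfixCD : ∀ u ∈ U.subgroupOf H ⊓ CD, π (u : G) ∈ fix (TransferRoot.bar ρ) Xb := by
    rintro u ⟨huU', huCD⟩ _ ⟨_, ⟨x, hx, rfl⟩, rfl⟩
    have huU : (u : G) ∈ U := huU'
    show TransferRoot.bar ρ (mk (x : G)) (π (u : G)) = π (u : G)
    rw [TransferRoot.bar_mk, ← sub_eq_zero, ← hrep.comm_mem _ huU]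
    refine (hrep.zero _ (mul_mem (hUn.conj_mem _ huU _) (inv_mem huU))).2 (hXV ?_)
    obtain ⟨cc, hcc, d, hd', hcd⟩ := Subgroup.mem_sup_of_normal_right.1 huCD
    have e : x * u * x⁻¹ * u⁻¹ = cc * (x * d * x⁻¹ * d⁻¹) * cc⁻¹ := by
      rw [← hcd, show x * (cc * d) = cc * x * d by rw [← h2.XC x hx cc hcc]; group]; group
    have h1 : x * u * x⁻¹ * u⁻¹ ∈ PushUp.vmod S := by
      rw [e]
      exact (Subgroup.normalClosure_normal (s := (PushRankOne.zs S : Set ↥H))).conj_mem _ (h2.DX d hd' x hx).1 cc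
    exact c.vmod_le_xQ L hl h1
  have hUcard : Nat.card U * Nat.card CD ≤ Nat.card ↥(U.subgroupOf H ⊓ CD) * Nat.card O := by
    have h1 := Products.card_mul_card_le (U.subgroupOf H) CD
    rw [Nat.card_congr (Subgroup.subgroupOfEquivOfLe (show U ≤ H from fun u hu => (hUO u hu).1)).toEquiv] at h1
    refine h1.trans ?_
    rw [mul_comm]
    refine Nat.mul_le_mul_left _ (Subgroup.card_le_of_le (sup_le (fun u hu => ?_) (sup_le h2.C_le h2.D_le)))
    exact (hUO _ hu).2
  have hAq : Nat.card O * Nat.card ↥(A ⊓ D) ≤ Nat.card A * Nat.card CD := by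
    have h1 : O ≤ A ⊔ CD := fun o ho => by
      obtain ⟨cc, hcc, a, ha, d, hd', rfl⟩ := h2.split o ho
      exact mul_mem (mul_mem (Subgroup.mem_sup_right (Subgroup.mem_sup_left hcc)) (Subgroup.mem_sup_left ha))
        (Subgroup.mem_sup_right (Subgroup.mem_sup_right hd'))
    have hnorm : A ≤ Subgroup.normalizer (CD : Set ↥H) := fun a ha => ZJFailure.mem_normalizer_of_forall fun x hx => by
      obtain ⟨cc, hcc, d, hd', rfl⟩ := Subgroup.mem_sup_of_normal_right.1 hx
      rw [show a * (cc * d) * a⁻¹ = (a * cc * a⁻¹ * cc⁻¹) * cc * (a * d * a⁻¹) by group]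
      refine mul_mem (mul_mem (Subgroup.mem_sup_right (h2.V_le (h2.toTwo.central_mem hs hd ha hcc).1))
        (Subgroup.mem_sup_left hcc)) (Subgroup.mem_sup_right (‹D.Normal›.conj_mem d hd' a))
    calc Nat.card O * Nat.card ↥(A ⊓ D) ≤ Nat.card ↥(A ⊔ CD) * Nat.card ↥(A ⊓ CD) :=
          Nat.mul_le_mul (Subgroup.card_le_of_le h1) (Subgroup.card_le_of_le (inf_le_inf_left _ le_sup_right))
      _ = _ := TransferRoot.card_sup_mul hnorm
  have hmu : Nat.card W ≤ mu (TransferRoot.bar ρ) Xb := by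
    set N := U.subgroupOf H ⊓ CD with hN
    set FX := fix (TransferRoot.bar ρ) Xb with hFX
    have hinj : Nat.card N ≤ Nat.card FX * Nat.card V := by
      choose s hsU hsπ using hrep.surj
      rw [← Nat.card_prod]
      refine Nat.card_le_card_of_injective (fun u : N => ((⟨π ((u : ↥H) : G), hfixCD u u.2⟩ : FX),
        (⟨(s (π ((u : ↥H) : G)))⁻¹ * ((u : ↥H) : G), (hrep.zero _ (mul_mem (inv_mem (hsU _)) (show ((u : ↥H) : G) ∈ U from u.2.1))).1 (by
          rw [hrep.add _ (inv_mem (hsU _)) _ (show ((u : ↥H) : G) ∈ U from u.2.1), hrep.π_inv (hsU _), hsπ, neg_add_cancel])⟩ : V))) fun u u' e => ?_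
      have e1 : π ((u : ↥H) : G) = π ((u' : ↥H) : G) := congrArg Subtype.val (Prod.ext_iff.1 e).1
      have e2 := congrArg Subtype.val (Prod.ext_iff.1 e).2
      simp only [e1] at e2
      exact Subtype.ext (Subtype.ext (mul_left_cancel e2))
    have hA' : Nat.card A ≤ q * Nat.card ↥(A ⊓ D) := by
      refine Nat.le_of_mul_le_mul_right ?_ (Nat.card_pos (α := O))
      exact h2.cardA.trans_eq (by rw [hcS]; ring)
    refine le_trans ?_ (Nat.mul_le_mul_right (Nat.card FX) hbig)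
    refine Nat.le_of_mul_le_mul_right ?_
      (Nat.mul_pos (Nat.mul_pos (Nat.card_pos (α := V)) (Nat.card_pos (α := CD))) (Nat.card_pos (α := ↥(A ⊓ D))))
    calc Nat.card W * (Nat.card V * Nat.card CD * Nat.card ↥(A ⊓ D))
        = Nat.card U * Nat.card CD * Nat.card ↥(A ⊓ D) := by rw [hrep.card_eq]; ring
      _ ≤ Nat.card FX * Nat.card V * (Nat.card O * Nat.card ↥(A ⊓ D)) := by
          rw [← mul_assoc (Nat.card FX * Nat.card V)]
          exact Nat.mul_le_mul_right _ (hUcard.trans (Nat.mul_le_mul_right _ hinj))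
      _ ≤ Nat.card FX * Nat.card V * (q * Nat.card ↥(A ⊓ D) * Nat.card CD) :=
          Nat.mul_le_mul_left _ (hAq.trans (Nat.mul_le_mul_right _ hA'))
      _ = _ := by ring
  have hXne : Xb ≠ ⊥ := fun e => by
    rw [e, Subgroup.card_bot] at hbig
    have := Fintype.one_lt_card (α := F)
    omega
  obtain ⟨s, Ê, -, L'⟩ := exists_layout (RootBlocks.hasSplit p) hover ⟨Xb, hXT, hel, hxp, hXne, hmu⟩
  -- every component is linear
  have hSL : ∀ a, IsSLKind (TransferRoot.bar ρ) Tb (Ê a) := fun a => (L'.kind a).resolve_right fun hP => by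
    obtain ⟨n, e, ψ, μ, h2', -⟩ := hP
    omega
  -- an element of `B(T)` in every component
  set Bb := (tB T).map mk with hBb
  have hBab : ∀ x ∈ Bb, ∀ y ∈ Bb, x * y = y * x := by
    rintro _ ⟨x, hx, rfl⟩ _ ⟨y, hy, rfl⟩
    have h1 := hmk1.2 (hQker (inf_le_left (a := pCore p G) (c.comm_tB L hx hy)))
    rwa [map_mul, map_mul, map_mul, map_inv, map_inv, mul_inv_eq_one, mul_inv_eq_iff_eq_mul] at h1
  obtain ⟨a₀, x₀, hx₀B, hx₀E, hx₀1⟩ : ∃ a, ∃ x ∈ Bb, x ∈ Ê a ∧ x ≠ 1 := by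
    by_contra hno
    push Not at hno
    refine hXne ((Subgroup.eq_bot_iff_forall _).2 fun x hx => ?_)
    have hparts := L'.offender_parts hXT ⟨hel, hxp⟩ hmu x hx
    have hxE := L'.gen Xb hXT ⟨hel, hxp⟩ hmu hx
    refine L'.eq_of_parts hxE (one_mem _) fun a => ?_
    obtain ⟨y, hy, hyX, -⟩ := hparts a
    have : y = 1 := hno a y (by
      obtain ⟨_, ⟨z, hz, rfl⟩, rfl⟩ := hyX
      exact ⟨z, hXsub z hz, rfl⟩) hy.1
    subst this
    exact ⟨1, hy, L'.part_self (one_mem _)⟩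
  have hevery : ∀ a, ∃ x ∈ Bb, x ∈ Ê a ∧ x ∈ (Tb : Subgroup (G ⧸ ρ.ker)) ∧ x ≠ 1 := fun a => by
    obtain ⟨t, ⟨t₀, ht₀, rfl⟩, hta⟩ := L'.trans a₀ a
    obtain ⟨z, hz, rfl⟩ := hx₀B
    refine ⟨mk (t₀ * z * t₀⁻¹), ⟨_, (Subgroup.mem_normalizer_iff.1 (le_normalizer_tB T ht₀) z).1 hz, rfl⟩, ?_,
      ⟨_, tB_le T ((Subgroup.mem_normalizer_iff.1 (le_normalizer_tB T ht₀) z).1 hz), rfl⟩, ?_⟩
    · rw [← hta, map_mul, map_mul, map_inv]
      exact conj_mem_cm hx₀E
    · rw [map_mul, map_mul, map_inv]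
      exact fun e => hx₀1 (conj_eq_one_iff.1 e)
  have hnormB : ∀ x ∈ Bb, ∀ a, cm x (Ê a) = Ê a := by
    intro x hx a
    obtain ⟨a', ha'⟩ := L'.perm_eq x a
    by_contra hne
    obtain ⟨y, hyB, hyE, hyT, hy1⟩ := hevery a
    have hy' : y ∈ Ê a' := by
      rw [← ha', RootCommute.mem_cm, mul_assoc, hBab y hyB x hx, inv_mul_cancel_left]
      exact hyE
    have hcen : ∀ g ∈ Ê a, g * y = y * g := fun g hg =>
      L'.comm a a' (fun e => hne (by rw [ha', e])) g hg y hy'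
    obtain ⟨F', _, _, n, e, ψ, -, -, -, -, -, -, hT', -⟩ := hSL a
    have hs1 : IsScal (e ⟨y, hyE⟩) := scal_of_comm
      (by rw [← e.apply_symm_apply (PSL2.uSL 1), ← map_mul, ← map_mul]
          exact congrArg e (Subtype.ext (hcen _ (e.symm (PSL2.uSL 1)).2).symm))
      (by rw [← e.apply_symm_apply (PSL2.vSL 1), ← map_mul, ← map_mul]
          exact congrArg e (Subtype.ext (hcen _ (e.symm (PSL2.vSL 1)).2).symm))
    exact hy1 (congrArg Subtype.val (e.injective ((scal_uGrp hs1 ((hT' ⟨y, hyE⟩).2 hyT)).trans (map_one e).symm)))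
  -- the image of `k`
  set Cb := (cV p G).map mk with hCb
  haveI : Cb.Normal := (cV_normal (p := p) (G := G)).map mk hmks
  set kb := mk k with hkb
  have hkbC : kb ∈ Cb := Subgroup.mem_map_of_mem _ hk
  have hkbE : kb ∈ ⨆ a, Ê a := by
    haveI := L'.normal
    exact PResidual.pResidual_le_of_sup_eq_top Tb.2 ((sup_comm _ _).trans L'.sup)
      (Subgroup.subset_closure ((Nat.Coprime.coprime_dvd_left (orderOf_map_dvd mk k) hkc)))
  choose kp hkp using fun a => L'.exists_part a hkbE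
  have hfixpart : ∀ a, ∀ x ∈ Bb, x * kp a * x⁻¹ = kp a := by
    intro a x hx
    obtain ⟨F', _, _, n, e, ψ, hn, hcard, hch', -, -, -, -, hoffs⟩ := hSL a
    haveI := hch'
    have h2F : (2 : F') ≠ 0 := by
      subst hp3
      intro e2
      have h3 : ((2 : ℕ) : F') = 0 := by exact_mod_cast e2
      rw [CharP.cast_eq_zero_iff F' 3] at h3
      norm_num at h3
    set N := (Cb.subgroupOf (Ê a)).map e.toMonoidHom with hN
    haveI : N.Normal := Subgroup.Normal.map inferInstance _ e.surjective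
    have hNscal : ∀ g ∈ N, IsScal g := (scalar_or_sup_top N).resolve_right fun htop => by
      have hEM : Ê a ≤ Mb := by
        intro g hg
        obtain ⟨w, hw, v, hv, hwv⟩ := Subgroup.mem_sup_of_normal_left.1 (htop.ge (Subgroup.mem_top (e ⟨g, hg⟩)))
        obtain ⟨w', hw', rfl⟩ := hw
        have hg' : (⟨g, hg⟩ : ↥(Ê a)) = w' * e.symm v := e.injective (by rw [map_mul, MulEquiv.apply_symm_apply]; exact hwv.symm)
        rw [show g = (w' : G ⧸ ρ.ker) * (e.symm v : G ⧸ ρ.ker) from congrArg Subtype.val hg']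
        refine mul_mem (Subgroup.map_mono c.cV_le_M hw') (hover.le_M ?_)
        exact (offs_le ((hoffs (e.symm v)).2 (by rwa [MulEquiv.apply_symm_apply]))).1
      refine hover.M_ne (top_le_iff.1 (L'.sup.ge.trans (sup_le (iSup_le fun a' => ?_) hover.le_M)))
      obtain ⟨t, ht, hta⟩ := L'.trans a a'
      rw [← hta]
      rintro _ ⟨g, hg, rfl⟩
      exact Mb.mul_mem (Mb.mul_mem (hover.le_M ht) (hEM hg)) (Mb.inv_mem (hover.le_M ht))
    have hks : IsScal (e ⟨kp a, (hkp a).1⟩) := by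
      refine scal_of_comm_scal h2F fun w => hNscal _ ?_
      refine ⟨⟨kp a, (hkp a).1⟩ * e.symm w * ⟨kp a, (hkp a).1⟩⁻¹ * (e.symm w)⁻¹, ?_, by simp⟩
      show kp a * (e.symm w : G ⧸ ρ.ker) * (kp a)⁻¹ * (e.symm w : G ⧸ ρ.ker)⁻¹ ∈ Cb
      rw [← L'.conj_part hkbE (hkp a) (e.symm w).2, mul_assoc _ kb⁻¹, mul_assoc kb,
        ← mul_assoc (e.symm w : G ⧸ ρ.ker) kb⁻¹]
      exact mul_mem hkbC (‹Cb.Normal›.conj_mem _ (inv_mem hkbC) _)
    have hmem : x * kp a * x⁻¹ ∈ Ê a := hnormB x hx a ▸ conj_mem_cm (hkp a).1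
    rcases hks.eq with h1 | h1
    · have : kp a = 1 := congrArg Subtype.val (e.injective (h1.trans (map_one e).symm))
      rw [this, mul_one, mul_inv_cancel]
    · have hsq : e ⟨_, hmem⟩ * e ⟨_, hmem⟩ = 1 := by
        rw [← map_mul]
        refine (congrArg e (Subtype.ext ?_)).trans (map_one e)
        show x * kp a * x⁻¹ * (x * kp a * x⁻¹) = 1
        have h3 : kp a * kp a = 1 := congrArg Subtype.val (e.injective (a₁ := ⟨kp a, (hkp a).1⟩ * ⟨kp a, (hkp a).1⟩)
          (a₂ := 1) (by rw [map_mul, map_one, h1, neg_mul_neg, one_mul]))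
        rw [show x * kp a * x⁻¹ * (x * kp a * x⁻¹) = x * (kp a * kp a) * x⁻¹ by group, h3, mul_one, mul_inv_cancel]
      rcases (sq_one_scal h2F hsq).eq with h3 | h3
      · exfalso
        have h4 : x * kp a * x⁻¹ = 1 := congrArg Subtype.val (e.injective (h3.trans (map_one e).symm))
        rw [conj_eq_one_iff] at h4
        have h5 : e ⟨kp a, (hkp a).1⟩ = 1 := (congrArg e (Subtype.ext h4)).trans (map_one e)
        rw [h1] at h5
        have h6 := congrFun (congrFun (congrArg Subtype.val h5) 0) 0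
        simp at h6
        exact h2F (by linear_combination -h6)
      · exact congrArg Subtype.val (e.injective (h3.trans h1.symm))
  have hbB : mk b ∈ Bb := Subgroup.mem_map_of_mem _ hb
  have hcomm : mk b * kb * (mk b)⁻¹ = kb := by
    refine L'.eq_of_parts (L'.normal.conj_mem _ hkbE _) hkbE fun a => ⟨kp a, ?_, hkp a⟩
    have := L'.part_conj (hnormB _ hbB a) (hkp a)
    rwa [hfixpart a _ hbB] at this
  rw [← hmk1, map_mul, map_mul, map_mul, map_inv, map_inv, ← mul_inv_eq_iff_eq_mul.1 hcomm,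
    mul_inv_cancel_right, mul_inv_cancel]

end Ctx

end CfsgLib.BlockPush
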