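import Cfsg.Agent.Lib.BlockPush.CoreFactor

/-!
`C_G(V) = O_p(G)`.
-/

set_option autoImplicit false
set_option linter.unusedSectionVars false
set_option linter.style.haveILetI false

namespace CfsgLib.BlockPush

open Cfsg CfsgLib CfsgLib.RootCommute CfsgLib.RootBlocks Matrix
open CfsgLib.SL2Pair (fix)
open CfsgLib.StrongFusion (cm cm_cm cm_one cm_inv_cm cm_mono card_cm conj_mem_cm)
open scoped commutatorElement Pointwise

universe u

variable {G : Type u} [Group G] [Finite G] {p : ℕ} [hp : Fact p.Prime]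

attribute [local instance] commGroupOf

namespace Ctx

variable {T : Sylow p G} {M : Subgroup G} (c : Ctx T M)
include c
variable {r : ℕ} {E : Fin r → Subgroup (G ⧸ cV p G)}
  (L : Layout (qAct p G) (T.mapSurjective qC_surjective) (M.map (qC p G)) E)
include L

/-- The region of a linear component contains it. -/
theorem comp_le_region {i : Fin r} {H : Subgroup G} {R : Subgroup (G ⧸ cV p G)} {S : Sylow p ↥H}
    (hl : Local T E i H R S) (hsl : IsSLKind (qAct p G) (T.mapSurjective qC_surjective) (E i)) : E i ≤ R := by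
  classical
  set Tb : Sylow p (G ⧸ cV p G) := T.mapSurjective qC_surjective
  set J := offs (qAct p G) Tb ⊤ with hJ
  obtain ⟨F, _, _, n, e, ψ, -, -, -, -, -, -, -, hoffs⟩ := hsl
  -- some element of the region moves `J`
  obtain ⟨g, hg, hgJ⟩ : ∃ g ∈ R, g ∉ Subgroup.normalizer (J : Set (G ⧸ cV p G)) := by
    by_contra hno
    push Not at hno
    have htop : R ⊔ (Tb : Subgroup (G ⧸ cV p G)) = ⊤ := by
      rw [← hl.supp.map_eq, show (Tb : Subgroup (G ⧸ cV p G)) = (T : Subgroup G).map (qC p G) from rfl,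
        ← Subgroup.map_sup, hl.supp.sup_T, Subgroup.map_top_of_surjective _ qC_surjective]
    have hn : J.Normal := Subgroup.normalizer_eq_top_iff.1
      (top_le_iff.1 (htop.ge.trans (sup_le hno L.offs_norm)))
    obtain ⟨B, hB, he, hne, hmu⟩ := L.exists_offender i
    have h0 := L.base.no_core J hn (Tb.2.to_le (offs_le.trans inf_le_left))
    exact hne (le_bot_iff.1 (((le_offs (hB.trans (inf_le_inf_left _ le_top)) he hmu)).trans h0.le))
  have hgE := hl.le_all hg
  obtain ⟨a, ha⟩ := L.exists_part i hgE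
  have haR : a ∈ R := by
    obtain ⟨h, hh, hhE, hhp⟩ := L.exists_glue (fun j => if j = i then 1 else (L.partHom j ⟨g, hgE⟩ : G ⧸ cV p G))
      (fun j => by split_ifs; exacts [one_mem _, (L.partHom j ⟨g, hgE⟩).2]) (H := J) (fun j => by
        split_ifs with h
        · exact one_mem _
        · exact L.offs_le_top j (hl.part _ hg _ j h (L.isPart_partHom j _)))
    have e : g * h⁻¹ = a := by
      refine L.eq_of_parts (mul_mem hgE (inv_mem hhE)) (le_iSup E i ha.1) fun j => ?_
      by_cases hji : j = i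
      · subst hji
        have h1 := L.part_mul hgE ha (L.part_inv hhE (hhp j))
        rw [if_pos rfl, inv_one, mul_one] at h1
        exact ⟨a, h1, L.part_self ha.1⟩
      · refine ⟨1, ?_, L.part_other (Ne.symm hji) ha.1⟩
        have h1 := L.part_mul hgE (L.isPart_partHom j ⟨g, hgE⟩) (L.part_inv hhE (hhp j))
        rwa [if_neg hji, mul_inv_cancel] at h1
    exact e ▸ mul_mem hg (inv_mem (hl.offs_le hh))
  set N := (R.subgroupOf (E i)).map e.toMonoidHom with hN
  have hU : uGrp ≤ N := fun u hu => ⟨e.symm u,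
    hl.offs_le (L.offs_le_top i ((hoffs _).2 (by rwa [MulEquiv.apply_symm_apply]))), by simp⟩
  rcases upper_or_top hU with hup | htop
  · exfalso
    refine hgJ (ZJFailure.mem_normalizer_of_forall fun x hx => ?_)
    have hxE := (L.offs_top_le hx).2
    refine L.mem_offs_of_parts (L.normal.conj_mem x hxE g) fun j => ?_
    have hb := L.part_offs hx (L.isPart_partHom j ⟨x, hxE⟩)
    have hpart : IsPart (qAct p G) (E j) (g * x * g⁻¹)
        ((L.partHom j ⟨g, hgE⟩ : G ⧸ cV p G) * L.partHom j ⟨x, hxE⟩ * (L.partHom j ⟨g, hgE⟩ : G ⧸ cV p G)⁻¹) :=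
      L.part_mul (mul_mem hgE hxE) (L.part_mul hgE (L.isPart_partHom j _) (L.isPart_partHom j _))
        (L.part_inv hgE (L.isPart_partHom j _))
    rw [L.partHom_eq _ hpart]
    by_cases hji : j = i
    · subst hji
      rw [show (L.partHom j ⟨g, hgE⟩ : G ⧸ cV p G) = a from L.partHom_eq hgE ha]
      have hbE := (offs_le hb).2
      refine (hoffs (⟨a, ha.1⟩ * ⟨_, hbE⟩ * ⟨a, ha.1⟩⁻¹)).2 ?_
      rw [map_mul, map_mul, map_inv]
      exact (Subgroup.mem_normalizer_iff.1 (normalizer_uGrp (hup _ ⟨⟨a, ha.1⟩, haR, rfl⟩)) _).1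
        ((hoffs ⟨_, hbE⟩).1 hb)
    · have hb' := hl.part _ hg _ j hji (L.isPart_partHom j ⟨g, hgE⟩)
      exact mul_mem (mul_mem hb' hb) (inv_mem hb')
  · intro x hx
    obtain ⟨y, hy, hye⟩ := htop.ge (Subgroup.mem_top (e ⟨x, hx⟩))
    have e' : (y : G ⧸ cV p G) = x := congrArg Subtype.val (e.injective hye)
    rw [← e']; exact hy

/-- The elements of order prime to `p` of `C_G(V)` and `O_p(G)` generate it. -/
theorem cV_le {S : Subgroup G} (hQ : pCore p G ≤ S) (h : ∀ k ∈ cV p G, (orderOf k).Coprime p → k ∈ S) :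
    cV p G ≤ S := by
  obtain ⟨P⟩ : Nonempty (Sylow p ↥(cV p G)) := inferInstance
  haveI := PResidual.pResidual_normal (G := ↥(cV p G)) (p := p)
  intro k hk
  obtain ⟨s, hs, w, hw, e⟩ := Subgroup.mem_sup_of_normal_right.1
    ((PResidual.pResidual_sup_sylow P).ge (Subgroup.mem_top (⟨k, hk⟩ : ↥(cV p G))))
  rw [show k = (s : G) * (w : G) from (congrArg Subtype.val e).symm]
  exact mul_mem (hQ (c.pgroup_le_core (P.2.map _) (Subgroup.map_subtype_le _) ⟨s, hs, rfl⟩))
    ((BBlock.pResidualOf_le h : pResidualOf p (cV p G) ≤ S) ⟨w, hw, rfl⟩)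

/-- In the long configuration the commutators of `C_G(V)` with `B(T)` lie in `O_p(G)`. -/
theorem comm_cV_tB (h : ∀ i, TwoAt T E i) {k b : G} (hk : k ∈ cV p G) (hkc : (orderOf k).Coprime p)
    (hb : b ∈ tB T) : k * b * k⁻¹ * b⁻¹ ∈ pCore p G := by
  haveI := c.qZero_normal L
  set y := k * b * k⁻¹ * b⁻¹ with hy
  have hyC : y ∈ cV p G := by
    rw [hy, show k * b * k⁻¹ * b⁻¹ = k * (b * k⁻¹ * b⁻¹) by group]
    exact mul_mem hk ((cV_normal (p := p) (G := G)).conj_mem _ (inv_mem hk) b)
  obtain ⟨n, hn⟩ := PResidual.exists_pow_coprime (p := p) y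
  set w := y ^ p ^ n with hw
  have hchain : ∀ m, ∀ U : Subgroup G, U.Normal → xQ T ≤ U → U ≤ qZero T → Nat.card U ≤ m →
      ∀ u ∈ U, w * u * w⁻¹ * u⁻¹ ∈ xQ T := by
    intro m
    induction m with
    | zero =>
      intro U _ _ _ hU
      exact absurd (Nat.card_pos (α := U)) (by omega)
    | succ m ih =>
      intro U hUn hXU hU0 hcard u hu
      haveI := hUn
      by_cases e : U ≤ xQ T
      · exact mul_mem ((xQ_normal T).conj_mem u (e hu) w) (inv_mem (e hu))
      obtain ⟨V, hXV, hUV⟩ := KInf.exists_chief_between (lt_of_le_of_ne hXU fun h => e h.ge)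
      set d := w * u * w⁻¹ * u⁻¹ with hd
      have hyfix := c.factor_fix L h hUV hXV hU0 hk hkc hb
      have hdV : d ∈ V := by
        haveI := hUV.2.2.1
        exact (pow_mem (show y ∈ PushUp.actKer U V from hyfix) (p ^ n) : w ∈ PushUp.actKer U V) u hu
      have h1 := ih V hUV.2.2.1 hXV (hUV.1.le.trans hU0)
        (by
          have h3 : Nat.card V < Nat.card U := by
            by_contra hle
            exact hUV.1.ne (Subgroup.eq_of_le_of_card_ge hUV.1.le (not_lt.1 hle))
          omega) d hdV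
      refine PushUp.push_down (q := u) hn (show w * u * w⁻¹ = d * u by rw [hd]; group) ?_ h1
      obtain ⟨j, hj⟩ := isPGroup_pCore (G := G) p ⟨d, (hU0 (hUV.1.le hdV)).1⟩
      exact ⟨j, by rw [show d ^ p ^ j = 1 from congrArg Subtype.val hj]; exact one_mem _⟩
  have hwC : w ∈ cV p G := pow_mem hyC _
  have hwQ : ∀ q ∈ pCore p G, w * q * w⁻¹ * q⁻¹ ∈ xQ T := fun q hq => by
    set d := w * q * w⁻¹ * q⁻¹ with hd
    have hdQ0 : d ∈ qZero T := by
      have := inv_mem (c.core_gZero L hq (Subgroup.mem_sup_left (c.mem_jG_of_coprime L hn) : w ∈ gZero T))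
      rwa [show (q * w * q⁻¹ * w⁻¹)⁻¹ = d by rw [hd]; group] at this
    have hXQ0 : xQ T ≤ qZero T := by
      rw [c.qZero_eq L]
      exact le_inf (c.xQ_le_core L) fun x hx => Subgroup.mem_centralizer_iff.2 fun z hz => (c.xQ_comm L hz hx).1
    obtain ⟨j, hj⟩ := isPGroup_pCore (G := G) p ⟨d, hdQ0.1⟩
    exact PushUp.push_down (q := q) hn (show w * q * w⁻¹ = d * q by rw [hd]; group)
      ⟨j, by rw [show d ^ p ^ j = 1 from congrArg Subtype.val hj]; exact one_mem _⟩
      (hchain _ _ (c.qZero_normal L) hXQ0 le_rfl le_rfl d hdQ0)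
  have hw1 := c.coprime_eq_one L hn hwC hwQ
  refine c.pgroup_le_core (X := Subgroup.zpowers y) ?_ (Subgroup.zpowers_le.2 hyC) (Subgroup.mem_zpowers y)
  obtain ⟨i, -, hi⟩ := (Nat.dvd_prime_pow hp.out).1 (orderOf_dvd_of_pow_eq_one hw1)
  exact IsPGroup.of_card (n := i) (by rw [Nat.card_zpowers, hi])

/-- In the long configuration `C_G(V)` is centralized modulo `O_p(G)` by `J(G) C_Q(Z)`. -/
theorem comm_cV_gZero (h : ∀ i, TwoAt T E i) {k g : G} (hk : k ∈ cV p G) (hg : g ∈ gZero T) :
    QuotientGroup.mk' (pCore p G) k * QuotientGroup.mk' (pCore p G) g =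
      QuotientGroup.mk' (pCore p G) g * QuotientGroup.mk' (pCore p G) k := by
  set π := QuotientGroup.mk' (pCore p G) with hπ
  haveI : ((cV p G).map π).Normal := (cV_normal (p := p) (G := G)).map π (QuotientGroup.mk'_surjective _)
  set Z := (Subgroup.centralizer ((cV p G).map π : Set (G ⧸ pCore p G))).comap π with hZ
  have hB : tB T ≤ Z := fun b hb => Subgroup.mem_centralizer_iff.2 (by
    rintro _ ⟨x, hx, rfl⟩
    have hle : cV p G ≤ (Subgroup.centralizer {π b}).comap π := by
      refine c.cV_le L (fun q hq => ?_) fun y hy hyc => ?_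
      · refine Subgroup.mem_centralizer_singleton_iff.2 ?_
        rw [show π q = 1 from (QuotientGroup.eq_one_iff q).2 hq, one_mul, mul_one]
      · refine Subgroup.mem_centralizer_singleton_iff.2 ?_
        have h1 : π (y * b * y⁻¹ * b⁻¹) = 1 := (QuotientGroup.eq_one_iff _).2 (c.comm_cV_tB L h hy hyc hb)
        rwa [map_mul, map_mul, map_mul, map_inv, map_inv, mul_inv_eq_one, mul_inv_eq_iff_eq_mul] at h1
    exact Subgroup.mem_centralizer_singleton_iff.1 (hle hx))
  haveI : Z.Normal := by rw [hZ]; infer_instance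
  have hle : gZero T ≤ Z := by
    refine sup_le (sSup_le fun A hA a ha => ?_) (inf_le_right.trans hB)
    obtain ⟨x, hx, hxA⟩ := exists_conj_max T hA
    have h1 : x * a * x⁻¹ ∈ Z := hB (tJ_le_tB T (le_tJ (A := cm x A) ⟨hxA, hx⟩ (conj_mem_cm ha)))
    have := ‹Z.Normal›.conj_mem _ h1 x⁻¹
    rwa [inv_inv, show x⁻¹ * (x * a * x⁻¹) * x = a by group] at this
  exact Subgroup.mem_centralizer_iff.1 (hle hg) _ (Subgroup.mem_map_of_mem π hk)

/-- **`C_G(V) = O_p(G)`.** -/
theorem cV_eq_core : cV p G = pCore p G := by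
  classical
  rcases c.quiet_or_two L with hQ | h
  · exact c.eq_core_of_coprime L fun k hk hkc =>
      c.coprime_eq_one L hkc hk fun q hq => vQ_le_xQ T (hQ k hkc q hq)
  refine le_antisymm ?_ core_le_cV
  obtain ⟨r', E', hr', L'⟩ := c.exists_components
  rcases Nat.eq_zero_or_pos r with hr | hr
  · subst hr
    have h1 := L.sup
    rw [iSup_of_empty, bot_sup_eq] at h1
    exact absurd (top_le_iff.1 (h1 ▸ L'.base.le_M)) L'.base.M_ne
  have hp3 : p = 3 := c.p_eq_three L h ⟨0, hr⟩
  have hsl : ∀ i, IsSLKind (qAct p G) (T.mapSurjective qC_surjective) (E i) := fun i =>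
    (L.kind i).resolve_right fun hP => by
      obtain ⟨n, e, ψ, μ, h2', -⟩ := hP
      omega
  set Q := pCore p G with hQdef
  set π := QuotientGroup.mk' Q with hπ
  haveI := c.gZero_normal L
  let K : Fin r → Subgroup G := fun i => gZero T ⊓ (E i).comap (qC p G)
  let D : Fin r → Subgroup G := fun i => ⁅K i, K i⁆ ⊔ Q
  have hKn : ∀ g : G, ∀ i, ∃ j, ∀ x ∈ K i, g * x * g⁻¹ ∈ K j := fun g i => by
    obtain ⟨j, hj⟩ := L.perm_eq (qC p G g) i
    refine ⟨j, fun x hx => Subgroup.mem_inf.2 ⟨(c.gZero_normal L).conj_mem x hx.1 g, ?_⟩⟩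
    rw [Subgroup.mem_comap, map_mul, map_mul, map_inv, ← hj]
    exact conj_mem_cm hx.2
  haveI hDn : (⨆ i, D i).Normal := by
    refine Subgroup.normalizer_eq_top_iff.1 (eq_top_iff.2 fun g _ => ZJFailure.mem_normalizer_of_forall fun x hx => ?_)
    have hle : (⨆ i, D i) ≤ (⨆ i, D i).comap (MulAut.conj g).toMonoidHom := iSup_le fun i => by
      obtain ⟨j, hj⟩ := hKn g i
      refine sup_le (Subgroup.commutator_le.2 fun a ha b hb => ?_) fun q hq => ?_
      · rw [Subgroup.mem_comap, MulEquiv.coe_toMonoidHom, MulAut.conj_apply, conjugate_commutatorElement]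
        exact le_iSup D j (Subgroup.mem_sup_left (Subgroup.commutator_mem_commutator (hj a ha) (hj b hb)))
      · exact le_iSup D j (Subgroup.mem_sup_right ((inferInstance : Q.Normal).conj_mem q hq g))
    exact hle hx
  have hlocal : ∀ i, ∃ (H : Subgroup G) (R : Subgroup (G ⧸ cV p G)) (S : Sylow p ↥H), Local T E i H R S ∧
      H ⊓ cV p G ≤ Q := fun i => by
    obtain ⟨H, R, S, hl, F, iF, iF', hch, f, T', X, Y, A, C, D', h2, hco⟩ := h i
    refine ⟨H, R, S, hl, c.pgroup_le_core (fun x => ?_) inf_le_right⟩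
    obtain ⟨n, hn⟩ := PResidual.exists_pow_coprime (p := p) (x : G)
    have hs := hl.supp.setting
    have hd := hl.supp.noChar.mild hs
    obtain ⟨ρ, φ, hsect, hρ, hρS, hρT, -⟩ := PushUp.exists_sect_vmod hs hd h2.opp h2.conj hco
    obtain ⟨ρ', φ', hsect', -, hρS', hρT', -⟩ := h2.toTwo.exists_sect_core hs hd hco
    obtain rfl := h2.toTwo.rho_eq hs hd hco hρS hρT hρS' hρT'
    have hker := h2.toTwo.exists_kernel hs hd hco hsect hsect' hρS
    set w : ↥H := ⟨(x : G) ^ p ^ n, pow_mem x.2.1 _⟩ with hw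
    have hw1 : ρ w = 1 := PushUp.sl_eq_of_mulVec fun v => by
      obtain ⟨y, hy, rfl⟩ := hsect.onto v
      have e : w * y * w⁻¹ = y :=
        Subtype.ext (c.coprime_fix_xQ L hn (pow_mem x.2.2 _) (c.vmod_le_xQ L hl hy))
      rw [← hsect.equiv w y hy, e, Matrix.SpecialLinearGroup.coe_one, Matrix.one_mulVec]
    have hwO : w ∈ pCore p ↥H := hker ▸ MonoidHom.mem_ker.2 hw1
    obtain ⟨j, hj⟩ := isPGroup_pCore (G := ↥H) p ⟨w, hwO⟩
    have hj' : ((x : G) ^ p ^ n) ^ p ^ j = 1 := congrArg (fun y : ↥(pCore p ↥H) => ((y : ↥H) : G)) hj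
    exact ⟨n + j, Subtype.ext (by rw [SubmonoidClass.coe_pow, pow_add, pow_mul]; exact hj')⟩
  have hDC : ∀ i, D i ⊓ cV p G ≤ Q := fun i => by
    obtain ⟨H, R, S, hl, hHC⟩ := hlocal i
    have hER := c.comp_le_region L hl (hsl i)
    have hle : D i ≤ ⁅H ⊓ (E i).comap (qC p G), H ⊓ (E i).comap (qC p G)⁆ ⊔ Q := by
      refine sup_le (Subgroup.commutator_le.2 fun a ha b hb => ?_) le_sup_right
      have lift : ∀ a ∈ K i, ∃ l ∈ H ⊓ (E i).comap (qC p G), ∃ z ∈ cV p G ⊓ gZero T, a = l * z := fun a ha => by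
        obtain ⟨l, hl', hle⟩ := hl.supp.map_eq.ge (hER ha.2)
        refine ⟨l, Subgroup.mem_inf.2 ⟨hl', by rw [Subgroup.mem_comap, hle]; exact ha.2⟩, l⁻¹ * a,
          Subgroup.mem_inf.2 ⟨by rw [← qC_eq_one, map_mul, map_inv, hle, inv_mul_cancel],
            mul_mem (inv_mem (hl.supp.le_gZero hl')) ha.1⟩, by group⟩
      obtain ⟨l, hl1, z, hz, rfl⟩ := lift a ha
      obtain ⟨l', hl2, z', hz', rfl⟩ := lift b hb
      have key : ∀ {z : G}, z ∈ cV p G → ∀ {g : G}, g ∈ gZero T → Commute (π z) (π g) :=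
        fun hz g hg => c.comm_cV_gZero L h hz hg
      have e : π ⁅l * z, l' * z'⁆ = π ⁅l, l'⁆ := by
        rw [map_commutatorElement, map_commutatorElement, map_mul, map_mul]
        have h1 := key hz.1 (hl.supp.le_gZero hl1.1)
        have h2' := key hz.1 (hl.supp.le_gZero hl2.1)
        have h3 := key hz'.1 (hl.supp.le_gZero hl1.1)
        have h4 := key hz.1 hz'.2
        simp only [commutatorElement_def]
        calc π l * π z * (π l' * π z') * (π l * π z)⁻¹ * (π l' * π z')⁻¹
            = π l * (π z * (π l' * π z') * (π z)⁻¹) * (π l)⁻¹ * (π z')⁻¹ * (π l')⁻¹ := by group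
          _ = π l * π l' * (π z' * (π l)⁻¹) * (π z')⁻¹ * (π l')⁻¹ := by
              rw [(h2'.mul_right h4).eq, mul_inv_cancel_right]; group
          _ = _ := by rw [h3.inv_right.eq]; group
      rw [show ⁅l * z, l' * z'⁆ = ⁅l, l'⁆ * (⁅l, l'⁆⁻¹ * ⁅l * z, l' * z'⁆) by group]
      refine mul_mem (Subgroup.mem_sup_left (Subgroup.commutator_mem_commutator hl1 hl2))
        (Subgroup.mem_sup_right ((QuotientGroup.eq_one_iff (N := Q) _).1 ?_))
      show π _ = 1
      rw [map_mul, map_inv, e, inv_mul_cancel]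
    intro d hd
    obtain ⟨x, hx, q, hq, rfl⟩ := Subgroup.mem_sup_of_normal_right.1 (hle hd.1)
    refine mul_mem (hHC (Subgroup.mem_inf.2 ⟨(Subgroup.commutator_le.2 fun a ha b hb => by
      rw [commutatorElement_def]; exact mul_mem (mul_mem (mul_mem ha.1 hb.1) (inv_mem ha.1)) (inv_mem hb.1) :
        ⁅H ⊓ (E i).comap (qC p G), H ⊓ (E i).comap (qC p G)⁆ ≤ H) hx, ?_⟩)) hq
    have := (cV p G).mul_mem hd.2 ((cV p G).inv_mem (core_le_cV hq))
    rwa [mul_inv_cancel_right] at this
  have hDcomm : ∀ i j, i ≠ j → ∀ x ∈ D i, ∀ y ∈ D j, π x * π y = π y * π x := by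
    intro i j hij
    have hK : ∀ x ∈ K i, ∀ y ∈ K j, ∀ g ∈ gZero T, Commute (π ⁅x, y⁆) (π g) := fun x hx y hy g hg => by
      refine c.comm_cV_gZero L h ?_ hg
      rw [← qC_eq_one, map_commutatorElement, commutatorElement_eq_one_iff_mul_comm]
      exact L.comm i j hij _ hx.2 _ hy.2
    have hone : ∀ y ∈ K j, D i ≤ (Subgroup.centralizer {π y}).comap π := fun y hy => by
      refine sup_le (Subgroup.commutator_le.2 fun a ha b hb => ?_) fun q hq => ?_
      · refine Subgroup.mem_centralizer_singleton_iff.2 ?_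
        have hca : ∀ g ∈ gZero T, Commute ⁅π a, π y⁆ (π g) := fun g hg =>
          map_commutatorElement π a y ▸ hK a ha y hy g hg
        have hcb : ∀ g ∈ gZero T, Commute ⁅π b, π y⁆ (π g) := fun g hg =>
          map_commutatorElement π b y ▸ hK b hb y hy g hg
        set α := ⁅π a, π y⁆ with hα
        set β := ⁅π b, π y⁆ with hβ
        have ea : π y * π a * (π y)⁻¹ = α⁻¹ * π a := by rw [hα, commutatorElement_def]; group
        have eb : π y * π b * (π y)⁻¹ = β⁻¹ * π b := by rw [hβ, commutatorElement_def]; group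
        have hab : Commute α β := by
          have := hca ⁅b, y⁆ (mul_mem (mul_mem (mul_mem hb.1 hy.1) (inv_mem hb.1)) (inv_mem hy.1))
          rwa [map_commutatorElement] at this
        have h1 : π y * π ⁅a, b⁆ * (π y)⁻¹ = π ⁅a, b⁆ := by
          rw [map_commutatorElement, conjugate_commutatorElement, ea, eb]
          simp only [commutatorElement_def, _root_.mul_inv_rev]
          rw [inv_inv, inv_inv]
          calc α⁻¹ * π a * (β⁻¹ * π b) * ((π a)⁻¹ * α) * ((π b)⁻¹ * β)
              = α⁻¹ * (π a * β⁻¹) * (π b * (π a)⁻¹ * α * (π b)⁻¹) * β := by group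
            _ = α⁻¹ * (β⁻¹ * π a) * (π b * (π a)⁻¹ * (π b)⁻¹ * α) * β := by
                rw [(hcb a ha.1).inv_left.symm.eq, mul_assoc (π b * (π a)⁻¹) α, ((hca b hb.1).inv_right).eq,
                  ← mul_assoc (π b * (π a)⁻¹)]
            _ = α⁻¹ * β⁻¹ * (π a * π b * (π a)⁻¹ * (π b)⁻¹) * (α * β) := by group
            _ = π a * π b * (π a)⁻¹ * (π b)⁻¹ := by
                have hc1 : Commute α (π a * π b * (π a)⁻¹ * (π b)⁻¹) :=
                  (((hca a ha.1).mul_right (hca b hb.1)).mul_right (hca a ha.1).inv_right).mul_right (hca b hb.1).inv_right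
                have hc2 : Commute β (π a * π b * (π a)⁻¹ * (π b)⁻¹) :=
                  (((hcb a ha.1).mul_right (hcb b hb.1)).mul_right (hcb a ha.1).inv_right).mul_right (hcb b hb.1).inv_right
                rw [mul_assoc, ← (hc1.mul_left hc2).eq, ← mul_assoc, ← mul_assoc, ← _root_.mul_inv_rev, ← hab.eq]
                group
        exact (mul_inv_eq_iff_eq_mul.1 h1).symm
      · refine Subgroup.mem_centralizer_singleton_iff.2 ?_
        rw [show π q = 1 from (QuotientGroup.eq_one_iff q).2 hq, one_mul, mul_one]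
    intro x hx y hy
    have hle : D j ≤ (Subgroup.centralizer {π x}).comap π := by
      refine sup_le (Subgroup.commutator_le.2 fun a ha b hb => ?_) fun q hq => ?_
      · have hh : ∀ z ∈ K j, π z * π x = π x * π z := fun z hz =>
          (Subgroup.mem_centralizer_singleton_iff.1 (hone z hz hx)).symm
        refine (Subgroup.centralizer {π x}).comap π |>.mul_mem ?_ ?_
        · refine mul_mem (mul_mem (Subgroup.mem_centralizer_singleton_iff.2 (hh a ha))
            (Subgroup.mem_centralizer_singleton_iff.2 (hh b hb))) (inv_mem (Subgroup.mem_centralizer_singleton_iff.2 (hh a ha)))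
        · exact inv_mem (Subgroup.mem_centralizer_singleton_iff.2 (hh b hb))
      · refine Subgroup.mem_centralizer_singleton_iff.2 ?_
        rw [show π q = 1 from (QuotientGroup.eq_one_iff q).2 hq, one_mul, mul_one]
    exact (Subgroup.mem_centralizer_singleton_iff.1 (hle hy)).symm
  -- the elements of order prime to `p`
  have hres : ∀ k : G, (orderOf k).Coprime p → k ∈ ⨆ i, D i := by
    have htop : (T : Subgroup G) ⊔ (⨆ i, D i) = ⊤ := by
      obtain ⟨H, R, S, hl, hHC⟩ := hlocal ⟨0, hr⟩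
      have hER := c.comp_le_region L hl (hsl ⟨0, hr⟩)
      set i : Fin r := ⟨0, hr⟩
      have hH : pResidualOf p H ≤ D i := BBlock.pResidualOf_le fun g hg hgc => by
        obtain ⟨F, _, _, n, e, ψ, hn, hcard, hch, -⟩ := hsl i
        haveI := hch
        have hgE := c.coprime_image L hl hg hgc
        have hd : e ⟨qC p G g, hgE⟩ ∈ commutator (Matrix.SpecialLinearGroup (Fin 2) F) :=
          coprime_mem_derived p (by rw [MulEquiv.orderOf_eq, Subgroup.orderOf_mk]; exact hgc.coprime_dvd_left (orderOf_map_dvd _ g))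
        rw [commutator_def, ← Subgroup.map_top_of_surjective e.toMonoidHom e.surjective, ← Subgroup.map_commutator] at hd
        obtain ⟨x, hx, hxe⟩ := hd
        have hxg : (x : G ⧸ cV p G) = qC p G g := congrArg Subtype.val (e.injective hxe)
        have h2 : qC p G g ∈ (⁅H ⊓ (E i).comap (qC p G), H ⊓ (E i).comap (qC p G)⁆).map (qC p G) := by
          rw [Subgroup.map_commutator, ← hxg]
          have h3 : E i ≤ (H ⊓ (E i).comap (qC p G)).map (qC p G) := fun z hz => by
            obtain ⟨l, hl', hle⟩ := hl.supp.map_eq.ge (hER hz)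
            exact ⟨l, Subgroup.mem_inf.2 ⟨hl', by rw [Subgroup.mem_comap, hle]; exact hz⟩, hle⟩
          refine Subgroup.commutator_mono h3 h3 ?_
          have h4 := Subgroup.mem_map_of_mem (E i).subtype hx
          rwa [Subgroup.map_commutator, ← MonoidHom.range_eq_map, Subgroup.range_subtype] at h4
        obtain ⟨l, hl', hle⟩ := h2
        have hlH : l ∈ H := (Subgroup.commutator_le.2 fun a ha b hb => by
          rw [commutatorElement_def]; exact mul_mem (mul_mem (mul_mem ha.1 hb.1) (inv_mem ha.1)) (inv_mem hb.1) :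
            ⁅H ⊓ (E i).comap (qC p G), H ⊓ (E i).comap (qC p G)⁆ ≤ H) hl'
        rw [show g = l * (l⁻¹ * g) by group]
        refine mul_mem (Subgroup.mem_sup_left (Subgroup.commutator_mono ?_ ?_ hl'))
          (Subgroup.mem_sup_right (hHC (Subgroup.mem_inf.2 ⟨mul_mem (inv_mem hlH) hg,
            by rw [← qC_eq_one, map_mul, map_inv, hle, inv_mul_cancel]⟩)))
        all_goals exact inf_le_inf_right _ hl.supp.le_gZero
      refine top_le_iff.1 (hl.supp.sup_T.ge.trans (sup_le (fun g hg => ?_) le_sup_left))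
      haveI := PResidual.pResidual_normal (G := ↥H) (p := p)
      obtain ⟨s, hs, w, hw, e⟩ := Subgroup.mem_sup_of_normal_right.1
        ((PResidual.pResidual_sup_sylow S).ge (Subgroup.mem_top (⟨g, hg⟩ : ↥H)))
      rw [show g = (s : G) * (w : G) from (congrArg Subtype.val e).symm]
      exact mul_mem (Subgroup.mem_sup_left (tB_le T (hl.supp.sylow.le hs)))
        (Subgroup.mem_sup_right (le_iSup D i (hH ⟨w, hw, rfl⟩)))
    exact fun k hk => PResidual.pResidual_le_of_sup_eq_top T.2 htop (Subgroup.subset_closure hk)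
  refine c.cV_le L le_rfl fun k hk hkc => ?_
  suffices key : ∀ s : Finset (Fin r), ∀ g ∈ (⨆ i ∈ s, D i) ⊔ Q, g ∈ cV p G → g ∈ Q by
    refine key Finset.univ k (Subgroup.mem_sup_left ?_) hk
    simpa using hres k hkc
  intro s
  induction s using Finset.induction_on with
  | empty =>
    intro g hg _
    simpa using hg
  | insert j s hj ih =>
    intro g hg hgC
    rw [Finset.iSup_insert, sup_assoc] at hg
    set rest := (⨆ i ∈ s, D i) ⊔ Q with hrest
    have hnorm : rest ≤ Subgroup.normalizer (D j : Set G) := by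
      refine sup_le (iSup₂_le fun i hi x hx => ?_) fun q hq => Subgroup.le_normalizer (Subgroup.mem_sup_right hq)
      refine ZJFailure.mem_normalizer_of_forall fun y hy => ?_
      have hij : i ≠ j := fun e => hj (e ▸ hi)
      rw [show x * y * x⁻¹ = (x * y * x⁻¹ * y⁻¹) * y by group]
      refine mul_mem (Subgroup.mem_sup_right ((QuotientGroup.eq_one_iff _).1 (show π _ = 1 from ?_))) hy
      rw [map_mul, map_mul, map_mul, map_inv, map_inv, hDcomm i j hij x hx y hy, mul_inv_cancel_right, mul_inv_cancel]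
    rw [← SetLike.mem_coe, sup_comm, Subgroup.coe_mul_of_left_le_normalizer_right _ _ hnorm] at hg
    obtain ⟨x, hx, d, hd, rfl⟩ := hg
    have hxE : qC p G x ∈ ⨆ i, E i := by
      have hle : rest ≤ (⨆ i, E i).comap (qC p G) := by
        refine sup_le (iSup₂_le fun i _ => sup_le (Subgroup.commutator_le.2 fun a ha b hb => ?_) ?_) ?_
        · rw [Subgroup.mem_comap, map_commutatorElement]
          exact mul_mem (mul_mem (mul_mem (le_iSup E i ha.2) (le_iSup E i hb.2)) (inv_mem (le_iSup E i ha.2)))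
            (inv_mem (le_iSup E i hb.2))
        all_goals exact fun q hq => by rw [Subgroup.mem_comap, qC_eq_one.2 (core_le_cV hq)]; exact one_mem _
      exact hle hx
    have hdE : qC p G d ∈ E j := by
      have hle : D j ≤ (E j).comap (qC p G) := sup_le (Subgroup.commutator_le.2 fun a ha b hb => by
        rw [commutatorElement_def]; exact mul_mem (mul_mem (mul_mem ha.2 hb.2) (inv_mem ha.2)) (inv_mem hb.2))
        fun q hq => by rw [Subgroup.mem_comap, qC_eq_one.2 (core_le_cV hq)]; exact one_mem _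
      exact hle hd
    have hxj : L.partHom j ⟨qC p G x, hxE⟩ = 1 := by
      have hle : rest ≤ ((L.partHom j).ker.map (⨆ i, E i).subtype).comap (qC p G) := by
        refine sup_le (iSup₂_le fun i hi => ?_) fun q hq => ?_
        · have hij : i ≠ j := fun e => hj (e ▸ hi)
          refine sup_le (Subgroup.commutator_le.2 fun a ha b hb => ?_) fun q hq => ?_
          · have hm : qC p G ⁅a, b⁆ ∈ E i := by
              rw [map_commutatorElement, commutatorElement_def]
              exact mul_mem (mul_mem (mul_mem ha.2 hb.2) (inv_mem ha.2)) (inv_mem hb.2)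
            exact ⟨⟨_, le_iSup E i hm⟩, L.partHom_other hij hm, rfl⟩
          · rw [Subgroup.mem_comap, qC_eq_one.2 (core_le_cV hq)]; exact one_mem _
        · rw [Subgroup.mem_comap, qC_eq_one.2 (core_le_cV hq)]; exact one_mem _
      obtain ⟨y, hy, hye⟩ := hle hx
      rw [show (⟨qC p G x, hxE⟩ : ↥(⨆ i, E i)) = y from Subtype.ext hye.symm]
      exact hy
    have hprod : (⟨qC p G x, hxE⟩ : ↥(⨆ i, E i)) * ⟨qC p G d, le_iSup E j hdE⟩ = 1 :=
      Subtype.ext (show qC p G x * qC p G d = 1 by rw [← map_mul]; exact qC_eq_one.2 hgC)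
    have hd1 : qC p G d = 1 := by
      have h1 := congrArg (L.partHom j) hprod
      rw [map_mul, hxj, one_mul, map_one] at h1
      rw [← L.partHom_self hdE, h1]; rfl
    have hdQ : d ∈ Q := hDC j (Subgroup.mem_inf.2 ⟨hd, qC_eq_one.1 hd1⟩)
    have hxC : x ∈ cV p G := by
      have := (cV p G).mul_mem hgC ((cV p G).inv_mem (qC_eq_one.1 hd1))
      rwa [mul_inv_cancel_right] at this
    exact mul_mem (ih x hx hxC) hdQ

end Ctx

end CfsgLib.BlockPush
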