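import Cfsg.Agent.Lib.BlockPush.Models
import Cfsg.Agent.Lib.RootBlocks.Generated

/-!
The components on the whole module: parts of their elements and the offenders.
-/

set_option autoImplicit false
set_option linter.unusedSectionVars false
set_option linter.style.haveILetI false

namespace CfsgLib.BlockPush

open CfsgLib CfsgLib.RootCommute CfsgLib.RootBlocks
open CfsgLib.SL2Pair (fix mem_fix)
open CfsgLib.StrongFusion (cm cm_mono cm_cm cm_inv_cm card_cm conj_mem_cm)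

universe u v

variable {P : Type u} [Group P] [Finite P] {W : Type v} [AddCommGroup W] [Finite W] {p : ℕ} [hp : Fact p.Prime]
  {ρ : P →* AddMonoid.End W} {T : Sylow p P} {M : Subgroup P}

/-- The components of the group on its module. -/
structure Layout (ρ : P →* AddMonoid.End W) (T : Sylow p P) (M : Subgroup P) {r : ℕ} (E : Fin r → Subgroup P) :
    Prop where
  base : Over ρ T M
  comm : ∀ i j, i ≠ j → ∀ g ∈ E i, ∀ k ∈ E j, g * k = k * g
  sup : (⨆ i, E i) ⊔ (T : Subgroup P) = ⊤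
  trans : ∀ i j, ∃ t ∈ (T : Subgroup P), cm t (E i) = E j
  sum : fix ρ (⨆ i, E i) ⊔ (⨆ i, img ρ (E i)) = ⊤
  other : ∀ i j, i ≠ j → img ρ (E i) ≤ fix ρ (E j)
  natural : ∀ i, IsNaturalComponent p ρ (E i)
  normal : (⨆ i, E i).Normal
  offender : ∃ A : Subgroup P, A ≤ (T : Subgroup P) ∧ Elem p A ∧ A ≠ ⊥ ∧ Nat.card W ≤ mu ρ A
  gen : ∀ A : Subgroup P, A ≤ (T : Subgroup P) → Elem p A → Nat.card W ≤ mu ρ A → A ≤ ⨆ i, E i
  gen_normal : ∀ K : Subgroup P, K.Normal → (∃ A : Subgroup P, A ≤ K ∧ A ≤ (T : Subgroup P) ∧ Elem p A ∧ A ≠ ⊥ ∧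
    Nat.card W ≤ mu ρ A) → (⨆ i, E i) ≤ K

/-- `a` is the part of `g` in the component `E`. -/
def IsPart (ρ : P →* AddMonoid.End W) (E : Subgroup P) (g a : P) : Prop :=
  a ∈ E ∧ ∀ w, ρ g w - ρ a w ∈ fix ρ E

theorem fix_sup_img {r : ℕ} {E : Fin r → Subgroup P} (hsum : fix ρ (⨆ i, E i) ⊔ (⨆ i, img ρ (E i)) = ⊤)
    (hother : ∀ i j, i ≠ j → img ρ (E i) ≤ fix ρ (E j)) (i : Fin r) : fix ρ (E i) ⊔ img ρ (E i) = ⊤ := by
  refine eq_top_iff.2 (hsum.ge.trans (sup_le ?_ (iSup_le fun j => ?_)))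
  · exact (fix_antitone ρ (le_iSup E i)).trans le_sup_left
  · by_cases h : j = i
    · subst h; exact le_sup_right
    · exact (hother j i h).trans le_sup_left

/-- A component natural on a section is natural on the module, when the section covers it. -/
theorem natural_of_section {E : Subgroup P} (hsum : fix ρ E ⊔ img ρ E = ⊤) (h : IsSectionComponent p ρ E) :
    IsNaturalComponent p ρ E := by
  let g : ↥(fix ρ E) × ↥(img ρ E) →+ W := (fix ρ E).subtype.coprod (img ρ E).subtype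
  have hg : Function.Surjective g := fun w => by
    obtain ⟨a, ha, x, hx, e⟩ := AddSubgroup.mem_sup.1 (hsum.ge (AddSubgroup.mem_top w))
    exact ⟨(⟨a, ha⟩, ⟨x, hx⟩), e⟩
  have key : ∀ {Y : Type} [AddCommGroup Y] (ψ : ↥(img ρ E) →+ Y),
      (∀ x : ↥(img ρ E), ψ x = 0 ↔ (x : W) ∈ fix ρ E) →
      ∃ Ψ : W →+ Y, (∀ x : ↥(img ρ E), Ψ x = ψ x) ∧ (∀ w, Ψ w = 0 ↔ w ∈ fix ρ E) ∧
        (∀ (k : ↥E) w, ∃ x v : ↥(img ρ E), Ψ w = ψ x ∧ Ψ (ρ (k : P) w) = ψ v ∧ (v : W) = ρ (k : P) (x : W)) := by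
    intro Y _ ψ hψ
    let f : ↥(fix ρ E) × ↥(img ρ E) →+ Y := ψ.comp (AddMonoidHom.snd _ _)
    have hker : g.ker ≤ f.ker := fun x hx => by
      refine AddMonoidHom.mem_ker.2 ((hψ x.2).2 ?_)
      rw [show (x.2 : W) = -(x.1 : W) from eq_neg_of_add_eq_zero_right (AddMonoidHom.mem_ker.1 hx)]
      exact neg_mem x.1.2
    let Ψ := g.liftOfSurjective hg ⟨f, hker⟩
    have hΨ : ∀ x, Ψ (g x) = f x := fun x => AddMonoidHom.liftOfRightInverse_comp_apply g _ _ _ x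
    have hfix : ∀ a ∈ fix ρ E, Ψ a = 0 := fun a ha => by
      have h1 := hΨ (⟨a, ha⟩, 0)
      rw [show g (⟨a, ha⟩, 0) = a from add_zero a] at h1
      exact h1.trans (map_zero ψ)
    have himg : ∀ x : ↥(img ρ E), Ψ x = ψ x := fun x => by
      have h1 := hΨ (0, x)
      rwa [show g (0, x) = (x : W) from zero_add (x : W)] at h1
    refine ⟨Ψ, himg, fun w => ⟨fun hw => ?_, hfix w⟩, fun k w => ?_⟩
    · obtain ⟨⟨a, x⟩, rfl⟩ := hg w
      rw [hΨ] at hw
      exact add_mem a.2 ((hψ x).1 hw)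
    · obtain ⟨⟨a, x⟩, rfl⟩ := hg w
      have hv : ρ (k : P) (x : W) ∈ img ρ E := by
        have := add_mem (sub_mem_img ρ k.2 (x : W)) x.2
        rwa [sub_add_cancel] at this
      refine ⟨x, ⟨_, hv⟩, hΨ _, ?_, rfl⟩
      show Ψ (ρ (k : P) ((a : W) + (x : W))) = _
      rw [map_add (ρ (k : P)), a.2 k k.2, map_add, hfix _ a.2, zero_add]
      exact himg ⟨_, hv⟩
  obtain ⟨n, hn, h⟩ := h
  refine ⟨n, hn, ?_⟩
  rcases h with ⟨F, iF, iF', e, ψ, hcard, hs, hk, he⟩ | ⟨hp2, e, ψ, hsum', hs, hk, he⟩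
  · obtain ⟨Ψ, h1, h2, h3⟩ := key ψ hk
    refine Or.inl ⟨F, iF, iF', e, Ψ, hcard, fun y => ?_, h2, fun g w => ?_⟩
    · obtain ⟨x, hx⟩ := hs y; exact ⟨x, (h1 x).trans hx⟩
    · obtain ⟨x, v, hx, hv, hxv⟩ := h3 g w
      rw [hx, hv]; exact he g x v hxv
  · obtain ⟨Ψ, h1, h2, h3⟩ := key ψ hk
    refine Or.inr ⟨hp2, e, Ψ, fun w => ?_, fun y hy => ?_, h2, fun g w i => ?_⟩
    · obtain ⟨x, v, hx, -⟩ := h3 1 w
      rw [hx]; exact hsum' x
    · obtain ⟨x, hx⟩ := hs y hy; exact ⟨x, (h1 x).trans hx⟩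
    · obtain ⟨x, v, hx, hv, hxv⟩ := h3 g w
      rw [hx, hv]; exact he g x v i hxv

/-- **The components exist.** -/
theorem exists_layout (hsp : HasSplit.{u, v} p) (h : Over ρ T M) (hoff : HasOffender ρ T) :
    ∃ (r : ℕ) (E : Fin r → Subgroup P), 1 ≤ r ∧ Layout ρ T M E := by
  obtain ⟨r, E, hr, hc, -, hsup, ht, hsum, hother, hsec, hn, hgen, hgn⟩ := lifted_generated hsp h hoff
  obtain ⟨A, hAT, hc', hp', hne, hmu⟩ := hoff
  exact ⟨r, E, hr, h, hc, hsup, ht, hsum, hother,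
    fun i => natural_of_section (fix_sup_img hsum hother i) (hsec i), hn, ⟨A, hAT, ⟨hc', hp'⟩, hne, hmu⟩,
    fun A hA he hmu => hgen A hA he.1 he.2 hmu,
    fun K hK ⟨A, hAK, hA, he, hne, hmu⟩ => hgn K hK ⟨A, hAK, hA, he.1, he.2, hne, hmu⟩⟩

namespace Layout

variable {r : ℕ} {E : Fin r → Subgroup P} (L : Layout ρ T M E)
include L

theorem norm (i : Fin r) : (⨆ j, E j) ≤ Subgroup.normalizer (E i : Set P) := by
  refine iSup_le fun j => ?_
  by_cases h : j = i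
  · subst h; exact Subgroup.le_normalizer
  · intro g hg
    refine Local.mem_normalizer_of_map_conj_eq (StrongFusion.cm_eq_self fun a ha => ?_)
    rw [L.comm j i h g hg a ha, mul_inv_cancel_right]

theorem fix_inv {g : P} {i : Fin r} (hg : g ∈ ⨆ j, E j) {w : W} (hw : w ∈ fix ρ (E i)) : ρ g w ∈ fix ρ (E i) := by
  have h : cm g (E i) = E i := by
    ext x
    rw [RootCommute.mem_cm]
    have h1 := Subgroup.mem_normalizer_iff.1 (inv_mem (L.norm i hg)) x
    rw [inv_inv] at h1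
    exact h1.symm
  rw [← h, mem_fix_cm, act_inv]; exact hw

/-- The fixed space of the product is invariant. -/
theorem fix_all_inv (g : P) {w : W} (hw : w ∈ fix ρ (⨆ j, E j)) : ρ g w ∈ fix ρ (⨆ j, E j) := fun a ha => by
  have h := hw _ (L.normal.conj_mem a ha g⁻¹)
  rw [inv_inv, act_mul, act_mul] at h
  exact (act_injective ρ g⁻¹) (h.trans (act_inv ρ g w).symm)

theorem mem_fix_all {w : W} (h : ∀ i, w ∈ fix ρ (E i)) : w ∈ fix ρ (⨆ j, E j) := fun a ha => by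
  have h1 : (⨆ j, E j) ≤ pointStab ρ w := iSup_le fun j x hx => h j x hx
  exact h1 ha

theorem other_sub {i j : Fin r} (hij : j ≠ i) {k : P} (hk : k ∈ E j) (w : W) : ρ k w - w ∈ fix ρ (E i) :=
  L.other j i hij (sub_mem_img ρ hk w)

/-- Nothing is trivial on both layers. -/
theorem ker_bot {g : P} (h1 : ∀ w ∈ fix ρ (⨆ j, E j), ρ g w = w) (h2 : ∀ w, ρ g w - w ∈ fix ρ (⨆ j, E j)) :
    g = 1 := by
  let S : Subgroup P :=
    { carrier := {g | (∀ w ∈ fix ρ (⨆ j, E j), ρ g w = w) ∧ ∀ w, ρ g w - w ∈ fix ρ (⨆ j, E j)}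
      one_mem' := ⟨fun x _ => act_one ρ x, fun x => by rw [act_one, sub_self]; exact zero_mem _⟩
      mul_mem' := fun {g k} hg hk => ⟨fun x hx => by rw [act_mul, hk.1 x hx, hg.1 x hx], fun x => by
        have := add_mem (hg.2 (ρ k x)) (hk.2 x); rwa [sub_add_sub_cancel, ← act_mul] at this⟩
      inv_mem' := fun {g} hg => ⟨fun x hx => inv_fixed ρ (hg.1 x hx), fun x => by
        have := hg.2 (ρ g⁻¹ x); rw [act_inv', ← neg_sub] at this; exact neg_mem_iff.1 this⟩ }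
  have hS : S.Normal := ⟨fun g hg k => ⟨fun x hx => by
    rw [act_mul, act_mul, hg.1 _ (L.fix_all_inv k⁻¹ hx), act_inv'], fun x => by
      have := L.fix_all_inv k (hg.2 (ρ k⁻¹ x))
      rwa [map_sub, act_inv', ← act_mul, ← act_mul] at this⟩⟩
  have hSp : IsPGroup p S := fun g => ⟨1, Subtype.ext (by
    show (g : P) ^ p ^ 1 = 1
    rw [pow_one]
    refine act_ext ρ L.base.inj fun x => ?_
    rw [act_one]
    exact pow_fix_step L.base.smul_zero g.2.1 (Y := ⊤) (fun y _ => g.2.2 y) x trivial)⟩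
  have := L.base.no_core S hS hSp
  have hg : g ∈ S := ⟨h1, h2⟩
  rwa [this, Subgroup.mem_bot] at hg

/-- Two elements alike on all layers are equal. -/
theorem sep {g g' : P} (h1 : ∀ w ∈ fix ρ (⨆ j, E j), ρ g w = ρ g' w)
    (h2 : ∀ i w, ρ g w - ρ g' w ∈ fix ρ (E i)) : g = g' := by
  have h : g'⁻¹ * g = 1 := L.ker_bot (fun w hw => by rw [act_mul, h1 w hw, act_inv]) fun w => by
    have h3 := L.fix_all_inv g'⁻¹ (L.mem_fix_all fun i => h2 i w)
    rwa [map_sub, ← act_mul, act_inv] at h3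
  exact (inv_mul_eq_one.1 h).symm

theorem part_mul {i : Fin r} {g h a b : P} (hg : g ∈ ⨆ j, E j) (h1 : IsPart ρ (E i) g a)
    (h2 : IsPart ρ (E i) h b) : IsPart ρ (E i) (g * h) (a * b) :=
  ⟨mul_mem h1.1 h2.1, fun w => by
    have := add_mem (L.fix_inv hg (h2.2 w)) (h1.2 (ρ b w))
    rwa [map_sub, sub_add_sub_cancel, ← act_mul, ← act_mul] at this⟩

theorem part_inv {i : Fin r} {g a : P} (hg : g ∈ ⨆ j, E j) (h1 : IsPart ρ (E i) g a) :
    IsPart ρ (E i) g⁻¹ a⁻¹ :=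
  ⟨inv_mem h1.1, fun w => by
    have := neg_mem (L.fix_inv (inv_mem hg) (h1.2 (ρ a⁻¹ w)))
    rwa [map_sub, act_inv', act_inv, neg_sub] at this⟩

theorem part_self {i : Fin r} {g : P} (hg : g ∈ E i) : IsPart ρ (E i) g g :=
  ⟨hg, fun w => by rw [sub_self]; exact zero_mem _⟩

theorem part_other {i j : Fin r} (hij : j ≠ i) {g : P} (hg : g ∈ E j) : IsPart ρ (E i) g 1 :=
  ⟨one_mem _, fun w => by rw [act_one]; exact L.other_sub hij hg w⟩

theorem exists_part (i : Fin r) {g : P} (hg : g ∈ ⨆ j, E j) : ∃ a, IsPart ρ (E i) g a := by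
  let H : Subgroup P :=
    { carrier := {g | g ∈ (⨆ j, E j) ∧ ∃ a, IsPart ρ (E i) g a}
      one_mem' := ⟨one_mem _, 1, one_mem _, fun w => by rw [sub_self]; exact zero_mem _⟩
      mul_mem' := fun {g h} ⟨hg, a, ha⟩ ⟨hh, b, hb⟩ => ⟨mul_mem hg hh, a * b, L.part_mul hg ha hb⟩
      inv_mem' := fun {g} ⟨hg, a, ha⟩ => ⟨inv_mem hg, a⁻¹, L.part_inv hg ha⟩ }
  have h1 : (⨆ j, E j) ≤ H := iSup_le fun j g hg => ⟨le_iSup E j hg, by
    by_cases h : j = i
    · subst h; exact ⟨g, L.part_self hg⟩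
    · exact ⟨1, L.part_other h hg⟩⟩
  exact (h1 hg).2

/-- An element with given parts. -/
theorem exists_glue (a : Fin r → P) (ha : ∀ i, a i ∈ E i) {H : Subgroup P} (hH : ∀ i, a i ∈ H) :
    ∃ h ∈ H, h ∈ (⨆ j, E j) ∧ ∀ i, IsPart ρ (E i) h (a i) := by
  classical
  suffices ∀ s : Finset (Fin r), ∃ h ∈ H, h ∈ (⨆ j, E j) ∧
      ∀ i, IsPart ρ (E i) h (if i ∈ s then a i else 1) by
    obtain ⟨h, h1, h2, h3⟩ := this Finset.univ
    exact ⟨h, h1, h2, fun i => by simpa using h3 i⟩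
  intro s
  induction s using Finset.induction_on with
  | empty => exact ⟨1, one_mem _, one_mem _, fun i => by
      simpa using (L.part_self (one_mem (E i)))⟩
  | insert j s hj ih =>
    obtain ⟨h, h1, h2, h3⟩ := ih
    refine ⟨a j * h, mul_mem (hH j) h1, mul_mem (le_iSup E j (ha j)) h2, fun i => ?_⟩
    by_cases hij : i = j
    · subst hij
      have := L.part_mul (le_iSup E i (ha i)) (L.part_self (ha i)) (h3 i)
      simpa [hj] using this
    · have := L.part_mul (le_iSup E j (ha j)) (L.part_other (Ne.symm hij) (ha j)) (h3 i)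
      simpa [hij] using this

theorem eq_of_parts {g g' : P} (hg : g ∈ ⨆ j, E j) (hg' : g' ∈ ⨆ j, E j)
    (h : ∀ i, ∃ a, IsPart ρ (E i) g a ∧ IsPart ρ (E i) g' a) : g = g' :=
  L.sep (fun w hw => by rw [hw g hg, hw g' hg']) fun i w => by
    obtain ⟨a, ha, ha'⟩ := h i
    have := sub_mem (ha.2 w) (ha'.2 w)
    rwa [sub_sub_sub_cancel_right] at this

/-- A subgroup containing the parts contains the element. -/
theorem mem_of_parts {g : P} (hg : g ∈ ⨆ j, E j) {H : Subgroup P}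
    (h : ∀ i, ∃ a ∈ H, IsPart ρ (E i) g a) : g ∈ H := by
  choose a ha hpart using h
  obtain ⟨k, hk, hkE, hkpart⟩ := L.exists_glue a (fun i => (hpart i).1) ha
  rwa [L.eq_of_parts hg hkE fun i => ⟨a i, hpart i, hkpart i⟩]

/-- The Sylow subgroup meets a component in a Sylow subgroup. -/
theorem sylow_max (i : Fin r) {X : Subgroup P} (hX : X ≤ E i) (hXp : IsPGroup p X)
    (h : (T : Subgroup P) ⊓ E i ≤ X) : X ≤ (T : Subgroup P) ⊓ E i := by
  obtain ⟨S, hS⟩ := hXp.exists_le_sylow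
  obtain ⟨g, rfl⟩ := MulAction.exists_smul_eq P T S
  haveI := L.normal
  obtain ⟨e, he, t, ht, rfl⟩ := Subgroup.mem_sup_of_normal_left.1 (L.sup.ge (Subgroup.mem_top g))
  rw [Sylow.coe_subgroup_smul] at hS
  have h1 : X ≤ cm e ((T : Subgroup P) ⊓ E i) := fun x hx => by
    have h2 := (Subgroup.mem_pointwise_smul_iff_inv_smul_mem (a := MulAut.conj (e * t))).1 (hS hx)
    rw [RootCommute.mem_cm, Subgroup.mem_inf]
    constructor
    · have h3 : (e * t)⁻¹ * x * (e * t) ∈ (T : Subgroup P) := by simpa [MulAut.smul_def, mul_assoc] using h2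
      have h4 := mul_mem (mul_mem ht h3) (inv_mem ht)
      rwa [show t * ((e * t)⁻¹ * x * (e * t)) * t⁻¹ = e⁻¹ * x * e by group] at h4
    · have h4 := (Subgroup.mem_normalizer_iff.1 (inv_mem (L.norm i he)) x).1 (hX hx)
      rwa [inv_inv] at h4
  exact (Subgroup.eq_of_le_of_card_ge h
    ((Subgroup.card_le_of_le h1).trans (card_cm _ _).le)).ge

end Layout

end CfsgLib.BlockPush
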