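import Cfsg.Agent.Lib.BlockPush.LayoutOff

/-!
The group permutes the components; the subgroup generated by the offenders on the whole module.
-/

set_option autoImplicit false
set_option linter.unusedSectionVars false
set_option linter.style.haveILetI false

namespace CfsgLib.BlockPush

open CfsgLib CfsgLib.RootCommute CfsgLib.RootBlocks
open CfsgLib.SL2Pair (fix mem_fix)
open CfsgLib.StrongFusion (cm cm_mono cm_cm cm_inv_cm card_cm conj_mem_cm)

universe u v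

/-- The projection of a product of two commuting subgroups meeting trivially. -/
theorem exists_proj {P : Type u} [Group P] (A B : Subgroup P) (hc : ∀ a ∈ A, ∀ b ∈ B, a * b = b * a)
    (hd : A ⊓ B = ⊥) :
    ∃ π : ↥(A ⊔ B) →* ↥A, (∀ x : ↥(A ⊔ B), ∃ b ∈ B, (x : P) = (π x : P) * b) ∧
      ∀ (x : ↥(A ⊔ B)) (a b : P), a ∈ A → b ∈ B → (x : P) = a * b → (π x : P) = a := by
  have hdec : ∀ x ∈ A ⊔ B, ∃ a ∈ A, ∃ b ∈ B, x = a * b := by
    intro x hx
    let H : Subgroup P :=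
      { carrier := {x | ∃ a ∈ A, ∃ b ∈ B, x = a * b}
        one_mem' := ⟨1, one_mem _, 1, one_mem _, (one_mul 1).symm⟩
        mul_mem' := by
          rintro _ _ ⟨a, ha, b, hb, rfl⟩ ⟨c, hc', d, hd', rfl⟩
          refine ⟨a * c, mul_mem ha hc', b * d, mul_mem hb hd', ?_⟩
          calc a * b * (c * d) = a * (b * c) * d := by group
            _ = a * (c * b) * d := by rw [hc c hc' b hb]
            _ = a * c * (b * d) := by group
        inv_mem' := by
          rintro _ ⟨a, ha, b, hb, rfl⟩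
          exact ⟨a⁻¹, inv_mem ha, b⁻¹, inv_mem hb, by rw [mul_inv_rev, hc a⁻¹ (inv_mem ha) b⁻¹ (inv_mem hb)]⟩ }
    exact (sup_le (fun a ha => ⟨a, ha, 1, one_mem _, (mul_one a).symm⟩)
      fun b hb => ⟨1, one_mem _, b, hb, (one_mul b).symm⟩ : A ⊔ B ≤ H) hx
  have huniq : ∀ {a a' b b' : P}, a ∈ A → a' ∈ A → b ∈ B → b' ∈ B → a * b = a' * b' → a = a' := by
    intro a a' b b' ha ha' hb hb' e
    have h : a'⁻¹ * a ∈ A ⊓ B := by
      refine Subgroup.mem_inf.2 ⟨mul_mem (inv_mem ha') ha, ?_⟩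
      rw [show a'⁻¹ * a = b' * b⁻¹ from by rw [inv_mul_eq_iff_eq_mul, ← mul_assoc, ← e, mul_inv_cancel_right]]
      exact mul_mem hb' (inv_mem hb)
    rw [hd, Subgroup.mem_bot, inv_mul_eq_one] at h
    exact h.symm
  choose a ha b hb hab using fun x : ↥(A ⊔ B) => hdec x x.2
  refine ⟨MonoidHom.mk' (fun x => ⟨a x, ha x⟩) fun x y => Subtype.ext ?_, fun x => ⟨b x, hb x, hab x⟩,
    fun x c d hc' hd' e => huniq (ha x) hc' (hb x) hd' ((hab x).symm.trans e)⟩
  show a (x * y) = a x * a y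
  refine huniq (ha _) (mul_mem (ha x) (ha y)) (hb _) (mul_mem (hb x) (hb y)) ((hab (x * y)).symm.trans ?_)
  calc ((x * y : ↥(A ⊔ B)) : P) = a x * b x * (a y * b y) := by rw [Subgroup.coe_mul, hab x, hab y]
    _ = a x * (b x * a y) * b y := by group
    _ = a x * (a y * b x) * b y := by rw [hc (a y) (ha y) (b x) (hb x)]
    _ = a x * a y * (b x * b y) := by group

namespace Layout

variable {P : Type u} [Group P] [Finite P] {W : Type v} [AddCommGroup W] [Finite W] {p : ℕ} [hp : Fact p.Prime]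
  {ρ : P →* AddMonoid.End W} {T : Sylow p P} {M : Subgroup P} {r : ℕ} {E : Fin r → Subgroup P}
  (L : Layout ρ T M E)
include L

theorem img_inf_fix {i : Fin r} {w : W} (h1 : w ∈ img ρ (E i) ⊔ fix ρ (⨆ j, E j)) (h2 : w ∈ fix ρ (E i)) :
    w ∈ fix ρ (⨆ j, E j) := by
  refine L.mem_fix_all fun j => ?_
  by_cases h : j = i
  · subst h; exact h2
  · exact sup_le (L.other i j (Ne.symm h)) (fix_antitone ρ (le_iSup E j)) h1

theorem card_eq (i j : Fin r) : Nat.card (E i) = Nat.card (E j) := by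
  obtain ⟨t, -, h⟩ := L.trans i j
  rw [← h, card_cm]

/-- **The group permutes the components.** -/
theorem perm (g : P) (i : Fin r) :
    ∃ j, cm g (E i) = E j ∧ ∀ w ∈ img ρ (E i), ρ g w ∈ img ρ (E j) ⊔ fix ρ (⨆ k, E k) := by
  classical
  set F := fix ρ (⨆ k, E k) with hF
  set Y : AddSubgroup W := (img ρ (E i) ⊔ F).map (ρ g : W →+ W) with hY
  have hcmE : cm g (E i) ≤ ⨆ k, E k := by
    rintro _ ⟨a, ha, rfl⟩
    exact L.normal.conj_mem a (le_iSup E i ha) g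
  have hmove : ∀ a ∈ cm g (E i), ∀ w, ρ a w - w ∈ Y := fun a ha w => by
    have h := sub_mem_img ρ (RootCommute.mem_cm.1 ha) (ρ g⁻¹ w)
    refine ⟨_, AddSubgroup.mem_sup_left h, ?_⟩
    show ρ g (ρ (g⁻¹ * a * g) (ρ g⁻¹ w) - ρ g⁻¹ w) = ρ a w - w
    rw [map_sub, act_inv', ← act_mul, ← act_mul, show g * (g⁻¹ * a * g) * g⁻¹ = a by group]
  have hinv0 : ∀ a ∈ ⨆ k, E k, ∀ w ∈ img ρ (E i) ⊔ F, ρ a w ∈ img ρ (E i) ⊔ F := by
    intro a ha w hw
    obtain ⟨x, hx, z, hz, rfl⟩ := AddSubgroup.mem_sup.1 hw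
    rw [map_add]
    refine AddSubgroup.add_mem_sup ?_ (by rw [hz a ha]; exact hz)
    have he : cm a (E i) = E i := by
      ext y
      rw [RootCommute.mem_cm]
      have h1 := Subgroup.mem_normalizer_iff.1 (inv_mem (L.norm i ha)) y
      rw [inv_inv] at h1
      exact h1.symm
    exact he ▸ mem_img_cm ρ hx
  -- the invariant subgroups in the image are trivial or everything
  have hirr : ∀ X : AddSubgroup W, F ≤ X → X ≤ Y → (∀ a ∈ ⨆ k, E k, ∀ w ∈ X, ρ a w ∈ X) → X = F ∨ X = Y := by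
    intro X hFX hXY hX
    set X' := X.comap (ρ g : W →+ W) with hX'
    have hX'inv : ∀ a ∈ ⨆ k, E k, ∀ w ∈ X', ρ a w ∈ X' := fun a ha w hw => by
      have h := hX _ (L.normal.conj_mem a ha g) _ hw
      change ρ (g * a * g⁻¹) (ρ g w) ∈ X at h
      rw [← act_mul, inv_mul_cancel_right, act_mul] at h
      exact h
    have hX'Y : X' ≤ img ρ (E i) ⊔ F := fun w hw => by
      obtain ⟨y, hy, e⟩ := hXY hw
      exact act_injective ρ g e ▸ hy
    rcases (L.comp i).irr (X' ⊔ fix ρ (E i)) le_sup_right (fun a ha w hw => by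
        obtain ⟨x, hx, z, hz, rfl⟩ := AddSubgroup.mem_sup.1 hw
        rw [map_add]
        exact AddSubgroup.add_mem_sup (hX'inv a (le_iSup E i ha) x hx) (by rw [hz a ha]; exact hz)) with h | h
    · refine Or.inl (le_antisymm (fun x hx => ?_) hFX)
      obtain ⟨y, hy, rfl⟩ := hXY hx
      exact L.fix_all_inv g (L.img_inf_fix hy (h.le (AddSubgroup.mem_sup_left hx)))
    · refine Or.inr (le_antisymm hXY ?_)
      rintro _ ⟨y, hy, rfl⟩
      obtain ⟨x, hx, z, hz, e⟩ := AddSubgroup.mem_sup.1 (h.ge (AddSubgroup.mem_top y))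
      have hzY : z ∈ img ρ (E i) ⊔ F := by
        rw [show z = y - x from eq_sub_of_add_eq' e]
        exact sub_mem hy (hX'Y hx)
      show ρ g y ∈ X
      rw [← e, map_add]
      exact add_mem hx (hFX (L.fix_all_inv g (L.img_inf_fix hzY hz)))
  have hFY : F ≤ Y := fun z hz =>
    ⟨ρ g⁻¹ z, AddSubgroup.mem_sup_right (L.fix_all_inv g⁻¹ hz), act_inv' ρ g z⟩
  have hYinv : ∀ a ∈ ⨆ k, E k, ∀ w ∈ Y, ρ a w ∈ Y := by
    rintro a ha _ ⟨y, hy, rfl⟩
    refine ⟨ρ (g⁻¹ * a * g) y, hinv0 _ (by simpa using L.normal.conj_mem a ha g⁻¹) y hy, ?_⟩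
    show ρ g (ρ (g⁻¹ * a * g) y) = ρ a (ρ g y)
    rw [← act_mul, ← act_mul, show g * (g⁻¹ * a * g) = a * g by group]
  obtain ⟨j, hj⟩ : ∃ j, ¬ Y ≤ fix ρ (E j) := by
    by_contra hno
    push Not at hno
    refine (L.comp i).fix_ne fun w _ => ?_
    obtain ⟨z, hz, x, hx, rfl⟩ := AddSubgroup.mem_sup.1 ((fix_sup_img L.sum L.other i).ge (AddSubgroup.mem_top w))
    have h1 : ρ g x ∈ F := L.mem_fix_all fun j => hno j ⟨x, AddSubgroup.mem_sup_left hx, rfl⟩
    have h2 := L.fix_all_inv g⁻¹ h1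
    rw [act_inv] at h2
    exact add_mem hz (fix_antitone ρ (le_iSup E i) h2)
  have hk : ∀ k, k ≠ j → Y ≤ fix ρ (E k) := by
    intro k hkj
    by_contra hkY
    obtain ⟨y, hy, hynot⟩ := SetLike.not_le_iff_exists.mp hj
    obtain ⟨a, ha, hmv⟩ : ∃ a ∈ E j, ρ a y - y ∉ fix ρ (E j) := by
      by_contra hno
      push Not at hno
      exact hynot ((L.comp j).no_fixed hno)
    have hdk : ρ a y - y ∈ fix ρ (E k) := L.other_sub (Ne.symm hkj) ha y
    rcases hirr (Y ⊓ fix ρ (E k)) (le_inf hFY (fix_antitone ρ (le_iSup E k))) inf_le_left (fun b hb w hw =>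
      AddSubgroup.mem_inf.2 ⟨hYinv b hb w hw.1, L.fix_inv hb hw.2⟩) with h | h
    · refine hmv (fix_antitone ρ (le_iSup E j) (h.le (AddSubgroup.mem_inf.2 ⟨?_, hdk⟩)))
      exact sub_mem (hYinv a (le_iSup E j ha) y hy) hy
    · exact hkY (inf_eq_left.1 h)
  have hle : cm g (E i) ≤ E j := fun a ha => L.mem_of_parts (hcmE ha) fun k => by
    obtain ⟨b, hb⟩ := L.exists_part k (hcmE ha)
    by_cases h : k = j
    · subst h; exact ⟨b, hb.1, hb⟩
    · refine ⟨b, ?_, hb⟩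
      have hb1 : b = 1 := (L.comp k).faithful b hb.1 fun w => by
        have := sub_mem (hk k h (hmove a ha w)) (hb.2 w)
        rwa [sub_sub_sub_cancel_left] at this
      rw [hb1]; exact one_mem _
  refine ⟨j, Subgroup.eq_of_le_of_card_ge hle (by rw [card_cm, L.card_eq i j]), fun w hw => ?_⟩
  have hmem : ρ g w ∈ Y := ⟨w, AddSubgroup.mem_sup_left hw, rfl⟩
  obtain ⟨z, hz, x, hx, e⟩ := AddSubgroup.mem_sup.1 ((fix_sup_img L.sum L.other j).ge (AddSubgroup.mem_top (ρ g w)))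
  have hz' : z ∈ F := L.mem_fix_all fun k => by
    by_cases h : k = j
    · subst h; exact hz
    · rw [show z = ρ g w - x from eq_sub_of_add_eq e]
      exact sub_mem (hk k h hmem) (L.other j k (Ne.symm h) hx)
  rw [← e]
  exact add_mem (AddSubgroup.mem_sup_right hz') (AddSubgroup.mem_sup_left hx)

/-- **What fixes the fixed space of the offenders pointwise is generated by them.** -/
theorem fixer {t : P} (ht : t ∈ (T : Subgroup P)) (hfix : ∀ w ∈ fix ρ (offs ρ T ⊤), ρ t w = w) :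
    t ∈ offs ρ T ⊤ := by
  have hFle : fix ρ (⨆ k, E k) ≤ fix ρ (offs ρ T ⊤) := fix_antitone ρ (L.offs_top_le.trans inf_le_right)
  have hparts : ∀ i, ∃ j ∈ offs ρ T (E i), ∀ w, ρ t w - ρ j w ∈ fix ρ (E i) := by
    intro i
    have hJE : offs ρ T (E i) ≤ E i := offs_le.trans inf_le_right
    obtain ⟨k, hk, hkimg⟩ := L.perm t i
    have hpart : ∀ w ∈ fix ρ (offs ρ T (E i)),
        ∃ z ∈ fix ρ (E i), ∃ x ∈ img ρ (E i), z + x = w ∧ ρ t x = x := by
      intro w hw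
      obtain ⟨z, hz, x, hx, rfl⟩ :=
        AddSubgroup.mem_sup.1 ((fix_sup_img L.sum L.other i).ge (AddSubgroup.mem_top w))
      refine ⟨z, hz, x, hx, rfl, hfix x (L.mem_fix_offs.2 fun l b hb => ?_)⟩
      by_cases h : l = i
      · subst h
        have h2 := hw b hb
        rwa [map_add, hz b (hJE hb), add_right_inj] at h2
      · exact L.other i l (Ne.symm h) hx b (offs_le hb).2
    have hki : k = i := by
      by_contra hki
      obtain ⟨w, hw, hwn⟩ := SetLike.not_le_iff_exists.mp (L.comp i).fix_ne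
      obtain ⟨z, hz, x, hx, rfl, htx⟩ := hpart w hw
      refine hwn (add_mem hz ?_)
      rw [← htx]
      exact sup_le (L.other k i hki) (fix_antitone ρ (le_iSup E i)) (hkimg x hx)
    subst hki
    obtain ⟨n, hn⟩ := T.2 ⟨t, ht⟩
    refine (L.comp k).fixer t hk ⟨n, congrArg Subtype.val hn⟩ fun w hw => ?_
    obtain ⟨z, hz, x, hx, rfl, htx⟩ := hpart w hw
    rw [map_add, htx, add_sub_add_right_eq_sub]
    refine sub_mem ?_ hz
    have h1 : ρ t z ∈ fix ρ (cm t (E k)) := by rw [mem_fix_cm, act_inv]; exact hz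
    rwa [hk] at h1
  choose j hj hjt using hparts
  obtain ⟨h, hh, hhE, hpart⟩ := L.exists_glue j (fun i => (offs_le (hj i)).2)
    (H := offs ρ T ⊤) (fun i => L.offs_eq ▸ le_iSup (fun i => offs ρ T (E i)) i (hj i))
  suffices t = h from this ▸ hh
  refine L.sep (fun w hw => by rw [hfix w (hFle hw), hw h hhE]) fun i w => ?_
  have := sub_mem (hjt i w) ((hpart i).2 w)
  rwa [sub_sub_sub_cancel_right] at this

/-- **Two conjugates generate the components.** -/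
theorem generated : ∃ g ∈ ⨆ i, E i, (⨆ i, E i) ≤ offs ρ T ⊤ ⊔ cm g (offs ρ T ⊤) := by
  choose g hg hgen using fun i => (L.comp i).gen
  obtain ⟨h, -, hhE, hpart⟩ := L.exists_glue g hg (H := ⊤) fun _ => trivial
  refine ⟨h, hhE, iSup_le fun i => ?_⟩
  have hcm : ∀ l, cm (g l) (offs ρ T (E l)) ≤ cm h (offs ρ T (E l)) := by
    rintro l _ ⟨b, hb, rfl⟩
    refine ⟨b, hb, ?_⟩
    show h * b * h⁻¹ = g l * b * (g l)⁻¹
    symm
    have hbE := (offs_le hb).2
    refine L.eq_of_parts (le_iSup E l (mul_mem (mul_mem (hg l) hbE) (inv_mem (hg l))))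
      (mul_mem (mul_mem hhE (le_iSup E l hbE)) (inv_mem hhE)) fun m => ?_
    have hhb : h * b ∈ ⨆ j, E j := mul_mem hhE (le_iSup E l hbE)
    by_cases hml : m = l
    · subst hml
      exact ⟨_, L.part_self (mul_mem (mul_mem (hg m) hbE) (inv_mem (hg m))),
        L.part_mul hhb (L.part_mul hhE (hpart m) (L.part_self hbE)) (L.part_inv hhE (hpart m))⟩
    · refine ⟨1, L.part_other (Ne.symm hml) (mul_mem (mul_mem (hg l) hbE) (inv_mem (hg l))), ?_⟩
      have := L.part_mul hhb (L.part_mul hhE (hpart m) (L.part_other (Ne.symm hml) hbE)) (L.part_inv hhE (hpart m))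
      rwa [mul_one, mul_inv_cancel] at this
  exact (hgen i).trans (sup_le_sup (L.offs_eq ▸ le_iSup (fun i => offs ρ T (E i)) i)
    ((hcm i).trans (cm_mono (L.offs_eq ▸ le_iSup (fun i => offs ρ T (E i)) i))))

/-- The offenders act quadratically. -/
theorem quad : img ρ (offs ρ T ⊤) ≤ fix ρ (offs ρ T ⊤) := by
  have h1 : ∀ i, img ρ (offs ρ T (E i)) ≤ fix ρ (offs ρ T ⊤) := by
    intro i x hx
    refine L.mem_fix_offs.2 fun l => ?_
    by_cases h : l = i
    · subst h; exact (L.comp l).quad hx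
    · exact fix_antitone ρ (offs_le.trans inf_le_right)
        (L.other i l (Ne.symm h) (img_mono ρ (offs_le.trans inf_le_right) hx))
  let S : Subgroup P :=
    { carrier := {a | (∀ w, ρ a w - w ∈ fix ρ (offs ρ T ⊤)) ∧ ∀ w ∈ fix ρ (offs ρ T ⊤), ρ a w = w}
      one_mem' := ⟨fun w => by rw [act_one, sub_self]; exact zero_mem _, fun w _ => act_one ρ w⟩
      mul_mem' := fun {g k} hg hk => ⟨fun x => by
        have := add_mem (hg.1 (ρ k x)) (hk.1 x); rwa [sub_add_sub_cancel, ← act_mul] at this,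
        fun x hx => by rw [act_mul, hk.2 x hx, hg.2 x hx]⟩
      inv_mem' := fun {g} hg => ⟨fun x => by
        have := hg.1 (ρ g⁻¹ x); rw [act_inv', ← neg_sub] at this; exact neg_mem_iff.1 this,
        fun x hx => inv_fixed ρ (hg.2 x hx)⟩ }
  have h2 : offs ρ T ⊤ ≤ S := fun a ha => ⟨by
    have h3 : offs ρ T ⊤ ≤ cosetStab ρ (fix ρ (offs ρ T ⊤)) := by
      conv_lhs => rw [L.offs_eq]
      exact iSup_le fun i b hb w => h1 i (sub_mem_img ρ hb w)
    exact h3 ha, fun w hw => hw a ha⟩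
  exact (RootCommute.img_le ρ).2 fun a ha w => (h2 ha).1 w

theorem offs_norm : (T : Subgroup P) ≤ Subgroup.normalizer (offs ρ T ⊤ : Set P) := by
  intro t ht
  refine Local.mem_normalizer_of_map_conj_eq (Subgroup.eq_of_le_of_card_ge ?_
    (Subgroup.card_map_of_injective (MulAut.conj t).injective).ge)
  refine Subgroup.map_le_iff_le_comap.2 (sSup_le fun C hC => Subgroup.map_le_iff_le_comap.1 ?_)
  obtain ⟨h1, h2, h3⟩ := L.conj_elem ht hC.1 hC.2.1 hC.2.2
  exact le_offs (h1.trans (inf_le_inf_left _ le_top)) h2 h3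

/-- **The regions.** -/
theorem region (i : Fin r) : ∃ (R : Subgroup P) (F : Type) (_ : Field F) (_ : Fintype F) (n : ℕ)
    (f : ↥R →* Matrix.ProjectiveSpecialLinearGroup (Fin 2) F), Function.Surjective f ∧ 1 ≤ n ∧
      Fintype.card F = p ^ n ∧ offs ρ T ⊤ ≤ R ∧ R ≤ (⨆ j, E j) ∧ R ⊔ (T : Subgroup P) = ⊤ ∧
      ¬ R ≤ Subgroup.normalizer (offs ρ T ⊤ : Set P) ∧
      (∀ X ≤ R, IsPGroup p X → offs ρ T ⊤ ≤ X → X ≤ offs ρ T ⊤) ∧
      (∀ H, offs ρ T ⊤ ≤ H → H ≤ R → H = R ∨ H ≤ Subgroup.normalizer (offs ρ T ⊤ : Set P)) ∧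
      ∀ g ∈ R, ∀ a, ∀ j, j ≠ i → IsPart ρ (E j) g a → a ∈ offs ρ T (E j) := by
  classical
  obtain ⟨R, F, iF, iF', n, f, hf, hn, hcard, hJR, hRE, hERS, hRN, hRP, hRmax⟩ := (L.comp i).region
  set O : Subgroup P := ⨆ j ∈ {j | j ≠ i}, offs ρ T (E j) with hO
  have hOJ : O ≤ offs ρ T ⊤ := iSup₂_le fun j _ => L.offs_eq ▸ le_iSup (fun j => offs ρ T (E j)) j
  have hJO : offs ρ T ⊤ ≤ offs ρ T (E i) ⊔ O := by
    rw [L.offs_eq]
    refine iSup_le fun j => ?_
    by_cases h : j = i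
    · subst h; exact le_sup_left
    · exact le_sup_of_le_right (le_iSup₂_of_le (f := fun j (_ : j ∈ {j | j ≠ i}) => offs ρ T (E j)) j h le_rfl)
  have hOE : O ≤ ⨆ j, E j := iSup₂_le fun j _ => (offs_le.trans inf_le_right).trans (le_iSup E j)
  have hOpart : ∀ g ∈ O, IsPart ρ (E i) g 1 := by
    let H : Subgroup P :=
      { carrier := {g | g ∈ (⨆ j, E j) ∧ IsPart ρ (E i) g 1}
        one_mem' := ⟨one_mem _, L.part_self (one_mem _)⟩
        mul_mem' := fun {g h} ⟨hg, ha⟩ ⟨hh, hb⟩ => ⟨mul_mem hg hh, one_mul (1 : P) ▸ L.part_mul hg ha hb⟩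
        inv_mem' := fun {g} ⟨hg, ha⟩ => ⟨inv_mem hg, inv_one (G := P) ▸ L.part_inv hg ha⟩ }
    have hle : O ≤ H := iSup₂_le fun j hj g hg => ⟨le_iSup E j (offs_le hg).2, L.part_other hj (offs_le hg).2⟩
    exact fun g hg => (hle hg).2
  have hcomm : ∀ a ∈ R, ∀ b ∈ O, a * b = b * a := fun a ha b hb => by
    have hle : O ≤ Subgroup.centralizer (R : Set P) := iSup₂_le fun j hj c hc =>
      Subgroup.mem_centralizer_iff.2 fun d hd => L.comm i j (Ne.symm hj) d (hRE hd) c (offs_le hc).2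
    exact Subgroup.mem_centralizer_iff.1 (hle hb) a ha
  have hdisj : R ⊓ O = ⊥ := (Subgroup.eq_bot_iff_forall _).2 fun g hg =>
    L.part_unique (L.part_self (hRE hg.1)) (hOpart g hg.2)
  obtain ⟨π, hπ, hπ'⟩ := exists_proj R O hcomm hdisj
  have hπR : ∀ a (ha : a ∈ R), π ⟨a, Subgroup.mem_sup_left ha⟩ = ⟨a, ha⟩ := fun a ha =>
    Subtype.ext (hπ' _ a 1 ha (one_mem _) (mul_one a).symm)
  have hJR' : offs ρ T ⊤ ≤ R ⊔ O := hJO.trans (sup_le_sup_right hJR O)
  have hRO : R ⊔ O ≤ ⨆ j, E j := sup_le (hRE.trans (le_iSup E i)) hOE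
  have hNi : ∀ g : ↥(R ⊔ O), (π g : P) ∈ Subgroup.normalizer (offs ρ T (E i) : Set P) →
      (g : P) ∈ Subgroup.normalizer (offs ρ T ⊤ : Set P) := by
    intro g hg
    obtain ⟨b, hb, e⟩ := hπ g
    rw [e]
    refine Subgroup.mul_mem _ ?_ (Subgroup.le_normalizer (hOJ hb))
    refine Local.mem_normalizer_of_map_conj_eq (Subgroup.eq_of_le_of_card_ge ?_
      (Subgroup.card_map_of_injective (MulAut.conj (π g : P)).injective).ge)
    refine Subgroup.map_le_iff_le_comap.2 (hJO.trans (sup_le (fun x hx => ?_) fun x hx => ?_))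
    · rw [L.offs_eq]
      exact le_iSup (fun i => offs ρ T (E i)) i ((Subgroup.mem_normalizer_iff.1 hg x).1 hx)
    · show (π g : P) * x * (π g : P)⁻¹ ∈ offs ρ T ⊤
      rw [hcomm _ (π g).2 x hx, mul_inv_cancel_right]
      exact hOJ hx
  refine ⟨R ⊔ O, F, iF, iF', n, f.comp π, hf.comp fun a => ⟨⟨a, Subgroup.mem_sup_left a.2⟩, hπR a a.2⟩, hn,
    hcard, hJR', hRO, ?_, ?_, ?_, ?_, ?_⟩
  · refine eq_top_iff.2 (L.sup.ge.trans (sup_le (iSup_le fun j => ?_) le_sup_right))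
    have hEi : E i ≤ R ⊔ O ⊔ (T : Subgroup P) := hERS.trans (sup_le (le_sup_left.trans le_sup_left)
      (inf_le_left.trans le_sup_right))
    obtain ⟨t, ht, h⟩ := L.trans i j
    rw [← h]
    rintro _ ⟨x, hx, rfl⟩
    exact mul_mem (mul_mem (Subgroup.mem_sup_right ht) (hEi hx)) (inv_mem (Subgroup.mem_sup_right ht))
  · intro h
    refine hRN fun g hg => ?_
    have hgN := h (Subgroup.mem_sup_left hg : g ∈ R ⊔ O)
    refine Local.mem_normalizer_of_map_conj_eq (Subgroup.eq_of_le_of_card_ge ?_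
      (Subgroup.card_map_of_injective (MulAut.conj g).injective).ge)
    rintro _ ⟨x, hx, rfl⟩
    have h1 := (Subgroup.mem_normalizer_iff.1 hgN x).1 (L.offs_eq ▸ le_iSup (fun i => offs ρ T (E i)) i hx)
    obtain ⟨a, ha, b, hb, e⟩ : ∃ a ∈ offs ρ T (E i), ∃ b ∈ O, g * x * g⁻¹ = a * b := by
      obtain ⟨π', hπ1, -⟩ := exists_proj (offs ρ T (E i)) O (fun a ha b hb => hcomm a (hJR ha) b hb)
        (eq_bot_iff.2 ((inf_le_inf_right O hJR).trans hdisj.le))
      obtain ⟨b, hb, e⟩ := hπ1 ⟨_, hJO h1⟩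
      exact ⟨_, (π' ⟨_, hJO h1⟩).2, b, hb, e⟩
    have h2 := hπ' ⟨g * x * g⁻¹, Subgroup.mem_sup_left (mul_mem (mul_mem hg (hJR hx)) (inv_mem hg))⟩ a b (hJR ha)
      hb e
    rw [hπR _ (mul_mem (mul_mem hg (hJR hx)) (inv_mem hg))] at h2
    show g * x * g⁻¹ ∈ offs ρ T (E i)
    rw [show g * x * g⁻¹ = a from h2]
    exact ha
  · intro X hX hXp hJX g hg
    obtain ⟨b, hb, e⟩ := hπ ⟨g, hX hg⟩
    have h1 : ((X.subgroupOf (R ⊔ O)).map π).map R.subtype ≤ offs ρ T (E i) := hRP _ (Subgroup.map_subtype_le _)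
      (((hXp.of_equiv (Subgroup.subgroupOfEquivOfLe hX).symm).map _).map _) fun x hx =>
        ⟨π ⟨x, Subgroup.mem_sup_left (hJR hx)⟩,
          ⟨_, hJX (L.offs_eq ▸ le_iSup (fun i => offs ρ T (E i)) i hx), rfl⟩, congrArg Subtype.val (hπR x (hJR hx))⟩
    have h2 : (π ⟨g, hX hg⟩ : P) ∈ offs ρ T (E i) := h1 ⟨_, ⟨⟨g, hX hg⟩, hg, rfl⟩, rfl⟩
    rw [show g = (π ⟨g, hX hg⟩ : P) * b from e]
    exact mul_mem (L.offs_eq ▸ le_iSup (fun i => offs ρ T (E i)) i h2) (hOJ hb)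
  · intro H hJH hH
    have hHmem : ∀ (x : ↥(R ⊔ O)), (x : P) ∈ H ↔ (π x : P) ∈ H := fun x => by
      obtain ⟨b, hb, e⟩ := hπ x
      rw [e]
      exact H.mul_mem_cancel_right (hJH (hOJ hb))
    rcases hRmax (R ⊓ H) (le_inf hJR fun x hx => hJH (L.offs_eq ▸ le_iSup (fun i => offs ρ T (E i)) i hx))
      inf_le_left with h | h
    · refine Or.inl (le_antisymm hH fun x hx => (hHmem ⟨x, hx⟩).2 ?_)
      exact (h.ge (π ⟨x, hx⟩).2).2
    · exact Or.inr fun x hx => hNi ⟨x, hH hx⟩ (h (Subgroup.mem_inf.2 ⟨(π _).2, (hHmem ⟨x, hH hx⟩).1 hx⟩))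
  · intro g hg a j hj ha
    obtain ⟨b, hb, e⟩ := hπ ⟨g, hg⟩
    have h1 : IsPart ρ (E j) (π ⟨g, hg⟩ : P) 1 := L.part_other (Ne.symm hj) (hRE (π _).2)
    have hbE : ∀ c ∈ O, ∃ d ∈ offs ρ T (E j), IsPart ρ (E j) c d := by
      let H : Subgroup P :=
        { carrier := {c | c ∈ (⨆ k, E k) ∧ ∃ d ∈ offs ρ T (E j), IsPart ρ (E j) c d}
          one_mem' := ⟨one_mem _, 1, one_mem _, L.part_self (one_mem _)⟩
          mul_mem' := fun {x y} ⟨hx, c, hc, hc'⟩ ⟨hy, d, hd, hd'⟩ =>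
            ⟨mul_mem hx hy, c * d, mul_mem hc hd, L.part_mul hx hc' hd'⟩
          inv_mem' := fun {x} ⟨hx, c, hc, hc'⟩ => ⟨inv_mem hx, c⁻¹, inv_mem hc, L.part_inv hx hc'⟩ }
      have hle : O ≤ H := iSup₂_le fun k _ x hx => ⟨le_iSup E k (offs_le hx).2, by
        by_cases h : k = j
        · subst h; exact ⟨x, hx, L.part_self (offs_le hx).2⟩
        · exact ⟨1, one_mem _, L.part_other h (offs_le hx).2⟩⟩
      exact fun c hc => (hle hc).2
    obtain ⟨d, hd, hd'⟩ := hbE b hb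
    have h2 := L.part_mul (hRO (Subgroup.mem_sup_left (π ⟨g, hg⟩).2)) h1 hd'
    rw [← e, one_mul] at h2
    rw [L.part_unique ha h2]
    exact hd

end Layout

end CfsgLib.BlockPush
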