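import Cfsg.Agent.Lib.BlockPush.Layout
import Cfsg.Agent.Lib.RootBlocks.Bound

/-!
The offenders, and the subgroup they generate, on the whole module.
-/

set_option autoImplicit false
set_option linter.unusedSectionVars false
set_option linter.style.haveILetI false

namespace CfsgLib.BlockPush.Layout

open CfsgLib CfsgLib.RootCommute CfsgLib.RootBlocks
open CfsgLib.SL2Pair (fix mem_fix)
open CfsgLib.StrongFusion (cm cm_mono cm_cm cm_inv_cm card_cm conj_mem_cm)

universe u v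

variable {P : Type u} [Group P] [Finite P] {W : Type v} [AddCommGroup W] [Finite W] {p : ℕ} [hp : Fact p.Prime]
  {ρ : P →* AddMonoid.End W} {T : Sylow p P} {M : Subgroup P} {r : ℕ} {E : Fin r → Subgroup P}
  (L : Layout ρ T M E)
include L

theorem part_unique {i : Fin r} {g a b : P} (h1 : IsPart ρ (E i) g a) (h2 : IsPart ρ (E i) g b) : a = b :=
  L.eq_of_parts (le_iSup E i h1.1) (le_iSup E i h2.1) fun j => by
    by_cases h : i = j
    · subst h
      exact ⟨a, L.part_self h1.1, h2.1 |> fun hb => ⟨h1.1, fun w => by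
        have := sub_mem (h1.2 w) (h2.2 w)
        rwa [sub_sub_sub_cancel_left] at this⟩⟩
    · exact ⟨1, L.part_other h h1.1, L.part_other h h2.1⟩

theorem exists_partSub (i : Fin r) {A : Subgroup P} (hA : A ≤ ⨆ j, E j) :
    ∃ X : Subgroup P, X ≤ E i ∧ ∀ a, a ∈ X ↔ ∃ g ∈ A, IsPart ρ (E i) g a :=
  ⟨{ carrier := {a | ∃ g ∈ A, IsPart ρ (E i) g a}
     one_mem' := ⟨1, one_mem _, L.part_self (one_mem _)⟩
     mul_mem' := fun {a b} ⟨g, hg, ha⟩ ⟨h, hh, hb⟩ => ⟨g * h, mul_mem hg hh, L.part_mul (hA hg) ha hb⟩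
     inv_mem' := fun {a} ⟨g, hg, ha⟩ => ⟨g⁻¹, inv_mem hg, L.part_inv (hA hg) ha⟩ },
   fun _ ⟨_, _, ha⟩ => ha.1, fun _ => Iff.rfl⟩

theorem part_pow {i : Fin r} {g a : P} (hg : g ∈ ⨆ j, E j) (h : IsPart ρ (E i) g a) :
    ∀ k : ℕ, IsPart ρ (E i) (g ^ k) (a ^ k) := by
  intro k
  induction k with
  | zero => rw [pow_zero, pow_zero]; exact L.part_self (one_mem _)
  | succ k ih => rw [pow_succ, pow_succ]; exact L.part_mul (pow_mem hg k) ih h

/-- The parts of elements of the Sylow subgroup lie in it. -/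
theorem part_mem_T {i : Fin r} {g a : P} (hgT : g ∈ (T : Subgroup P)) (hg : g ∈ ⨆ j, E j)
    (ha : IsPart ρ (E i) g a) : a ∈ (T : Subgroup P) := by
  obtain ⟨X, hXE, hX⟩ := L.exists_partSub i (A := (T : Subgroup P) ⊓ ⨆ j, E j) inf_le_right
  have hXp : IsPGroup p X := fun ⟨b, hb⟩ => by
    obtain ⟨h, hh, hb'⟩ := (hX b).1 hb
    obtain ⟨k, hk⟩ := T.2 ⟨h, hh.1⟩
    refine ⟨k, Subtype.ext (L.part_unique (L.part_pow hh.2 hb' _) ?_)⟩
    rw [show h ^ p ^ k = 1 from congrArg Subtype.val hk]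
    exact L.part_self (one_mem _)
  exact (L.sylow_max i hXE hXp (fun x hx => (hX x).2 ⟨x, ⟨hx.1, le_iSup E i hx.2⟩, L.part_self hx.2⟩)
    ((hX a).2 ⟨g, ⟨hgT, hg⟩, ha⟩)).1

theorem bound_comp (i : Fin r) {A : Subgroup P} (hA : A ≤ (T : Subgroup P) ⊓ E i) (he : Elem p A) :
    Nat.card A ≤ (qfix ρ (E i) A).index :=
  (comp_of_natural (L.natural i) fun _ h1 h2 h3 => L.sylow_max i h1 h2 h3).1 A hA he

theorem index_iInf (X : Fin r → AddSubgroup W) (hX : ∀ i, fix ρ (E i) ≤ X i) :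
    (⨅ i, X i).index = ∏ i, (X i).index := by
  classical
  suffices ∀ s : Finset (Fin r), (⨅ i ∈ s, X i).index = ∏ i ∈ s, (X i).index by
    simpa using this Finset.univ
  intro s
  induction s using Finset.induction_on with
  | empty => simp
  | insert j s hj ih =>
    rw [Finset.iInf_insert, Finset.prod_insert hj, ← ih]
    have hsup : X j ⊔ (⨅ i ∈ s, X i) = ⊤ := by
      refine eq_top_iff.2 ((fix_sup_img L.sum L.other j).ge.trans (sup_le ((hX j).trans le_sup_left) ?_))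
      refine le_trans (le_iInf₂ fun i hi => ?_) le_sup_right
      exact (L.other j i fun e => hj (e ▸ hi)).trans (hX i)
    have h1 := card_inf_mul_card_sup (X j) (⨅ i ∈ s, X i)
    rw [hsup, AddSubgroup.card_top] at h1
    refine Nat.eq_of_mul_eq_mul_left (n := Nat.card ↥(X j) * Nat.card ↥(⨅ i ∈ s, X i))
      (Nat.mul_pos Nat.card_pos Nat.card_pos) ?_
    calc Nat.card ↥(X j) * Nat.card ↥(⨅ i ∈ s, X i) * (X j ⊓ ⨅ i ∈ s, X i).index
        = Nat.card ↥(X j ⊓ ⨅ i ∈ s, X i) * (X j ⊓ ⨅ i ∈ s, X i).index * Nat.card W := by rw [← h1]; ring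
      _ = Nat.card W * Nat.card W := by rw [AddSubgroup.card_mul_index]
      _ = (Nat.card ↥(X j) * (X j).index) * (Nat.card ↥(⨅ i ∈ s, X i) * (⨅ i ∈ s, X i).index) := by
        rw [AddSubgroup.card_mul_index, AddSubgroup.card_mul_index]
      _ = _ := by ring

/-- **An offender is the product of its parts, which are offenders.** -/
theorem offender_facts {A : Subgroup P} (hA : A ≤ (T : Subgroup P)) (he : Elem p A) (hmu : Nat.card W ≤ mu ρ A) :
    mu ρ A = Nat.card W ∧ (∀ i, Nat.card W ≤ mu ρ (A ⊓ E i)) ∧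
      ∀ a ∈ A, ∀ i, ∃ b, IsPart ρ (E i) a b ∧ b ∈ A ∧ b ∈ offs ρ T (E i) := by
  classical
  have hAE := L.gen A hA he hmu
  choose X hXE hX using fun i => L.exists_partSub i hAE
  have hXT : ∀ i, X i ≤ (T : Subgroup P) ⊓ E i := fun i x hx => by
    obtain ⟨g, hg, hx'⟩ := (hX i x).1 hx
    exact ⟨L.part_mem_T (hA hg) (hAE hg) hx', hXE i hx⟩
  have hXe : ∀ i, Elem p (X i) := fun i => by
    refine ⟨fun a ha c hc => ?_, fun a ha => ?_⟩
    · obtain ⟨g, hg, hga⟩ := (hX i a).1 ha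
      obtain ⟨k, hk, hkc⟩ := (hX i c).1 hc
      exact L.part_unique (L.part_mul (hAE hg) hga hkc) (by
        rw [he.1 g hg k hk]; exact L.part_mul (hAE hk) hkc hga)
    · obtain ⟨g, hg, hga⟩ := (hX i a).1 ha
      refine L.part_unique (L.part_pow (hAE hg) hga p) ?_
      rw [he.2 g hg]
      exact L.part_self (one_mem _)
  choose f hf using fun (a : A) (i : Fin r) => L.exists_part i (hAE a.2)
  let F : A → ∀ i, ↥(X i) := fun a i => ⟨f a i, (hX i _).2 ⟨a, a.2, hf a i⟩⟩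
  have hFinj : Function.Injective F := fun a b e => Subtype.ext (L.eq_of_parts (hAE a.2) (hAE b.2) fun i =>
    ⟨f a i, hf a i, by rw [show f a i = f b i from congrArg Subtype.val (congrFun e i)]; exact hf b i⟩)
  have hcA : Nat.card A ≤ ∏ i, Nat.card (X i) := (Nat.card_le_card_of_injective F hFinj).trans Nat.card_pi.le
  set Q := ⨅ i, qfix ρ (E i) (X i) with hQ
  have hfixA : fix ρ A ≤ Q := fun w hw => by
    rw [hQ, AddSubgroup.mem_iInf]
    intro i b hb
    obtain ⟨g, hg, hgb⟩ := (hX i b).1 hb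
    have h1 := neg_mem (hgb.2 w)
    rwa [hw g hg, neg_sub] at h1
  have hidx : ∏ i, (qfix ρ (E i) (X i)).index = Q.index :=
    (L.index_iInf (fun i => qfix ρ (E i) (X i)) fun i w hw b hb => by
      rw [hw b (hXE i hb), sub_self]; exact zero_mem _).symm
  have hprod : ∏ i, Nat.card (X i) ≤ ∏ i, (qfix ρ (E i) (X i)).index :=
    Finset.prod_le_prod' fun i _ => L.bound_comp i (hXT i) (hXe i)
  have hQW := Q.card_mul_index
  have hAQ : Nat.card W ≤ Nat.card A * Nat.card Q :=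
    hmu.trans (Nat.mul_le_mul_left _ (Nat.card_le_card_of_injective _ (AddSubgroup.inclusion_injective hfixA)))
  have hall : ∏ i, (qfix ρ (E i) (X i)).index ≤ Nat.card A := by
    rw [hidx]
    refine Nat.le_of_mul_le_mul_left ?_ (Nat.card_pos (α := ↥Q))
    rw [hQW, mul_comm]; exact hAQ
  have hAeq : Nat.card A = ∏ i, Nat.card (X i) := le_antisymm hcA (hprod.trans hall)
  have hfeq : fix ρ A = Q := by
    refine AddSubgroup.eq_of_le_of_card_ge hfixA (Nat.le_of_mul_le_mul_left ?_ (Nat.card_pos (α := ↥A)))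
    calc Nat.card A * Nat.card Q ≤ Q.index * Nat.card Q :=
          Nat.mul_le_mul_right _ ((hcA.trans hprod).trans hidx.le)
      _ = Nat.card W := by rw [mul_comm]; exact hQW
      _ ≤ _ := hmu
  have hFbij : Function.Bijective F :=
    (Nat.bijective_iff_injective_and_card F).2 ⟨hFinj, hAeq.trans Nat.card_pi.symm⟩
  have hXA : ∀ i, X i ≤ A := by
    intro i b hb
    obtain ⟨a, ha⟩ := hFbij.2 (fun j => if h : j = i then ⟨b, h ▸ hb⟩ else 1)
    have : (a : P) = b := by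
      refine L.eq_of_parts (hAE a.2) (le_iSup E i (hXE i hb)) fun j => ⟨f a j, hf a j, ?_⟩
      have h1 : f a j = _ := congrArg Subtype.val (congrFun ha j)
      rw [h1]
      by_cases h : j = i
      · subst h; rw [dif_pos rfl]; exact L.part_self (hXE j hb)
      · rw [dif_neg h]; exact L.part_other (Ne.symm h) (hXE i hb)
    exact this ▸ a.2
  have heach := RootBlocks.prod_eq_of_le (s := Finset.univ) (fun i _ => L.bound_comp i (hXT i) (hXe i))
    (fun i _ => Nat.card_pos) (hall.trans hAeq.le)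
  have hXmu : ∀ i, Nat.card W ≤ mu ρ (X i) := fun i => by
    have hfi : qfix ρ (E i) (X i) ≤ fix ρ (X i) := fun w hw => by
      obtain ⟨z, hz, x, hx, rfl⟩ :=
        AddSubgroup.mem_sup.1 ((fix_sup_img L.sum L.other i).ge (AddSubgroup.mem_top w))
      have hxQ : x ∈ Q := by
        rw [hQ, AddSubgroup.mem_iInf]
        intro j c hc
        by_cases h : j = i
        · subst h
          have h2 := hw c hc
          rwa [map_add, hz c (hXE j hc), add_sub_add_left_eq_sub] at h2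
        · rw [L.other i j (Ne.symm h) hx c (hXE j hc), sub_self]; exact zero_mem _
      rw [← hfeq] at hxQ
      exact fun c hc => by rw [map_add, hz c (hXE i hc), hxQ c (hXA i hc)]
    calc Nat.card W = Nat.card (qfix ρ (E i) (X i)) * (qfix ρ (E i) (X i)).index :=
          (AddSubgroup.card_mul_index _).symm
      _ = Nat.card (X i) * Nat.card (qfix ρ (E i) (X i)) := by rw [← heach i (Finset.mem_univ i), mul_comm]
      _ ≤ _ := Nat.mul_le_mul_left _ (Nat.card_le_card_of_injective _ (AddSubgroup.inclusion_injective hfi))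
  refine ⟨?_, fun i => ?_, fun a ha i => ?_⟩
  · rw [mu, hfeq, hAeq, le_antisymm hprod (hall.trans hAeq.le), hidx, mul_comm, hQW]
  · rw [show A ⊓ E i = X i from le_antisymm (fun a ha => (hX i a).2 ⟨a, ha.1, L.part_self ha.2⟩)
      (le_inf (hXA i) (hXE i))]
    exact hXmu i
  have hb : f ⟨a, ha⟩ i ∈ X i := (F ⟨a, ha⟩ i).2
  exact ⟨f ⟨a, ha⟩ i, hf ⟨a, ha⟩ i, hXA i hb, le_offs (hXT i) (hXe i) (hXmu i) hb⟩

theorem offender_parts {A : Subgroup P} (hA : A ≤ (T : Subgroup P)) (he : Elem p A) (hmu : Nat.card W ≤ mu ρ A) :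
    ∀ a ∈ A, ∀ i, ∃ b, IsPart ρ (E i) a b ∧ b ∈ A ∧ b ∈ offs ρ T (E i) :=
  (L.offender_facts hA he hmu).2.2

theorem conj_elem {t : P} (ht : t ∈ (T : Subgroup P)) {B E' : Subgroup P} (hB : B ≤ (T : Subgroup P) ⊓ E')
    (he : Elem p B) (hmu : Nat.card W ≤ mu ρ B) :
    cm t B ≤ (T : Subgroup P) ⊓ cm t E' ∧ Elem p (cm t B) ∧ Nat.card W ≤ mu ρ (cm t B) := by
  refine ⟨?_, ⟨?_, ?_⟩, ?_⟩
  · rintro _ ⟨b, hb, rfl⟩
    exact ⟨(T : Subgroup P).mul_mem ((T : Subgroup P).mul_mem ht (hB hb).1) ((T : Subgroup P).inv_mem ht),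
      b, (hB hb).2, rfl⟩
  · rintro _ ⟨a, ha, rfl⟩ _ ⟨c, hc, rfl⟩
    rw [← map_mul, ← map_mul, he.1 a ha c hc]
  · rintro _ ⟨a, ha, rfl⟩
    rw [← map_pow, he.2 a ha, map_one]
  · rw [mu, card_cm, card_fix_cm]; exact hmu

/-- **Every component has an offender.** -/
theorem exists_offender (i : Fin r) :
    ∃ B : Subgroup P, B ≤ (T : Subgroup P) ⊓ E i ∧ Elem p B ∧ B ≠ ⊥ ∧ Nat.card W ≤ mu ρ B := by
  obtain ⟨A, hA, he, hne, hmu⟩ := L.offender
  obtain ⟨j, hj⟩ : ∃ j, offs ρ T (E j) ≠ ⊥ := by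
    by_contra hno
    push Not at hno
    refine hne ((Subgroup.eq_bot_iff_forall A).2 fun a ha => ?_)
    refine Subgroup.mem_bot.1 (L.mem_of_parts (L.gen A hA he hmu ha) fun j => ?_)
    obtain ⟨b, hb, -, hbo⟩ := L.offender_parts hA he hmu a ha j
    exact ⟨b, hno j ▸ hbo, hb⟩
  obtain ⟨B, hB, hBne⟩ : ∃ B ∈ {B | B ≤ (T : Subgroup P) ⊓ E j ∧ Elem p B ∧ Nat.card W ≤ mu ρ B}, B ≠ ⊥ := by
    by_contra hno
    push Not at hno
    exact hj (sSup_eq_bot.2 hno)
  obtain ⟨t, ht, htE⟩ := L.trans j i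
  obtain ⟨h1, h2, h3⟩ := L.conj_elem ht hB.1 hB.2.1 hB.2.2
  exact ⟨cm t B, htE ▸ h1, h2, fun h => hBne (by
    rwa [cm, Subgroup.map_eq_bot_iff_of_injective _ (MulAut.conj t).injective] at h), h3⟩

theorem comp (i : Fin r) : Comp ρ T (E i) :=
  ((comp_of_natural (L.natural i) fun _ h1 h2 h3 => L.sylow_max i h1 h2 h3).2 (L.exists_offender i)).1

theorem kind (i : Fin r) : IsSLKind ρ T (E i) ∨ IsPermKind ρ T (E i) :=
  ((comp_of_natural (L.natural i) fun _ h1 h2 h3 => L.sylow_max i h1 h2 h3).2 (L.exists_offender i)).2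

/-- The offenders of the whole group. -/
theorem offs_eq : offs ρ T ⊤ = ⨆ i, offs ρ T (E i) := by
  refine le_antisymm (sSup_le fun A hA a ha => ?_) (iSup_le fun i => sSup_le fun B hB =>
    le_offs (hB.1.trans (inf_le_inf_left _ le_top)) hB.2.1 hB.2.2)
  have hAT := hA.1.trans inf_le_left
  refine L.mem_of_parts (L.gen A hAT hA.2.1 hA.2.2 ha) fun i => ?_
  obtain ⟨b, hb, -, hbo⟩ := L.offender_parts hAT hA.2.1 hA.2.2 a ha i
  exact ⟨b, le_iSup (fun i => offs ρ T (E i)) i hbo, hb⟩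

theorem offs_top_le : offs ρ T ⊤ ≤ (T : Subgroup P) ⊓ ⨆ i, E i := by
  rw [L.offs_eq]
  exact iSup_le fun i => offs_le.trans (inf_le_inf_left _ (le_iSup E i))

theorem mem_fix_offs {w : W} : w ∈ fix ρ (offs ρ T ⊤) ↔ ∀ i, w ∈ fix ρ (offs ρ T (E i)) := by
  rw [L.offs_eq]
  refine ⟨fun h i => fix_antitone ρ (le_iSup (fun i => offs ρ T (E i)) i) h, fun h a ha => ?_⟩
  have h1 : (⨆ i, offs ρ T (E i)) ≤ pointStab ρ w := iSup_le fun i b hb => h i b hb
  exact h1 ha

end CfsgLib.BlockPush.Layout
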