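import Mathlib
import Cfsg.Agent.Lib.PushUp.Summary

/-!
The two short configurations of rank-one pushing up, with what is needed for the blocks.
-/

set_option autoImplicit false
set_option linter.unusedSectionVars false

namespace CfsgLib.BlockPush

open Cfsg Subgroup CfsgLib.PushUp CfsgLib.PushRankOne CfsgLib.PSL2
open scoped commutatorElement

universe u

variable {G : Type u} [Group G] [Finite G] {p : ℕ} [Fact p.Prime]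

/-- The first configuration: `A` moves `S` only as it moves the module. -/
structure OneS (S : Sylow p G) (A : Subgroup G) : Prop extends One S A where
  inner : ∀ s ∈ (S : Subgroup G), ∀ a ∈ A, ∃ v ∈ vmod S, s * a * s⁻¹ * a⁻¹ = v * a * v⁻¹ * a⁻¹

/-- The second configuration, with the pairing of `A` and `C`. -/
structure TwoS (S : Sylow p G) (T' X Y A C D : Subgroup G) : Prop extends Two S T' X Y A C D where
  DXv : ∀ d ∈ D, ∀ x ∈ X, x * d * x⁻¹ * d⁻¹ ∈ ⁅X, vmod S⁆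
  pairing : ∀ a ∈ A, a ∉ D → ∀ c ∈ C, a * c = c * a → c ∈ D
  pairing' : ∀ c ∈ C, c ∉ D → ∀ a ∈ A, a * c = c * a → a ∈ D
  cardR : Nat.card ↥⁅A, C⁆ ≤ Nat.card ↥⁅(S : Subgroup G), vmod S⁆
  keyAll : ∀ x ∈ X, x ∉ pCore p G → ∃ a ∈ A, ∃ v ∈ vmod S, x * v * x⁻¹ * v⁻¹ ≠ 1 ∧
    x * (x * a * x⁻¹ * a⁻¹) * x⁻¹ * (x * a * x⁻¹ * a⁻¹)⁻¹ = x * v * x⁻¹ * v⁻¹

variable {Γ : Type*} [Group Γ] [Finite Γ] {S : Sylow p G} {𝒮 : Sys Γ p} {ψ : G →* Γ}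

theorem exists_oneS {C : Chain 𝒮 1 1} (hc : ¬ 𝒮.V (C.c 0) ≤ 𝒮.Q (C.c 1)) (P : PullAt S 𝒮 (C.c 0) (C.e 0) ψ) :
    ∃ A, OneS S A := by
  obtain ⟨hψ, hH, hQ, hV, hS, -⟩ := P
  have F : Flag p (𝒮.H (C.c 1)) (𝒮.Q (C.c 1)) (𝒮.V (C.c 1)) (C.e 0) := C.flag_r (i := 0) (by omega)
  obtain ⟨hne, hsup, hsup'⟩ := C.cover_at (i := 0) le_rfl (by simpa using hc)
  simp only [Nat.zero_add, Nat.sub_self] at hne hsup hsup'
  set A := (𝒮.V (C.c 1)).comap ψ with hA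
  have hVe : 𝒮.V (C.c 1) ≤ C.e 0 := F.V_le_T
  have hAmap : A.map ψ = 𝒮.V (C.c 1) := by
    rw [hA, Subgroup.map_comap_eq]
    exact inf_eq_right.mpr (hVe.trans (hS ▸ Subgroup.map_le_range ψ _))
  have hmemS : ∀ {x : G}, ψ x ∈ C.e 0 → x ∈ (S : Subgroup G) := fun {x} hx => by
    rw [← hS] at hx
    obtain ⟨y, hy, he⟩ := hx
    exact hψ he ▸ hy
  have hinS : ∀ {x : G}, x ∈ (S : Subgroup G) → ψ x ∈ C.e 0 := fun {x} hx => hS ▸ ⟨x, hx, rfl⟩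
  refine ⟨A, ⟨⟨fun x hx => hmemS (hVe hx), fun a ha b hb => hψ (by rw [map_mul, map_mul]; exact F.abel _ ha _ hb),
    fun a ha => hψ (by rw [map_pow, map_one]; exact F.elem _ ha), fun s hs a ha => ?_, fun h => hne ?_, ?_,
    fun s hs a ha => ?_⟩, fun s hs a ha => ?_⟩⟩
  · show ψ (s * a * s⁻¹) ∈ 𝒮.V (C.c 1)
    rw [map_mul, map_mul, map_inv]
    exact PushUp.conj_mem (F.norm_V (F.T_le (hinS hs))) ha
  · rw [← hAmap, ← hQ]; exact Subgroup.map_mono h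
  · apply Subgroup.map_injective hψ
    rw [Subgroup.map_sup, hAmap, hQ, hS, hsup]
  · have h1 := F.quad _ ha _ (hinS hs)
    have h2 : ∀ y ∈ (S : Subgroup G), y * (s * a * s⁻¹ * a⁻¹) = (s * a * s⁻¹ * a⁻¹) * y := fun y hy => hψ (by
      simp only [map_mul, map_inv]
      exact h1 _ (hinS hy))
    have hw : s * a * s⁻¹ * a⁻¹ ∈ (S : Subgroup G) :=
      mul_mem (mul_mem (mul_mem hs (hmemS (hVe ha))) (inv_mem hs)) (inv_mem (hmemS (hVe ha)))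
    exact ⟨Subgroup.le_normalClosure ⟨hw, h2⟩, h2⟩
  · obtain ⟨v', hv', q, hq, hvq⟩ := exists_mul' (X := 𝒮.V (C.c 0)) (Y := 𝒮.Q (C.c 1))
      (((C.flag_l (i := 0) (by omega)).V_le_T).trans F.T_le_norm_Q) (hsup'.ge (hinS hs))
    obtain ⟨v, hv, rfl⟩ : v' ∈ (vmod S).map ψ := hV ▸ hv'
    have hqa : Commute q (ψ a) := F.V_cent q hq _ ha
    have e : s * a * s⁻¹ * a⁻¹ = v * a * v⁻¹ * a⁻¹ := hψ (by
      simp only [map_mul, map_inv, ← hvq]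
      calc ψ v * q * ψ a * (ψ v * q)⁻¹ * (ψ a)⁻¹ = ψ v * (q * ψ a * q⁻¹) * (ψ v)⁻¹ * (ψ a)⁻¹ := by group
        _ = _ := by rw [hqa.eq, mul_inv_cancel_right])
    exact ⟨v, hv, e⟩

theorem exists_twoS (C : Chain 𝒮 2 5)
    (hcrit : ∀ i, i + 2 ≤ 5 → ¬ 𝒮.V (C.c i) ≤ 𝒮.Q (C.c (i + 2)))
    (hopp : ∀ i, i = 1 ∨ i = 2 → Opp (𝒮.H (C.c (i + 1))) (𝒮.Q (C.c (i + 1))) (C.e i) (C.e (i + 1)))
    (P : PullAt S 𝒮 (C.c 2) (C.e 2) ψ) {ψ₃ : G →* Γ} (P₃ : PullAt S 𝒮 (C.c 3) (C.e 3) ψ₃)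
    (hS : Setting S) (hd : Mild S) :
    ∃ T' X Y A C D : Subgroup G, TwoS S T' X Y A C D := by
  obtain ⟨hB, hrC, hrA⟩ := exists_twoBase C (m := 2) (fun i _ h2 => hcrit i (by omega)) (hopp 1 (Or.inl rfl)) P
    le_rfl (by omega)
  obtain ⟨hB₃, hrC₃, -⟩ := exists_twoBase C (m := 3) (fun i _ h2 => hcrit i (by omega)) (hopp 2 (Or.inr rfl)) P₃
    (by omega) (by omega)
  obtain ⟨hψ, hH, hQ, hV, hSm, hT⟩ := P
  obtain ⟨hψ₃, hH₃, hQ₃, hV₃, hSm₃, hT₃⟩ := P₃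
  have hb := hB.card_bound hS hd
  have hb₃ := hB₃.card_bound hS hd
  simp only [show 3 - 2 = 1 from rfl, show 3 - 1 = 2 from rfl, show 3 + 1 = 4 from rfl, show 2 - 1 = 1 from rfl,
    show 2 + 1 = 3 from rfl, show 2 + 2 = 4 from rfl, show 2 - 2 = 0 from rfl, show 3 + 2 = 5 from rfl] at hrC hrA hrC₃ hb hb₃ hB hB₃ ⊢
  rw [← Subgroup.card_map_of_injective hψ (K := pCore p G), hQ] at hb
  rw [← Subgroup.card_map_of_injective hψ₃ (K := pCore p G), hQ₃] at hb₃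
  have h12 : Nat.card (𝒮.Q (C.c 1)) ≤ Nat.card (𝒮.Q (C.c 2)) :=
    Nat.le_of_mul_le_mul_left (hrC.trans hb) Nat.card_pos
  have h23 : Nat.card (𝒮.Q (C.c 2)) ≤ Nat.card (𝒮.Q (C.c 3)) :=
    Nat.le_of_mul_le_mul_left (hrC₃.trans hb₃) Nat.card_pos
  have h13 : Nat.card (𝒮.Q (C.c 1)) = Nat.card (𝒮.Q (C.c 3)) := by
    have h := C.cover_card (i := 1) (by omega) (hcrit 1 (by omega))
    simp only [show 1 + 2 - 1 = 2 from rfl, show 1 + 2 = 3 from rfl] at h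
    obtain ⟨g₁, hg₁⟩ := hT _ (C.edge_r 1 (by omega))
    have e1 : Nat.card (C.e 1) = Nat.card (C.e 2) := by
      rw [hg₁, ← hSm, Subgroup.card_map_of_injective hψ, Subgroup.card_map_of_injective hψ]
      exact Subgroup.card_map_of_injective (MulEquiv.injective _)
    rw [e1, mul_comm (Nat.card (C.e 2))] at h
    exact Nat.eq_of_mul_eq_mul_right Nat.card_pos h
  have hcQ : Nat.card (pCore p G) = Nat.card (𝒮.Q (C.c 2)) := by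
    rw [← hQ, Subgroup.card_map_of_injective hψ]
  have F1 : Flag p (𝒮.H (C.c 1)) (𝒮.Q (C.c 1)) (𝒮.V (C.c 1)) (C.e 1) := C.flag_l (by omega)
  have F2 : Flag p (𝒮.H (C.c 2)) (𝒮.Q (C.c 2)) (𝒮.V (C.c 2)) (C.e 2) := C.flag_l (by omega)
  have F2' : Flag p (𝒮.H (C.c 2)) (𝒮.Q (C.c 2)) (𝒮.V (C.c 2)) (C.e 1) := C.flag_r (i := 1) (by omega)
  have F3 : Flag p (𝒮.H (C.c 3)) (𝒮.Q (C.c 3)) (𝒮.V (C.c 3)) (C.e 2) := C.flag_r (i := 2) (by omega)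
  have F4 : Flag p (𝒮.H (C.c 4)) (𝒮.Q (C.c 4)) (𝒮.V (C.c 4)) (C.e 3) := C.flag_r (i := 3) (by omega)
  have hA_Q : 𝒮.V (C.c 1) ≤ 𝒮.Q (C.c 2) := C.near (by omega) (by omega) (by omega) (by omega)
  have hC_Q : 𝒮.V (C.c 3) ≤ 𝒮.Q (C.c 2) := C.near (by omega) (by omega) (by omega) (by omega)
  have hX_e : 𝒮.V (C.c 4) ≤ C.e 2 := (C.near (j := 3) (by omega) (by omega) (by omega) (by omega)).trans F3.Q_le
  have inS : ∀ {x : G}, ψ x ∈ C.e 2 → x ∈ (S : Subgroup G) := fun {x} hx => by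
    rw [← hSm] at hx
    obtain ⟨y, hy, he⟩ := hx
    exact hψ he ▸ hy
  -- an element of the module that commutes with the module at the fourth vertex lies in its core
  have hV4 : ∀ w ∈ 𝒮.V (C.c 2), (∀ z ∈ 𝒮.V (C.c 4), w * z = z * w) → w ∈ 𝒮.Q (C.c 4) := fun w hw hz =>
    F4.mem_of_cent (C.V_le_edge_r (i := 2) (j := 3) (by omega) (by omega) (by omega) (by omega) hw) hz
  -- a member of `C` at the third vertex that is fixed there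
  have hfixC₃ : ∀ c ∈ (𝒮.V (C.c 4)).comap ψ₃, (∀ g : G, g * c * g⁻¹ * c⁻¹ ∈
      (𝒮.Q (C.c 3) ⊓ 𝒮.Q (C.c 2) ⊓ 𝒮.Q (C.c 4)).comap ψ₃) → ψ₃ c ∈ 𝒮.Q (C.c 2) := by
    intro c hc hg
    obtain ⟨g, hgT⟩ := hT₃ _ (C.edge_r 2 (by omega))
    have he : cj (ψ₃ g) (C.e 3) = C.e 2 := by rw [hgT, map_cj, hSm₃]
    have hu : 𝒮.edge (𝒮.mv (ψ₃ g) (C.c 4)) (C.e 2) := by
      have := 𝒮.edge_mv (ψ₃ g) _ _ (C.edge_r 3 (by omega))
      rwa [he] at this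
    have h1 : ψ₃ (g * c * g⁻¹) ∈ 𝒮.Q (C.c 2) := by
      refine C.near_adj hu (C.edge_l 2 (by omega)) (i := 2) (by omega) (by omega) (by omega) ?_
      rw [𝒮.V_mv, map_mul, map_mul, map_inv]
      exact conj_mem_cj (Subgroup.mem_comap.mp hc)
    have h2 := (Subgroup.mem_inf.mp (Subgroup.mem_inf.mp (Subgroup.mem_comap.mp (hg g))).1).2
    rw [show ψ₃ c = (ψ₃ (g * c * g⁻¹ * c⁻¹))⁻¹ * ψ₃ (g * c * g⁻¹) by rw [← map_inv, ← map_mul]; congr 1; group]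
    exact mul_mem (inv_mem h2) h1
  have keyAll : ∀ x ∈ (𝒮.V (C.c 4)).comap ψ, x ∉ pCore p G →
      ∃ a ∈ (𝒮.V (C.c 1)).comap ψ, ∃ v ∈ vmod S, x * v * x⁻¹ * v⁻¹ ≠ 1 ∧
        x * (x * a * x⁻¹ * a⁻¹) * x⁻¹ * (x * a * x⁻¹ * a⁻¹)⁻¹ = x * v * x⁻¹ * v⁻¹ := by
    intro x hxX hxQ
    have hc'' : ψ x ∈ 𝒮.V (C.c 4) := hxX
    have hx2 : ψ x ∉ 𝒮.Q (C.c 2) := fun h2 => hxQ (by
      obtain ⟨x', hx', he⟩ : ψ x ∈ (pCore p G).map ψ := hQ ▸ h2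
      exact hψ he ▸ hx')
    obtain ⟨c, hcS, hc⟩ : ψ x ∈ (pCore p G).map ψ₃ := hQ₃ ▸ C.near (i := 4) (j := 3) (by omega) (by omega)
      (by omega) (by omega) hc''
    have hcC : c ∈ (𝒮.V (C.c 4)).comap ψ₃ := by rw [Subgroup.mem_comap, hc]; exact hc''
    obtain ⟨y, hy', hyc⟩ : ∃ y ∈ (𝒮.V (C.c 1)).comap ψ₃,
        y * c * y⁻¹ * c⁻¹ ∉ (𝒮.Q (C.c 3) ⊓ 𝒮.Q (C.c 2) ⊓ 𝒮.Q (C.c 4)).comap ψ₃ := by
      by_contra hno
      push Not at hno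
      refine hx2 (hc ▸ hfixC₃ c hcC fun g => ?_)
      haveI := hB₃.D_normal hS hd
      set D₃ := (𝒮.Q (C.c 3) ⊓ 𝒮.Q (C.c 2) ⊓ 𝒮.Q (C.c 4)).comap ψ₃
      let K : Subgroup G :=
        { carrier := {g | g * c * g⁻¹ * c⁻¹ ∈ D₃}
          one_mem' := by simp
          mul_mem' := fun {g k} hg hk => by
            show g * k * c * (g * k)⁻¹ * c⁻¹ ∈ D₃
            rw [show g * k * c * (g * k)⁻¹ * c⁻¹ = g * (k * c * k⁻¹ * c⁻¹) * g⁻¹ * (g * c * g⁻¹ * c⁻¹) by group]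
            exact mul_mem (‹D₃.Normal›.conj_mem _ hk g) hg
          inv_mem' := fun {g} hg => by
            show g⁻¹ * c * g⁻¹⁻¹ * c⁻¹ ∈ D₃
            rw [show g⁻¹ * c * g⁻¹⁻¹ * c⁻¹ = g⁻¹ * (g * c * g⁻¹ * c⁻¹)⁻¹ * g⁻¹⁻¹ by group]
            exact ‹D₃.Normal›.conj_mem _ (inv_mem hg) _ }
      have hQK : pCore p G ≤ K := fun q hq => hB₃.comm_core_D hS hd q hq c hcS
      have htop : (⊤ : Subgroup G) ≤ K := (opp_fix hS hB₃.opp).ge.trans (sup_le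
        (hB₃.X_sup ▸ sup_le (fun z hz => show z * c * z⁻¹ * c⁻¹ ∈ D₃ by
          rw [hB₃.XC z hz c hcC, mul_inv_cancel_right, mul_inv_cancel]; exact one_mem _) hQK)
        (hB₃.Y_sup ▸ sup_le (fun z hz => hno z hz) hQK))
      exact htop (Subgroup.mem_top g)
    have hy : ψ₃ y ∈ 𝒮.V (C.c 1) := hy'
    obtain ⟨a, -, ha⟩ : ψ₃ y ∈ (pCore p G).map ψ := hQ ▸ hA_Q hy
    have haA : a ∈ (𝒮.V (C.c 1)).comap ψ := by rw [Subgroup.mem_comap, ha]; exact hy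
    have haQ : a ∈ pCore p G := hB.A_le haA
    have hxS : x ∈ (S : Subgroup G) := inS (hX_e hc'')
    set u := x * a * x⁻¹ * a⁻¹ with hu
    have hu2 : ψ u ∈ 𝒮.Q (C.c 2) := by
      rw [← hQ]
      exact ⟨u, mul_mem ((inferInstance : (pCore p G).Normal).conj_mem _ haQ x) (inv_mem haQ), rfl⟩
    have hu3 : ψ u ∈ 𝒮.Q (C.c 3) := by
      simp only [hu, map_mul, map_inv, ha]
      exact F3.comm _ (hX_e hc'') _ (F2.Q_le (hA_Q hy))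
    have hu4 : ψ u ∉ 𝒮.Q (C.c 4) := by
      intro h4
      refine hyc ?_
      have e : ψ₃ (y * c * y⁻¹ * c⁻¹) = (ψ u)⁻¹ := by
        simp only [hu, map_mul, map_inv, ha, ← hc]; group
      show ψ₃ (y * c * y⁻¹ * c⁻¹) ∈ 𝒮.Q (C.c 3) ⊓ 𝒮.Q (C.c 2) ⊓ 𝒮.Q (C.c 4)
      rw [e]
      exact inv_mem (Subgroup.mem_inf.mpr ⟨Subgroup.mem_inf.mpr ⟨hu3, hu2⟩, h4⟩)
    obtain ⟨c₁, hc₁, d₁, hd₁, hcd⟩ := exists_mul (fun k hk => PushUp.mem_normalizer_of_conj fun l hl => by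
        rw [(hB.CD l hl k hk).symm, mul_inv_cancel_right]; exact hl)
      (hB.comE x hxS a haQ)
    have hd₁' : ψ d₁ ∈ 𝒮.Q (C.c 3) := (Subgroup.mem_inf.mp hd₁).2
    obtain ⟨v', hv', q, hq, hvq⟩ := C.split_l (i := 2) (by omega) (hcrit 2 (by omega))
      (x := ψ d₁) ((C.flag_l (i := 3) (by omega)).Q_le hd₁')
    obtain ⟨v, hv, rfl⟩ : v' ∈ (vmod S).map ψ := hV ▸ hv'
    have hc₁4 : ψ c₁ ∈ 𝒮.Q (C.c 4) := C.near (i := 3) (by omega) (by omega) (by omega) (by omega) hc₁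
    have hueq : ψ u = ψ c₁ * ψ v * q := by
      rw [show u = c₁ * d₁ from hcd.symm, map_mul, ← hvq, mul_assoc]
    have hne : x * v * x⁻¹ * v⁻¹ ≠ 1 := by
      intro h1
      refine hu4 ?_
      rw [hueq]
      refine mul_mem (mul_mem hc₁4 (hV4 _ hv' fun z hz4 => ?_)) hq
      have hcent := F2.fixed (ψ x) (hX_e hc'') hx2 (ψ v) hv'
        (by rw [← map_mul, ← map_mul]; exact congrArg ψ (mul_inv_eq_iff_eq_mul.mp (mul_inv_eq_one.mp h1)))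
      exact (hcent z (hX_e hz4)).symm
    refine ⟨a, haA, v, hv, hne, hψ ?_⟩
    have hc1x : Commute (ψ c₁) (ψ x) := F4.V_cent _ hc₁4 _ hc''
    have hqx : Commute q (ψ x) := F4.V_cent _ hq _ hc''
    have hmem : ψ x * ψ v * (ψ x)⁻¹ * (ψ v)⁻¹ ∈ 𝒮.V (C.c 2) := F2.comm_mem_V (F2.T_le (hX_e hc'')) hv'
    have hw : Commute (ψ c₁) (ψ x * ψ v * (ψ x)⁻¹ * (ψ v)⁻¹) :=
      F2.V_cent _ (C.near (i := 3) (by omega) (by omega) (by omega) (by omega) hc₁) _ hmem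
    show ψ (x * u * x⁻¹ * u⁻¹) = _
    rw [map_mul, map_mul, map_mul, map_inv, map_inv, hueq]
    simp only [map_mul, map_inv]
    calc ψ x * (ψ c₁ * ψ v * q) * (ψ x)⁻¹ * (ψ c₁ * ψ v * q)⁻¹
        = (ψ x * ψ c₁) * ψ v * (q * (ψ x)⁻¹) * q⁻¹ * (ψ v)⁻¹ * (ψ c₁)⁻¹ := by group
      _ = ψ c₁ * (ψ x * ψ v * (ψ x)⁻¹ * (ψ v)⁻¹) * (ψ c₁)⁻¹ := by
          rw [← hc1x.eq, hqx.inv_right.eq]; group
      _ = _ := by rw [hw.eq, mul_inv_cancel_right]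
  have hcase : ∀ c ∈ (𝒮.V (C.c 3)).comap ψ, c ∉ (𝒮.Q (C.c 2) ⊓ 𝒮.Q (C.c 1) ⊓ 𝒮.Q (C.c 3)).comap ψ →
      ψ c ∉ 𝒮.Q (C.c 1) := fun c hc hcD h1 =>
    hcD (Subgroup.mem_inf.mpr ⟨Subgroup.mem_inf.mpr ⟨hC_Q hc, h1⟩, F3.V_le hc⟩)
  obtain ⟨g₁, hg₁⟩ := hT _ (C.edge_r 1 (by omega))
  obtain ⟨g₃, hg₃⟩ := hT₃ _ (C.edge_r 2 (by omega))
  have hVcent : ∀ {c : G}, (∀ y ∈ 𝒮.Q (C.c 2), y * ψ c = ψ c * y) → c ∈ pCore p G → c ^ p = 1 →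
      c ∈ (𝒮.Q (C.c 2) ⊓ 𝒮.Q (C.c 1) ⊓ 𝒮.Q (C.c 3)).comap ψ := fun {c} h hc hp => by
    refine hB.V_le ((flag_top hS hd).center c hc (fun q hq => hψ ?_) hp)
    rw [map_mul, map_mul]
    exact h _ (hQ ▸ ⟨q, hq, rfl⟩)
  obtain ⟨x, hxX, hxQ⟩ : ∃ x ∈ (𝒮.V (C.c 4)).comap ψ, x ∉ pCore p G := by
    by_contra hno
    push Not at hno
    obtain ⟨s, hs, hsQ⟩ := hS.exists_mem
    exact hsQ ((hB.X_sup ▸ sup_le hno le_rfl : (S : Subgroup G) ≤ pCore p G) hs)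
  obtain ⟨a, ha, v, hv, hne, hxuv⟩ := keyAll x hxX hxQ
  refine ⟨_, _, _, _, _, _, ⟨⟨hB, ?_, ?_, a, ha, x, hxX, v, hv, hxQ, hne, hxuv⟩, ?_, ?_, ?_, ?_, keyAll⟩⟩
  · rw [hcQ, show Nat.card (𝒮.Q (C.c 2)) = Nat.card (𝒮.Q (C.c 1)) by omega]; exact hrC
  · rw [hcQ, show Nat.card (𝒮.Q (C.c 2)) = Nat.card (𝒮.Q (C.c 3)) by omega]; exact hrA
  · intro d hd' x hx
    have hde : ψ d ∈ C.e (2 + 2 - 1) :=
      (C.flag_l (i := 3) (by omega)).Q_le (Subgroup.mem_inf.mp (Subgroup.mem_comap.mp hd')).2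
    obtain ⟨w', hw', q, hq, hwq⟩ := C.split_l (i := 2) (by omega) (hcrit 2 (by omega)) hde
    obtain ⟨w, hw, rfl⟩ : w' ∈ (vmod S).map ψ := hV ▸ hw'
    have hqx : Commute q (ψ x) := F4.V_cent q hq _ hx
    have e : x * d * x⁻¹ * d⁻¹ = x * w * x⁻¹ * w⁻¹ := hψ (by
      simp only [map_mul, map_inv, ← hwq]
      calc ψ x * (ψ w * q) * (ψ x)⁻¹ * (ψ w * q)⁻¹
          = ψ x * ψ w * (q * (ψ x)⁻¹ * q⁻¹) * (ψ w)⁻¹ := by group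
        _ = _ := by rw [hqx.inv_right.eq, mul_inv_cancel_right])
    rw [e]
    exact Subgroup.commutator_mem_commutator hx hw
  · intro a' ha' haD c hc hac
    have ha3 : ψ a' ∉ 𝒮.Q (C.c 3) := fun h3 =>
      haD (Subgroup.mem_inf.mpr ⟨Subgroup.mem_inf.mpr ⟨hA_Q ha', F1.V_le ha'⟩, h3⟩)
    have hcc := F3.fixed (ψ a') (F2.Q_le (hA_Q ha')) ha3 (ψ c) hc (by rw [← map_mul, ← map_mul, hac])
    exact hVcent (fun y hy => hcc y (F2.Q_le hy)) (hB.C_le hc) (hB.elemC c hc)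
  · intro c hc hcD a' ha' hac
    have hcc := F1.fixed (ψ c) (F2'.Q_le (hC_Q hc)) (hcase c hc hcD) (ψ a') ha'
      (by rw [← map_mul, ← map_mul, hac])
    exact hVcent (fun y hy => hcc y (F2'.Q_le hy)) (hB.A_le ha') (hB.elemA a' ha')
  · rw [← Subgroup.card_map_of_injective hψ]
    refine (Subgroup.card_le_of_le (K := cj (ψ₃ g₃) (⁅(S : Subgroup G), vmod S⁆.map ψ₃)) ?_).trans_eq ?_
    · rw [Subgroup.map_le_iff_le_comap, Subgroup.commutator_le]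
      intro a' ha' c hc
      rw [Subgroup.mem_comap, mem_cj, commutatorElement_def]
      have ha2 : ψ a' ∈ C.e 2 := F2.Q_le (hA_Q ha')
      rw [hg₃, map_cj, hSm₃, mem_cj, ← hSm₃] at ha2
      obtain ⟨s, hs, hse⟩ := ha2
      have hc3 : (ψ₃ g₃)⁻¹ * ψ c * ψ₃ g₃ ∈ 𝒮.V (C.c 3) := by
        have h := conj_mem' ((F3.norm_V (show ψ₃ g₃ ∈ 𝒮.H (C.c 3) from hH₃ ▸ ⟨g₃, mem_top _, rfl⟩))) hc
        exact h
      rw [← hV₃] at hc3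
      obtain ⟨w, hw, hwe⟩ := hc3
      refine ⟨⁅s, w⁆, Subgroup.commutator_mem_commutator hs hw, ?_⟩
      simp only [commutatorElement_def, map_mul, map_inv, hse, hwe]
      group
    · rw [Subgroup.card_map_of_injective (MulEquiv.injective _), Subgroup.card_map_of_injective hψ₃]

theorem dichotomyS {S : Sylow p G} (hS : Setting S) (hd : NoChar (S : Subgroup G))
    (hopp : ∃ g : G, Opp ⊤ (pCore p G) (S : Subgroup G) (cj g (S : Subgroup G))) :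
    (∃ A, OneS S A) ∨ ∃ T' X Y A C D : Subgroup G, TwoS S T' X Y A C D := by
  obtain ⟨𝒮, Am, b, hb, C, hc⟩ := exists_ambience hS hd hopp
  have hb1 := C.hb
  obtain rfl | rfl : b = 1 ∨ b = 2 := by omega
  · obtain ⟨ψ, P⟩ := Am.pull _ _ (C.edge_l 0 (by omega))
    exact Or.inl (exists_oneS hc P)
  · obtain ⟨Ln⟩ := exists_line C hc (Am.markedAll _) 5 (by omega)
    obtain ⟨ψ, P⟩ := Am.pull _ _ (Ln.edge_l 2 (by omega))
    obtain ⟨ψ₃, P₃⟩ := Am.pull _ _ (Ln.edge_l 3 (by omega))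
    exact Or.inr (exists_twoS Ln.toChain Ln.crit (fun i hi => Ln.opp i (by omega)) P P₃ hS (hd.mild hS))

end CfsgLib.BlockPush
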