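import Cfsg.Agent.Lib.BlockPush.Supp
import Cfsg.Agent.Lib.BlockPush.PushPlus
import Cfsg.Agent.Lib.BlockPush.CompFacts

/-!
The two configurations at the components, seen in the whole group.
-/

set_option autoImplicit false
set_option linter.unusedSectionVars false
set_option linter.style.haveILetI false

namespace CfsgLib.BlockPush

open Cfsg CfsgLib CfsgLib.RootCommute CfsgLib.RootBlocks
open CfsgLib.SL2Pair (fix)
open CfsgLib.StrongFusion (cm cm_cm cm_one cm_inv_cm cm_mono card_cm conj_mem_cm)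
open scoped commutatorElement Pointwise

universe u

variable {G : Type u} [Group G] [Finite G] {p : ℕ} [hp : Fact p.Prime]

attribute [local instance] commGroupOf

/-- The subgroup of one component, with what is known about its image. -/
structure Local (T : Sylow p G) {r : ℕ} (E : Fin r → Subgroup (G ⧸ cV p G)) (i : Fin r) (H : Subgroup G)
    (R : Subgroup (G ⧸ cV p G)) (S : Sylow p ↥H) : Prop where
  supp : Supp T H R S
  le_all : R ≤ ⨆ j, E j
  offs_le : offs (qAct p G) (T.mapSurjective qC_surjective) ⊤ ≤ R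
  part : ∀ g ∈ R, ∀ a, ∀ j, j ≠ i → IsPart (qAct p G) (E j) g a →
    a ∈ offs (qAct p G) (T.mapSurjective qC_surjective) (E j)

/-- The elements of order prime to `p` move `O_p(G)` only inside `V`. -/
def Quiet (p : ℕ) (G : Type u) [Group G] : Prop :=
  ∀ r : G, (orderOf r).Coprime p → ∀ q ∈ pCore p G, r * q * r⁻¹ * q⁻¹ ∈ vQ p G

/-- The long configuration at a component. -/
def TwoAt (T : Sylow p G) {r : ℕ} (E : Fin r → Subgroup (G ⧸ cV p G)) (i : Fin r) : Prop :=
  ∃ (H : Subgroup G) (R : Subgroup (G ⧸ cV p G)) (S : Sylow p ↥H), Local T E i H R S ∧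
    ∃ (F : Type) (_ : Field F) (_ : Fintype F) (_ : CharP F p) (f : ↥H →* Matrix.ProjectiveSpecialLinearGroup (Fin 2) F)
      (T' X Y A C D : Subgroup ↥H), TwoS S T' X Y A C D ∧ PushUp.Coords p F (pCore p ↥H) (S : Subgroup ↥H) T' f

namespace Ctx

variable {T : Sylow p G} {M : Subgroup G} (c : Ctx T M)
include c
variable {r : ℕ} {E : Fin r → Subgroup (G ⧸ cV p G)}
  (L : Layout (qAct p G) (T.mapSurjective qC_surjective) (M.map (qC p G)) E)
include L

theorem coprime_fix_xQ {r x : G} (hr : (orderOf r).Coprime p) (hrC : r ∈ cV p G) (hx : x ∈ xQ T) :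
    r * x * r⁻¹ = x := by
  have h := c.jG_xQ L (c.mem_jG_of_coprime L hr) hx
  exact c.eq_of_translation L hr (vQ_pow h) (Subgroup.mem_centralizer_iff.1 hrC _ h).symm

/-- An element of order prime to `p` centralizing `V` and moving `O_p(G)` only inside `X` is trivial. -/
theorem coprime_eq_one {r : G} (hr : (orderOf r).Coprime p) (hrC : r ∈ cV p G)
    (h : ∀ q ∈ pCore p G, r * q * r⁻¹ * q⁻¹ ∈ xQ T) : r = 1 := by
  have hcent : r ∈ Subgroup.centralizer (pCore p G : Set G) := Subgroup.mem_centralizer_iff.2 fun q hq => by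
    have hd := h q hq
    have e := c.eq_of_translation L hr (c.xQ_comm L hd hd).2
      (mul_inv_eq_iff_eq_mul.1 (c.coprime_fix_xQ L hr hrC hd))
    exact (mul_inv_eq_iff_eq_mul.1 e).symm
  obtain ⟨j, hj⟩ := isPGroup_pCore (G := G) p ⟨r, c.charp hcent⟩
  rw [← orderOf_eq_one_iff]
  exact Nat.dvd_one.1 ((hr.pow_right j) ▸ Nat.dvd_gcd dvd_rfl (orderOf_dvd_of_pow_eq_one (congrArg Subtype.val hj)))

theorem eq_core_of_coprime (h : ∀ r ∈ cV p G, (orderOf r).Coprime p → r = 1) : cV p G = pCore p G := by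
  refine le_antisymm (c.pgroup_le_core (fun x => ?_) le_rfl) core_le_cV
  obtain ⟨k, hk⟩ := PResidual.exists_pow_coprime (p := p) (x : G)
  exact ⟨k, Subtype.ext (h _ (pow_mem x.2 _) hk)⟩

variable {i : Fin r} {H : Subgroup G} {R : Subgroup (G ⧸ cV p G)} {S : Sylow p ↥H}

theorem vmod_le_xQ (hl : Local T E i H R S) {v : ↥H} (hv : v ∈ PushUp.vmod S) : (v : G) ∈ xQ T := by
  haveI : ((xQ T).subgroupOf H).Normal := by infer_instance
  have hle : PushUp.vmod S ≤ (xQ T).subgroupOf H := Subgroup.normalClosure_le_normal fun z hz => by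
    refine tZ_le_xQ T ?_
    obtain ⟨hzS, hzc⟩ := hz
    have hzB : (z : G) ∈ tB T := hl.supp.sylow.le hzS
    have hzJ : ∀ j ∈ tJ T, (z : G) * j = j * z := fun j hj => by
      have hjB := tJ_le_tB T hj
      exact (congrArg Subtype.val (Subgroup.mem_centralizer_iff.1 hzc ⟨j, hl.supp.tB_le hjB⟩
        (hl.supp.sylow.ge hjB))).symm
    have hzp : (z : G) ^ p = 1 := congrArg Subtype.val ((hl.supp.noChar.mild hl.supp.setting).elem z ⟨hzS, hzc⟩)
    obtain ⟨A, hA⟩ := mx_nonempty T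
    have hzA := mem_of_mx hA (fun a ha => hzJ a (le_tJ hA ha)) hzp
    exact Subgroup.subset_closure ⟨Subgroup.mem_inf.2 ⟨le_tJ hA hzA,
      Subgroup.mem_centralizer_iff.2 fun j hj => (hzJ j hj).symm⟩, hzp⟩
  exact hle hv

theorem coprime_image (hl : Local T E i H R S) {g : G} (hg : g ∈ H) (hc : (orderOf g).Coprime p) :
    qC p G g ∈ E i := by
  have hR : qC p G g ∈ R := hl.supp.map_eq ▸ Subgroup.mem_map_of_mem _ hg
  have hgE := hl.le_all hR
  have hone : ∀ j, j ≠ i → L.partHom j ⟨_, hgE⟩ = 1 := by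
    intro j hj
    have hmem := hl.part _ hR _ j hj (L.isPart_partHom j ⟨_, hgE⟩)
    obtain ⟨k, hk⟩ := (T.mapSurjective qC_surjective).2 ⟨_, (offs_le hmem).1⟩
    have hk' : L.partHom j ⟨_, hgE⟩ ^ p ^ k = 1 := by
      have h2 : ((L.partHom j ⟨_, hgE⟩ : ↥(E j)) : G ⧸ cV p G) ^ p ^ k = 1 := by
        have h3 := congrArg Subtype.val hk
        rwa [SubmonoidClass.coe_pow] at h3
      exact Subtype.ext (by rw [SubmonoidClass.coe_pow]; exact h2)
    have h1 : orderOf (L.partHom j ⟨_, hgE⟩) ∣ Nat.gcd (p ^ k) (orderOf g) := Nat.dvd_gcd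
      (orderOf_dvd_of_pow_eq_one hk')
      ((orderOf_map_dvd _ _).trans (by rw [← Subgroup.orderOf_coe]; exact orderOf_map_dvd _ g))
    rw [(hc.pow_right k).symm, Nat.dvd_one, orderOf_eq_one_iff] at h1
    exact h1
  have e : (⟨_, hgE⟩ : ↥(⨆ j, E j)) = ⟨_, le_iSup E i (L.partHom i ⟨_, hgE⟩).2⟩ := by
    refine L.eq_of_partHom fun j => ?_
    by_cases h : j = i
    · subst h; exact (Subtype.ext (L.partHom_self (L.partHom j ⟨_, hgE⟩).2)).symm
    · rw [hone j h, L.partHom_other (Ne.symm h) (L.partHom i ⟨_, hgE⟩).2]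
  have e' : qC p G g = ((L.partHom i ⟨_, hgE⟩ : ↥(E i)) : G ⧸ cV p G) := congrArg Subtype.val e
  rw [e']
  exact (L.partHom i ⟨_, hgE⟩).2

theorem quiet_of_one (hl : Local T E i H R S) {A : Subgroup ↥H} (hA : OneS S A) : Quiet p G := by
  haveI := c.qZero_normal L
  set K := PushUp.actKer (pCore p G) (vQ p G) with hK
  haveI : K.Normal := PushUp.actKer_normal _ _
  have hin : ∀ g ∈ H, (orderOf g).Coprime p → g ∈ K := by
    intro r hr hc q hq
    set d := r * q * r⁻¹ * q⁻¹ with hd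
    have hdQ0 : d ∈ qZero T := by
      have := inv_mem (hl.supp.comm_core q hq r hr)
      rwa [show (q * r * q⁻¹ * r⁻¹)⁻¹ = d by rw [hd]; group] at this
    have hdp : ∀ X : Subgroup G, ∃ k : ℕ, d ^ p ^ k ∈ X := fun X => by
      obtain ⟨k, hk⟩ := isPGroup_pCore (G := G) p ⟨d, hdQ0.1⟩
      exact ⟨k, by rw [show d ^ p ^ k = 1 from congrArg Subtype.val hk]; exact one_mem _⟩
    have hdq : r * q * r⁻¹ = d * q := by rw [hd]; group
    have h1 := hA.toOne.res_Q hl.supp.setting (hl.supp.noChar.mild hl.supp.setting)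
      ⟨d, hl.supp.tB_le hdQ0.2⟩ (hl.supp.qZero_le hdQ0) ⟨r, hr⟩
      (Subgroup.subset_closure (by rwa [Set.mem_setOf_eq, Subgroup.orderOf_mk]))
    have hdX : d ∈ xQ T := PushUp.push_down hc hdq (hdp _) (c.vmod_le_xQ L hl h1)
    exact PushUp.push_down hc hdq (hdp _) (c.jG_xQ L (c.mem_jG_of_coprime L hc) hdX)
  have hres : pResidualOf p H ≤ K := BBlock.pResidualOf_le hin
  have hle : H ≤ K ⊔ (T : Subgroup G) := fun g hg => by
    have h1 := (PResidual.pResidual_sup_sylow S).ge (Subgroup.mem_top (⟨g, hg⟩ : ↥H))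
    haveI := PResidual.pResidual_normal (G := ↥H) (p := p)
    obtain ⟨s, hs, k, hk, e⟩ := Subgroup.mem_sup_of_normal_right.1 h1
    rw [show g = (s : G) * (k : G) from (congrArg Subtype.val e).symm]
    exact mul_mem (Subgroup.mem_sup_right (tB_le T (hl.supp.sylow.le hs)))
      (Subgroup.mem_sup_left (hres ⟨k, hk, rfl⟩))
  have htop : (T : Subgroup G) ⊔ K = ⊤ :=
    top_le_iff.1 (hl.supp.sup_T.ge.trans (sup_le (hle.trans (sup_comm K (T : Subgroup G)).le) le_sup_left))
  exact fun r hr => PResidual.pResidual_le_of_sup_eq_top T.2 htop (Subgroup.subset_closure hr)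

/-- **Either the elements of order prime to `p` are quiet, or every component is in the long configuration.** -/
theorem quiet_or_two : Quiet p G ∨ ∀ i, TwoAt T E i := by
  by_cases hq : Quiet p G
  · exact Or.inl hq
  refine Or.inr fun i => ?_
  obtain ⟨H, R, S, hs, hRE, hJR, hpart, F, iF, iF', n, f, T', -, -, hch, hopp, hconj, hco⟩ := c.exists_supp L i
  obtain ⟨g, rfl⟩ := hconj
  have hl : Local T E i H R S := ⟨hs, hRE, hJR, hpart⟩
  rcases dichotomyS hs.setting hs.noChar ⟨g, hopp⟩ with ⟨A, hA⟩ | ⟨T'', X, Y, A, C, D, h2⟩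
  · exact absurd (c.quiet_of_one L hl hA) hq
  · obtain ⟨f', hco'⟩ : ∃ f', PushUp.Coords p F (pCore p ↥H) (S : Subgroup ↥H) T'' f' := by
      exact PushUp.exists_coords_of hs.setting hs.uniq_max f hco.surj h2.opp h2.conj
    exact ⟨H, R, S, hl, F, iF, iF', hch, f', T'', X, Y, A, C, D, h2, hco'⟩

theorem p_eq_three (h : ∀ i, TwoAt T E i) (i : Fin r) : p = 3 := by
  obtain ⟨H, R, S, hl, F, _, _, _, f, T', X, Y, A, C, D, h2, hco⟩ := h i
  exact h2.toTwo.p_eq_three hl.supp.setting (hl.supp.noChar.mild hl.supp.setting) hco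

end Ctx

end CfsgLib.BlockPush
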