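import Cfsg.Agent.Lib.SymSylowMaximal
import Cfsg.Agent.Lib.RootCommute.Module
import Cfsg.Agent.Lib.PushUp.Natural
import Mathlib.Data.ZMod.Basic

/-!
The even-weight module of a symmetric group of odd degree over the field with two elements.
-/

set_option autoImplicit false
set_option linter.unusedSectionVars false

namespace CfsgLib.BlockPush

open CfsgLib Equiv CfsgLib.RootCommute
open CfsgLib.SL2Pair (fix mem_fix)
open scoped BigOperators

universe u

variable {α : Type u} [Fintype α] [DecidableEq α]

/-- The vectors of even weight. -/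
def evenVec (α : Type u) [Fintype α] : AddSubgroup (α → ZMod 2) where
  carrier := {v | ∑ i, v i = 0}
  zero_mem' := by simp
  add_mem' {v w} hv hw := by
    show ∑ i, (v + w) i = 0
    simp only [Pi.add_apply, Finset.sum_add_distrib]
    rw [show ∑ i, v i = 0 from hv, show ∑ i, w i = 0 from hw, add_zero]
  neg_mem' {v} hv := by
    show ∑ i, (-v) i = 0
    simp only [Pi.neg_apply, Finset.sum_neg_distrib]
    rw [show ∑ i, v i = 0 from hv, neg_zero]

theorem mem_evenVec {v : α → ZMod 2} : v ∈ evenVec α ↔ ∑ i, v i = 0 := Iff.rfl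

/-- The permutation action. -/
def natPerm : Perm α →* AddMonoid.End ↥(evenVec α) where
  toFun g :=
    { toFun := fun v => ⟨fun i => (v : α → ZMod 2) (g⁻¹ i), by
        rw [mem_evenVec, Equiv.sum_comp g⁻¹ (v : α → ZMod 2)]; exact v.2⟩
      map_zero' := rfl
      map_add' := fun _ _ => rfl }
  map_one' := rfl
  map_mul' _ _ := rfl

theorem natPerm_apply (g : Perm α) (v : ↥(evenVec α)) (i : α) :
    (natPerm g v : α → ZMod 2) i = (v : α → ZMod 2) (g⁻¹ i) := rfl

theorem two_smul_evenVec (v : ↥(evenVec α)) : 2 • v = 0 := by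
  refine Subtype.ext (funext fun i => ?_)
  show 2 • (v : α → ZMod 2) i = 0
  rw [two_nsmul]
  exact CharTwo.add_self_eq_zero _

theorem add_self_evenVec (v : ↥(evenVec α)) : v + v = 0 := by rw [← two_nsmul, two_smul_evenVec]

/-- The vector supported on two points. -/
def pairVec (a b : α) : ↥(evenVec α) :=
  ⟨Pi.single a 1 + Pi.single b 1, by
    rw [mem_evenVec]
    simp only [Pi.add_apply, Finset.sum_add_distrib, Finset.sum_pi_single', Finset.mem_univ, if_true]
    exact CharTwo.add_self_eq_zero _⟩

theorem pairVec_coe (a b i : α) :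
    (pairVec a b : α → ZMod 2) i = (if i = a then 1 else 0) + if i = b then 1 else 0 := by
  simp [pairVec, Pi.single_apply]

theorem pairVec_self (a : α) : pairVec a a = 0 :=
  Subtype.ext (funext fun i => by rw [pairVec_coe]; exact CharTwo.add_self_eq_zero _)

theorem pairVec_comm (a b : α) : pairVec a b = pairVec b a :=
  Subtype.ext (funext fun i => by rw [pairVec_coe, pairVec_coe, add_comm])

theorem pairVec_add (a b c : α) : pairVec a b + pairVec b c = pairVec a c :=
  Subtype.ext (funext fun i => by
    show (pairVec a b : α → ZMod 2) i + (pairVec b c : α → ZMod 2) i = _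
    rw [pairVec_coe, pairVec_coe, pairVec_coe]
    generalize (if i = a then (1 : ZMod 2) else 0) = x
    generalize (if i = b then (1 : ZMod 2) else 0) = y
    generalize (if i = c then (1 : ZMod 2) else 0) = z
    revert x y z
    decide)

theorem natPerm_pairVec (g : Perm α) (a b : α) : natPerm g (pairVec a b) = pairVec (g a) (g b) :=
  Subtype.ext (funext fun i => by
    rw [natPerm_apply, pairVec_coe, pairVec_coe]
    have h : ∀ c, (g⁻¹ i = c) = (i = g c) := fun c => propext
      ⟨fun e => by rw [← e]; simp, fun e => by rw [e]; simp⟩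
    simp only [h])

theorem pairVec_apply_left {a b : α} (h : a ≠ b) : (pairVec a b : α → ZMod 2) a = 1 := by
  simp [pairVec_coe, h]

theorem pairVec_apply_other {a b i : α} (ha : i ≠ a) (hb : i ≠ b) : (pairVec a b : α → ZMod 2) i = 0 := by
  simp [pairVec_coe, ha, hb]

theorem pairVec_ne_zero {a b : α} (h : a ≠ b) : pairVec a b ≠ 0 := fun e => by
  have h1 := pairVec_apply_left h
  rw [e] at h1
  exact zero_ne_one h1

theorem pairVec_eq_iff {a b c d : α} (hab : a ≠ b) :
    pairVec a b = pairVec c d → (c = a ∧ d = b) ∨ (c = b ∧ d = a) := by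
  intro e
  have h1 : (pairVec c d : α → ZMod 2) a = 1 := e ▸ pairVec_apply_left hab
  have h2 : (pairVec c d : α → ZMod 2) b = 1 := e ▸ (pairVec_comm a b ▸ pairVec_apply_left hab.symm)
  have ha : a = c ∨ a = d := by
    by_contra hno
    push Not at hno
    rw [pairVec_apply_other hno.1 hno.2] at h1
    exact zero_ne_one h1
  have hb : b = c ∨ b = d := by
    by_contra hno
    push Not at hno
    rw [pairVec_apply_other hno.1 hno.2] at h2
    exact zero_ne_one h2
  rcases ha with rfl | rfl <;> rcases hb with rfl | rfl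
  · exact absurd rfl hab
  · exact Or.inl ⟨rfl, rfl⟩
  · exact Or.inr ⟨rfl, rfl⟩
  · exact absurd rfl hab

/-- A vector is determined outside one point. -/
theorem ext_off {x : α} {v w : ↥(evenVec α)}
    (h : ∀ i, i ≠ x → (v : α → ZMod 2) i = (w : α → ZMod 2) i) : v = w := by
  refine Subtype.ext (funext fun i => ?_)
  by_cases hi : i = x
  · subst hi
    have hv := mem_evenVec.1 v.2
    have hw := mem_evenVec.1 w.2
    rw [Fintype.sum_eq_add_sum_compl i] at hv hw
    have : ∑ j ∈ ({i} : Finset α)ᶜ, (v : α → ZMod 2) j = ∑ j ∈ ({i} : Finset α)ᶜ, (w : α → ZMod 2) j :=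
      Finset.sum_congr rfl fun j hj => h j (by simpa using hj)
    exact add_right_cancel (hv.trans hw.symm |>.trans (by rw [this]))
  · exact h i hi

/-- The vectors through one point span. -/
theorem eq_sum_pairVec (x : α) (v : ↥(evenVec α)) :
    v = ∑ a ∈ Finset.univ.filter (fun a => a ≠ x ∧ (v : α → ZMod 2) a = 1), pairVec a x := by
  refine ext_off (x := x) fun i hi => ?_
  rw [AddSubgroup.val_finsetSum, Finset.sum_apply]
  rcases (show (v : α → ZMod 2) i = 0 ∨ (v : α → ZMod 2) i = 1 from by
    generalize (v : α → ZMod 2) i = z; revert z; decide) with h | h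
  · rw [h, Finset.sum_eq_zero]
    intro a ha
    have hai : i ≠ a := by
      rintro rfl
      rw [(Finset.mem_filter.1 ha).2.2] at h
      exact one_ne_zero h
    exact pairVec_apply_other hai hi
  · rw [h, Finset.sum_eq_single i (fun a _ hai => pairVec_apply_other (Ne.symm hai) hi)
      (fun hno => absurd (Finset.mem_filter.2 ⟨Finset.mem_univ i, hi, h⟩) hno)]
    exact (pairVec_apply_left hi).symm

/-- An endomorphism is determined by the vectors through one point. -/
theorem end_ext (x : α) {t t' : AddMonoid.End ↥(evenVec α)} (h : ∀ a, t (pairVec a x) = t' (pairVec a x)) :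
    t = t' := by
  refine AddMonoidHom.ext fun v => ?_
  conv_lhs => rw [eq_sum_pairVec x v]
  conv_rhs => rw [eq_sum_pairVec x v]
  refine (map_sum t _ _).trans ((Finset.sum_congr rfl fun a _ => h a).trans (map_sum t' _ _).symm)

theorem natPerm_injective (h3 : 3 ≤ Fintype.card α) : Function.Injective (natPerm (α := α)) := by
  refine (injective_iff_map_eq_one _).2 fun g hg => ?_
  by_contra hne
  obtain ⟨a, ha⟩ : ∃ a, g a ≠ a := by
    by_contra hno
    push Not at hno
    exact hne (Equiv.ext hno)
  obtain ⟨b, hba, hbg⟩ : ∃ b, b ≠ a ∧ b ≠ g a := by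
    have h2 : ({a, g a} : Finset α).card < (Finset.univ : Finset α).card :=
      lt_of_le_of_lt (Finset.card_le_two) (by rw [Finset.card_univ]; omega)
    obtain ⟨b, -, hb⟩ := Finset.exists_mem_notMem_of_card_lt_card h2
    exact ⟨b, fun e => hb (by simp [e]), fun e => hb (by simp [e])⟩
  have h1 : natPerm g (pairVec a b) = pairVec a b := by rw [hg]; rfl
  rw [natPerm_pairVec] at h1
  rcases pairVec_eq_iff (fun e => hba (g.injective e).symm) h1 with ⟨e, -⟩ | ⟨-, e⟩
  · exact ha e.symm
  · exact hbg e

/-- An involution moving only along one vector is a transposition. -/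
theorem swap_of_rank_one (hodd : Odd (Fintype.card α)) {g : Perm α} {v : ↥(evenVec α)} (hg : ∀ i, g (g i) = i)
    (hne : g ≠ 1) (hd : ∀ u, natPerm g u = u ∨ natPerm g u = u + v) :
    ∃ i k, i ≠ k ∧ g = swap i k ∧ v = pairVec i k := by
  obtain ⟨f, hf⟩ : ∃ f, g f = f := by
    by_contra hno
    push Not at hno
    refine Nat.not_even_iff_odd.2 hodd ?_
    have hp : SymSylow.IsPairing g := ⟨hg, fun a b ha _ => absurd ha (hno a)⟩
    by_contra hev
    obtain ⟨u, hu⟩ := (SymSylow.exists_fixed_iff_odd hp).2 (Nat.not_even_iff_odd.1 hev)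
    exact hno u hu
  have hmove : ∀ i, g i ≠ i → v = pairVec i (g i) := by
    intro i hi
    rcases hd (pairVec i f) with h | h
    · rw [natPerm_pairVec, hf] at h
      have hne' : g i ≠ f := fun e => hi (by
        have h' := congrArg g e
        rw [hg, hf] at h'
        exact e.trans h'.symm)
      rcases pairVec_eq_iff hne' h with ⟨e, -⟩ | ⟨-, e⟩
      · exact absurd e.symm hi
      · exact absurd e.symm hne'
    · rw [natPerm_pairVec, hf] at h
      have h' := congrArg (fun z => pairVec i f + z) h
      simp only [← add_assoc, add_self_evenVec, zero_add] at h'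
      rw [← h', pairVec_comm (g i) f, pairVec_add]
  obtain ⟨i, hi⟩ : ∃ i, g i ≠ i := by
    by_contra hno
    push Not at hno
    exact hne (Equiv.ext hno)
  refine ⟨i, g i, Ne.symm hi, Equiv.ext fun j => ?_, hmove i hi⟩
  rcases eq_or_ne j i with rfl | hji
  · rw [swap_apply_left]
  rcases eq_or_ne j (g i) with rfl | hjgi
  · rw [swap_apply_right, hg]
  rw [swap_apply_of_ne_of_ne hji hjgi]
  by_contra hj
  rcases pairVec_eq_iff (Ne.symm hj) ((hmove j hj).symm.trans (hmove i hi)) with ⟨e, -⟩ | ⟨e, -⟩
  · exact hji e.symm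
  · exact hjgi (by rw [e, hg])

end CfsgLib.BlockPush
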