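import Cfsg.Agent.Lib.BlockPush.Piece
import Cfsg.Agent.Lib.BlockPush.PermAux
import Cfsg.Agent.Lib.RootBlocks.PermBound
import Mathlib.GroupTheory.Perm.Sign

/-!
The symmetric component of degree `2ⁿ + 1` on its even-weight module.
-/

set_option autoImplicit false
set_option linter.unusedSectionVars false

namespace CfsgLib.BlockPush

open CfsgLib CfsgLib.RootCommute Equiv CfsgLib.SymSylow
open CfsgLib.SL2Pair (fix mem_fix)
open CfsgLib.StrongFusion (cm)

universe u

variable {α : Type u} [Fintype α] [DecidableEq α]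

/-- The subgroup generated by the transpositions of a pairing. -/
def pairGrp (μ : Perm α) : Subgroup (Perm α) := Subgroup.closure (Set.range fun a => swap a (μ a))

theorem swap_mem_pairGrp (μ : Perm α) (a : α) : swap a (μ a) ∈ pairGrp μ :=
  Subgroup.subset_closure ⟨a, rfl⟩

theorem pairKernel_le {μ : Perm α} (hμ : IsPairing μ) : pairKernel μ hμ.invol ≤ pairGrp μ := by
  intro g hg
  induction hn : g.support.card using Nat.strong_induction_on generalizing g with
  | _ k ih =>
  by_cases h1 : g = 1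
  · rw [h1]; exact one_mem _
  obtain ⟨a, ha⟩ : ∃ a, g a ≠ a := by
    by_contra hno
    push Not at hno
    exact h1 (Equiv.ext hno)
  have hga : g a = μ a := (hg a).resolve_left ha
  have hmem := swap_mem_pairKernel μ hμ.invol a
  have hlt : (swap a (μ a) * g).support.card < k := by
    subst hn
    refine Finset.card_lt_card ((Finset.ssubset_iff_of_subset fun x hx => ?_).2 ⟨a, Perm.mem_support.2 ha, ?_⟩)
    · rw [Perm.mem_support] at hx ⊢
      intro hgx
      rw [Perm.mul_apply, hgx] at hx
      refine hx (swap_apply_of_ne_of_ne (fun e => ha (by rw [← e, hgx])) fun e => ?_)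
      exact ha (g.injective ((by rw [hga, ← e] : g a = x).trans hgx.symm) ▸ hgx)
    · rw [Perm.notMem_support, Perm.mul_apply, hga, swap_apply_right]
  have h2 := ih _ hlt (mul_mem hmem hg) rfl
  have e : g = swap a (μ a) * (swap a (μ a) * g) := (swap_mul_self_mul _ _ _).symm
  rw [e]
  exact mul_mem (swap_mem_pairGrp μ a) h2

theorem pairGrp_le {μ : Perm α} (hμ : IsPairing μ) : pairGrp μ ≤ pairKernel μ hμ.invol :=
  (Subgroup.closure_le _).2 (by rintro _ ⟨a, rfl⟩; exact swap_mem_pairKernel μ hμ.invol a)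

theorem fix_pairGrp {μ : Perm α} (hμ : IsPairing μ) {v : ↥(evenVec α)} :
    v ∈ fix natPerm (pairGrp μ) ↔ ∀ a, (v : α → ZMod 2) (μ a) = (v : α → ZMod 2) a := by
  refine ⟨fun h a => ?_, fun h g hg => Subtype.ext (funext fun i => ?_)⟩
  · have h1 := congrFun (congrArg Subtype.val (h _ (swap_mem_pairGrp μ a))) a
    rwa [natPerm_apply, swap_inv, swap_apply_left] at h1
  · rw [natPerm_apply]
    rcases (pairKernel μ hμ.invol).inv_mem (pairGrp_le hμ hg) i with e | e <;> rw [e]
    exact h i

/-- Exchanges three points by a permutation of three letters, as a matrix. -/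
def threeMat (π : Perm (Fin 3)) : Matrix (Fin 2) (Fin 2) (ZMod 2) := fun i j =>
  (if π j.castSucc = i.castSucc then 1 else 0) + if π 2 = i.castSucc then 1 else 0

theorem threeMat_det : ∀ π : Perm (Fin 3), (threeMat π).det = 1 := by
  simp only [Matrix.det_fin_two]
  decide

/-- `Sym(3) → SL₂(2)`. -/
def threeSL : Perm (Fin 3) →* Matrix.SpecialLinearGroup (Fin 2) (ZMod 2) where
  toFun π := ⟨threeMat π, threeMat_det π⟩
  map_one' := Subtype.ext (by ext i j; fin_cases i <;> fin_cases j <;> decide)
  map_mul' := by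
    suffices h : ∀ a b : Perm (Fin 3), ∀ i j, threeMat (a * b) i j =
        threeMat a i 0 * threeMat b 0 j + threeMat a i 1 * threeMat b 1 j by
      intro a b
      refine Subtype.ext ?_
      ext i j
      show threeMat (a * b) i j = (threeMat a * threeMat b) i j
      rw [Matrix.mul_apply, Fin.sum_univ_two]
      exact h a b i j
    intro a b i j
    fin_cases i <;> fin_cases j <;> (revert a b; decide)

theorem threeSL_surjective : Function.Surjective threeSL := by
  rw [← MonoidHom.range_eq_top]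
  refine PushUp.sl_top_of_transvections (fun t => ?_) fun t => ?_
  · rcases (show t = 0 ∨ t = 1 from by revert t; decide) with rfl | rfl
    · exact ⟨1, by rw [map_one]; exact Subtype.ext (by simp [PSL2.coe_uSL, Matrix.one_fin_two])⟩
    · exact ⟨swap 0 2, Subtype.ext (by ext i j; fin_cases i <;> fin_cases j <;> decide)⟩
  · rcases (show t = 0 ∨ t = 1 from by revert t; decide) with rfl | rfl
    · exact ⟨1, by rw [map_one]; exact Subtype.ext (by simp [PSL2.coe_vSL, Matrix.one_fin_two])⟩
    · exact ⟨swap 1 2, Subtype.ext (by ext i j; fin_cases i <;> fin_cases j <;> decide)⟩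

/-- The permutations of a triple and of the pairs of `μ` outside it. -/
def tripleStab (μ : Perm α) (hμ : ∀ a, μ (μ a) = a) (T3 : Set α) (hT : ∀ a ∈ T3, μ a ∈ T3) :
    Subgroup (Perm α) where
  carrier := {g | ∀ a, (g a ∈ T3 ↔ a ∈ T3) ∧ (a ∉ T3 → g a = a ∨ g a = μ a)}
  one_mem' a := ⟨Iff.rfl, fun _ => Or.inl rfl⟩
  mul_mem' {g h} hg hh a := by
    refine ⟨((hg (h a)).1).trans (hh a).1, fun ha => ?_⟩
    have hha : h a ∉ T3 := fun e => ha ((hh a).1.1 e)
    have hμa : μ a ∉ T3 := fun e => ha (hμ a ▸ hT _ e)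
    rw [Perm.mul_apply]
    rcases (hh a).2 ha with e | e <;> rw [e]
    · exact (hg a).2 ha
    · rcases (hg (μ a)).2 hμa with e' | e' <;> rw [e']
      · exact Or.inr rfl
      · exact Or.inl (hμ a)
  inv_mem' {g} hg a := by
    have key : g⁻¹ a ∈ T3 ↔ a ∈ T3 := by
      have := (hg (g⁻¹ a)).1
      simpa using this.symm
    refine ⟨key, fun ha => ?_⟩
    rcases (hg (g⁻¹ a)).2 (fun e => ha (key.1 e)) with e | e
    · exact Or.inl (by simpa using e.symm)
    · refine Or.inr ?_
      have e' : a = μ (g⁻¹ a) := by simpa using e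
      conv_rhs => rw [e', hμ]

section Main

variable {n : ℕ} (hn : 1 ≤ n) (hcard : Fintype.card α = 2 ^ n + 1) (S : Sylow 2 (Perm α))
include hn hcard

theorem card_odd : Odd (Fintype.card α) := by
  obtain ⟨k, rfl⟩ := Nat.exists_eq_add_of_le' hn
  exact ⟨2 ^ k, by rw [hcard, pow_succ]; ring⟩

theorem three_le : 3 ≤ Fintype.card α := by
  have := Nat.pow_le_pow_right (n := 2) two_pos hn
  omega

theorem exists_gen {μ : Perm α} (hμ : IsPairing μ) {x : α} (hx : μ x = x) :
    ∃ g, pairGrp μ ⊔ cm g (pairGrp μ) = ⊤ := by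
  classical
  obtain ⟨e⟩ : Nonempty (α ≃ Fin (Fintype.card α)) := ⟨Fintype.equivFin α⟩
  let R : Finset α := Finset.univ.filter fun a => e a < e (μ a)
  let r := R.equivFin.symm
  set k := R.card
  let h : Fin (2 * k + 1) → α := fun j =>
    if hj : j.val = 0 then x
    else if j.val % 2 = 1 then (r ⟨(j.val - 1) / 2, by omega⟩ : α) else μ (r ⟨(j.val - 1) / 2, by omega⟩ : α)
  have hR : ∀ i, e (r i : α) < e (μ (r i : α)) := fun i => (Finset.mem_filter.1 (r i).2).2
  have hxR : ∀ i, (r i : α) ≠ x ∧ μ (r i : α) ≠ x := fun i => by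
    refine ⟨fun hh => ?_, fun hh => ?_⟩ <;> have h' := hR i
    · rw [hh, hx] at h'; exact lt_irrefl _ h'
    · have h2 := congrArg μ hh
      rw [hμ.invol, hx] at h2
      rw [hh, h2] at h'
      exact lt_irrefl _ h'
  have hinj : Function.Injective h := by
    intro i j hij
    simp only [h] at hij
    apply Fin.ext
    split_ifs at hij with a1 a2 a3 a4 a5 a6
    · omega
    · exact absurd hij.symm (hxR _).1
    · exact absurd hij.symm (hxR _).2
    · exact absurd hij (hxR _).1
    · have := r.injective (Subtype.ext hij)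
      simp only [Fin.mk.injEq] at this
      omega
    · exfalso
      have h1 := hR ⟨(i.val - 1) / 2, by omega⟩
      have h2 := hR ⟨(j.val - 1) / 2, by omega⟩
      rw [hij, hμ.invol] at h1
      exact lt_asymm h1 h2
    · exact absurd hij (hxR _).2
    · exfalso
      have h1 := hR ⟨(j.val - 1) / 2, by omega⟩
      have h2 := hR ⟨(i.val - 1) / 2, by omega⟩
      rw [← hij, hμ.invol] at h1
      exact lt_asymm h1 h2
    · have := r.injective (Subtype.ext (μ.injective hij))
      simp only [Fin.mk.injEq] at this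
      omega
  have hsurj : Function.Surjective h := by
    intro a
    by_cases hax : a = x
    · exact ⟨0, by simp [h, hax]⟩
    have hne : e (μ a) ≠ e a := e.injective.ne fun hh => hax (hμ.fixed a x hh hx)
    rcases lt_or_gt_of_ne hne with hlt | hlt
    · obtain ⟨i, hi⟩ := r.surjective ⟨μ a, Finset.mem_filter.2 ⟨Finset.mem_univ _, by rwa [hμ.invol]⟩⟩
      refine ⟨⟨2 * i.val + 2, by omega⟩, ?_⟩
      simp only [h]
      rw [dif_neg (by omega), if_neg (by omega)]
      rw [show (⟨(2 * i.val + 2 - 1) / 2, by omega⟩ : Fin k) = i from Fin.ext (by simp; omega), hi]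
      exact hμ.invol a
    · obtain ⟨i, hi⟩ := r.surjective ⟨a, Finset.mem_filter.2 ⟨Finset.mem_univ _, hlt⟩⟩
      refine ⟨⟨2 * i.val + 1, by omega⟩, ?_⟩
      simp only [h]
      rw [dif_neg (by omega), if_pos (by omega)]
      rw [show (⟨(2 * i.val + 1 - 1) / 2, by omega⟩ : Fin k) = i from Fin.ext (by simp), hi]
  let H := Equiv.ofBijective h ⟨hinj, hsurj⟩
  let sh : Perm (Fin (2 * k + 1)) :=
    { toFun := fun j => if hj : j.val = 0 then ⟨2 * k, by omega⟩ else ⟨j.val - 1, by omega⟩
      invFun := fun j => if hj : j.val = 2 * k then ⟨0, by omega⟩ else ⟨j.val + 1, by omega⟩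
      left_inv := fun j => by
        by_cases a : j.val = 0
        · simp only [dif_pos a]
          exact Fin.ext a.symm
        · have : j.val - 1 ≠ 2 * k := by have := j.isLt; omega
          simp only [dif_neg a, dif_neg this]
          exact Fin.ext (show j.val - 1 + 1 = j.val by omega)
      right_inv := fun j => by
        by_cases a : j.val = 2 * k
        · simp only [dif_pos a]
          exact Fin.ext a.symm
        · have : j.val + 1 ≠ 0 := by omega
          simp only [dif_neg a, dif_neg this]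
          exact Fin.ext (show j.val + 1 - 1 = j.val by omega) }
  let g : Perm α := (H.symm.trans sh).trans H
  have hμh : ∀ j, j % 2 = 1 → ∀ h1 : j < 2 * k + 1, ∀ h2 : j + 1 < 2 * k + 1,
      μ (h ⟨j, h1⟩) = h ⟨j + 1, h2⟩ := by
    intro j hj h1 h2
    simp only [h]
    rw [dif_neg (by omega), if_pos hj, dif_neg (by omega), if_neg (by omega)]
    congr 2
    exact congrArg r (Fin.ext (by simp; omega))
  have hgh : ∀ j, 1 ≤ j → ∀ h1 : j < 2 * k + 1, g (h ⟨j, h1⟩) = h ⟨j - 1, by omega⟩ := by
    intro j hj h1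
    show H (sh (H.symm (h ⟨j, h1⟩))) = _
    rw [show H.symm (h ⟨j, h1⟩) = ⟨j, h1⟩ from H.symm_apply_apply _]
    show h (if hj : j = 0 then (⟨2 * k, by omega⟩ : Fin (2 * k + 1)) else ⟨j - 1, by omega⟩) = _
    rw [dif_neg (by omega)]
  refine ⟨g, eq_top_iff.2 (Perm.closure_isSwap.ge.trans ((Subgroup.closure_le _).2 ?_))⟩
  set K := pairGrp μ ⊔ cm g (pairGrp μ)
  have hadj : ∀ j, ∀ h1 : j < 2 * k + 1, ∀ h2 : j + 1 < 2 * k + 1, swap (h ⟨j, h1⟩) (h ⟨j + 1, h2⟩) ∈ K := by
    intro j h1 h2
    rcases Nat.mod_two_eq_zero_or_one j with hp | hp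
    · have h3 : j + 1 + 1 < 2 * k + 1 := by omega
      refine Subgroup.mem_sup_right ⟨_, swap_mem_pairGrp μ (h ⟨j + 1, h2⟩), ?_⟩
      show g * swap (h ⟨j + 1, h2⟩) (μ (h ⟨j + 1, h2⟩)) * g⁻¹ = _
      rw [hμh (j + 1) (by omega) h2 h3, ← Equiv.swap_apply_apply, hgh (j + 1) (by omega) h2,
        hgh (j + 1 + 1) (by omega) h3]
      rfl
    · rw [← hμh j hp h1 h2]
      exact Subgroup.mem_sup_left (swap_mem_pairGrp μ _)
  have h0 : ∀ j, ∀ hj : j < 2 * k + 1, swap (h ⟨0, by omega⟩) (h ⟨j, hj⟩) ∈ K := by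
    intro j
    induction j with
    | zero => intro hj; rw [swap_self]; exact one_mem K
    | succ j ih =>
      intro hj
      by_cases hj0 : j = 0
      · subst hj0; exact hadj 0 (by omega) hj
      have hs := hadj j (by omega) hj
      have hne1 : h ⟨0, by omega⟩ ≠ h ⟨j, by omega⟩ := fun e => hj0 (by
        have := congrArg Fin.val (hinj e); simpa using this.symm)
      have hne2 : h ⟨0, by omega⟩ ≠ h ⟨j + 1, hj⟩ := fun e => by
        have := congrArg Fin.val (hinj e); simp at this
      have e := Equiv.swap_apply_apply (swap (h ⟨j, by omega⟩) (h ⟨j + 1, hj⟩)) (h ⟨0, by omega⟩) (h ⟨j, by omega⟩)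
      rw [swap_apply_of_ne_of_ne hne1 hne2, swap_apply_left, swap_inv] at e
      rw [e]
      exact mul_mem (mul_mem hs (ih (by omega))) hs
  rintro _ ⟨u, v, huv, rfl⟩
  obtain ⟨⟨i, hi⟩, rfl⟩ := hsurj u
  obtain ⟨⟨j, hj⟩, rfl⟩ := hsurj v
  by_cases hu : h ⟨i, hi⟩ = h ⟨0, by omega⟩
  · rw [hu]; exact h0 j hj
  by_cases hv : h ⟨j, hj⟩ = h ⟨0, by omega⟩
  · rw [hv, swap_comm]; exact h0 i hi
  have e := Equiv.swap_apply_apply (swap (h ⟨0, by omega⟩) (h ⟨i, hi⟩)) (h ⟨0, by omega⟩) (h ⟨j, hj⟩)
  rw [swap_apply_left, swap_apply_of_ne_of_ne hv (Ne.symm huv), swap_inv] at e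
  rw [e]
  exact mul_mem (mul_mem (h0 i hi) (h0 j hj)) (h0 i hi)

/-- Two displacements in the pairs. -/
theorem quad_pairGrp {μ : Perm α} (hμ : IsPairing μ) :
    img natPerm (pairGrp μ) ≤ fix natPerm (pairGrp μ) := by
  refine (RootCommute.img_le _).2 fun g hg v => (fix_pairGrp hμ).2 fun b => ?_
  have hk := (pairKernel μ hμ.invol).inv_mem (pairGrp_le hμ hg)
  show (v : α → ZMod 2) (g⁻¹ (μ b)) - (v : α → ZMod 2) (μ b) = (v : α → ZMod 2) (g⁻¹ b) - (v : α → ZMod 2) b
  have key : ∀ x y : ZMod 2, x - y = y - x := by decide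
  rcases hk b with e1 | e1 <;> rcases hk (μ b) with e2 | e2 <;> rw [e1, e2]
  · rw [sub_self, sub_self]
  · rw [hμ.invol]
    have := g⁻¹.injective (e1.trans ((hμ.invol b).symm.trans e2.symm))
    rw [← this]
  · have := g⁻¹.injective (e2.trans e1.symm)
    rw [this]
  · rw [hμ.invol]; exact key _ _

/-- A vector through the fixed point goes to one of its pair under a map fixing the pair vectors. -/
theorem fixer_step {μ : Perm α} (hμ : IsPairing μ) {x : α} (hx : μ x = x) {t t' : AddMonoid.End ↥(evenVec α)}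
    (htt' : ∀ u, t (t' u) = u) (ht't : ∀ u, t' (t u) = u)
    (hnorm : ∀ g, ∃ g', ∀ u, t (natPerm g (t' u)) = natPerm g' u)
    (hP : ∀ a, t (pairVec a (μ a)) = pairVec a (μ a)) {a : α} (ha : μ a ≠ a) :
    t (pairVec a x) = pairVec a x ∨ t (pairVec a x) = pairVec (μ a) x := by
  have hinj := natPerm_injective (three_le hn hcard) (α := α)
  have hconj : ∀ g : Perm α, g * g = 1 → g ≠ 1 → ∀ i k, g = swap i k →
      ∀ g', (∀ u, t (natPerm g (t' u)) = natPerm g' u) →
        ∃ i' k', i' ≠ k' ∧ g' = swap i' k' ∧ t (pairVec i k) = pairVec i' k' := by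
    intro g hg2 hg1 i k hgik g' hg'
    have h2 : g' * g' = 1 := hinj (AddMonoidHom.ext fun u => by
      rw [map_mul, map_one]
      show natPerm g' (natPerm g' u) = u
      rw [← hg', ← hg', ht't]
      exact (congrArg t (by rw [← act_mul, hg2, act_one])).trans (htt' u))
    refine swap_of_rank_one (card_odd hn hcard) (fun j => ?_) (fun e => hg1 (hinj ?_)) fun u => ?_
    · rw [← Perm.mul_apply, h2]; rfl
    · refine AddMonoidHom.ext fun u => ?_
      have h3 := congrArg t' (hg' (t u))
      rw [ht't, ht't, e, map_one] at h3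
      rw [map_one]
      exact h3.trans (ht't u)
    · have hd : natPerm g (t' u) = t' u ∨ natPerm g (t' u) = t' u + pairVec i k := by
        subst hgik
        generalize t' u = w
        by_cases he : (w : α → ZMod 2) i = (w : α → ZMod 2) k
        · refine Or.inl (Subtype.ext (funext fun j => ?_))
          rw [natPerm_apply, swap_inv, swap_apply_def]
          split_ifs with h1 h2
          · rw [h1, he]
          · rw [h2, he]
          · rfl
        · refine Or.inr (Subtype.ext (funext fun j => ?_))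
          have hik : i ≠ k := fun e => he (by rw [e])
          show (natPerm (swap i k) w : α → ZMod 2) j = (w : α → ZMod 2) j + (pairVec i k : α → ZMod 2) j
          rw [natPerm_apply, swap_inv, swap_apply_def, pairVec_coe]
          have key : ∀ y z : ZMod 2, y ≠ z → z = y + 1 := by decide
          split_ifs with h1 h2 h2
          · exact absurd (h1.symm.trans h2) hik
          · rw [h1, add_zero]; exact key _ _ he
          · rw [h2, zero_add]; exact key _ _ (Ne.symm he)
          · rw [add_zero, add_zero]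
      rcases hd with hd | hd <;> rw [← hg', hd]
      · exact Or.inl (htt' u)
      · exact Or.inr (by rw [map_add, htt'])
  have hsw : ∀ b, μ b ≠ b → ∀ g', (∀ u, t (natPerm (swap b (μ b)) (t' u)) = natPerm g' u) →
      g' = swap b (μ b) := by
    intro b hb g' hg'
    obtain ⟨i, k, hik, rfl, he⟩ := hconj _ (swap_mul_self _ _)
      (fun e => hb (swap_eq_one_iff.mp e).symm) b (μ b) rfl g' hg'
    rw [hP] at he
    rcases pairVec_eq_iff (Ne.symm hb) he with ⟨e1, e2⟩ | ⟨e1, e2⟩ <;> rw [e1, e2]
    exact swap_comm _ _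
  have hax : a ≠ x := fun e => ha (e ▸ hx)
  obtain ⟨g', hg'⟩ := hnorm (swap a x)
  obtain ⟨i, k, hik, rfl, he⟩ := hconj _ (swap_mul_self _ _) (fun e => hax (swap_eq_one_iff.mp e)) a x rfl g' hg'
  have hcomm : ∀ b, μ b ≠ b → (Commute (swap i k) (swap b (μ b)) ↔ Commute (swap a x) (swap b (μ b))) := by
    intro b hb
    obtain ⟨gb, hgb⟩ := hnorm (swap b (μ b))
    have hb' := hgb
    rw [hsw b hb gb hgb] at hb'
    constructor
    · intro hc
      refine hinj (AddMonoidHom.ext fun u => ?_)
      rw [map_mul, map_mul]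
      show natPerm (swap a x) (natPerm (swap b (μ b)) u) = natPerm (swap b (μ b)) (natPerm (swap a x) u)
      have h1 : ∀ w, natPerm (swap a x) w = t' (natPerm (swap i k) (t w)) := fun w => by
        have := congrArg t' (hg' (t w))
        rwa [ht't, ht't] at this
      have h2 : ∀ w, natPerm (swap b (μ b)) w = t' (natPerm (swap b (μ b)) (t w)) := fun w => by
        have := congrArg t' (hb' (t w))
        rwa [ht't, ht't] at this
      rw [h1 (natPerm (swap b (μ b)) u), h2 u, htt', h2 (natPerm (swap a x) u), h1 u, htt', ← act_mul, hc.eq,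
        act_mul]
    · intro hc
      refine hinj (AddMonoidHom.ext fun u => ?_)
      rw [map_mul, map_mul]
      show natPerm (swap i k) (natPerm (swap b (μ b)) u) = natPerm (swap b (μ b)) (natPerm (swap i k) u)
      have k1 : ∀ w, natPerm (swap i k) w = t (natPerm (swap a x) (t' w)) := fun w => (hg' w).symm
      have k2 : ∀ w, natPerm (swap b (μ b)) w = t (natPerm (swap b (μ b)) (t' w)) := fun w => (hb' w).symm
      rw [k1 (natPerm (swap b (μ b)) u), k2 u, ht't, k2 (natPerm (swap i k) u), k1 u, ht't, ← act_mul, hc.eq,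
        act_mul]
  have hnc : ∀ i k b c : α, i ≠ k → b ≠ c → ((i = b ∨ i = c) ∧ k ≠ b ∧ k ≠ c) →
      ¬ Commute (swap i k) (swap b c) := by
    rintro i k b c hik hbc ⟨hi, hkb, hkc⟩ hc
    have h1 := congrArg (fun π : Perm α => π k) hc.eq
    simp only [Perm.mul_apply, swap_apply_of_ne_of_ne hkb hkc, swap_apply_right] at h1
    rcases hi with rfl | rfl
    · exact hbc (h1.trans (swap_apply_left _ _))
    · exact hbc ((swap_apply_right b i).symm.trans h1.symm)
  have hcc : ∀ i k b c : α, i ≠ b → i ≠ c → k ≠ b → k ≠ c → Commute (swap i k) (swap b c) := by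
    intro i k b c h1 h2 h3 h4
    refine Perm.Disjoint.commute fun j => ?_
    by_cases hji : j = i
    · exact Or.inr (swap_apply_of_ne_of_ne (hji ▸ h1) (hji ▸ h2))
    by_cases hjk : j = k
    · exact Or.inr (swap_apply_of_ne_of_ne (hjk ▸ h3) (hjk ▸ h4))
    · exact Or.inl (swap_apply_of_ne_of_ne hji hjk)
  have hna : ¬ Commute (swap i k) (swap a (μ a)) := fun hc =>
    hnc a x a (μ a) hax (Ne.symm ha) ⟨Or.inl rfl, hax.symm, fun e => hax (by
      have := congrArg μ e
      rw [hx, hμ.invol] at this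
      exact this.symm)⟩ ((hcomm a ha).1 hc)
  obtain ⟨i, k, hik, hi, hkn, hv⟩ : ∃ i' k', i' ≠ k' ∧ (i' = a ∨ i' = μ a) ∧ (k' ≠ a ∧ k' ≠ μ a) ∧
      (t (pairVec a x) = pairVec i' k' ∧ ∀ b, μ b ≠ b → ¬ Commute (swap i' k') (swap b (μ b)) →
        ¬ Commute (swap a x) (swap b (μ b))) := by
    by_cases h1 : i = a ∨ i = μ a
    · by_cases h2 : k = a ∨ k = μ a
      · refine absurd ?_ hna
        rcases h1 with rfl | rfl <;> rcases h2 with rfl | rfl
        · exact absurd rfl hik
        · exact Commute.refl _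
        · rw [swap_comm (μ k) k]
        · exact absurd rfl hik
      · push Not at h2
        exact ⟨i, k, hik, h1, h2, he, fun b hb h hc => h ((hcomm b hb).2 hc)⟩
    · push Not at h1
      by_cases h2 : k = a ∨ k = μ a
      · exact ⟨k, i, hik.symm, h2, h1, he.trans (pairVec_comm i k), fun b hb h hc =>
          h (by rw [swap_comm k i]; exact (hcomm b hb).2 hc)⟩
      · push Not at h2
        exact absurd (hcc i k a (μ a) h1.1 h1.2 h2.1 h2.2) hna
  have hkx : k = x := by
    by_contra hkx
    have hk : μ k ≠ k := fun e => hkx (hμ.fixed k x e hx)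
    have hμk : μ k ≠ a ∧ μ k ≠ μ a := ⟨fun e => hkn.2 (by rw [← e, hμ.invol]), μ.injective.ne hkn.1⟩
    refine hv.2 k hk ?_ ?_
    · rw [swap_comm i k]
      exact hnc k i k (μ k) hik.symm (Ne.symm hk) ⟨Or.inl rfl, hik, by
        rcases hi with rfl | rfl
        · exact hμk.1.symm
        · exact hμk.2.symm⟩
    · exact hcc a x k (μ k) hkn.1.symm hμk.1.symm (Ne.symm hkx) fun e => hkx (by
        have := congrArg μ e; rwa [hμ.invol, hx, eq_comm] at this)
  rcases hi with rfl | rfl
  · exact Or.inl (hkx ▸ hv.1)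
  · exact Or.inr (hkx ▸ hv.1)

/-- **The symmetric component.** -/
theorem piece_perm : ∃ μ : Perm α, IsPairing μ ∧ (∀ a, swap a (μ a) ∈ (S : Subgroup (Perm α))) ∧
    Piece 2 (natPerm (α := α)) S (pairGrp μ) := by
  classical
  obtain ⟨μ, hμ, hmem⟩ := exists_pairing_mem S
  obtain ⟨x, hx⟩ := (exists_fixed_iff_odd hμ).2 (card_odd hn hcard)
  have hinj := natPerm_injective (three_le hn hcard) (α := α)
  have hSC := sylow_le_pairStab S hμ hmem
  have hSx : ∀ g ∈ (S : Subgroup (Perm α)), g x = x := fun g hg =>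
    hμ.fixed _ _ (by rw [hSC hg x, hx]) hx
  have hne : ∀ {a : α}, a ≠ x → μ a ≠ a := fun ha e => ha (hμ.fixed _ _ e hx)
  have hconj : ∀ g : Perm α, (∀ a, μ (g a) = g (μ a)) → ∀ a,
      g * swap a (μ a) * g⁻¹ = swap (g a) (μ (g a)) := fun g hg a => by
    rw [hg, ← Equiv.swap_apply_apply]
  have hJS : pairGrp μ ≤ (S : Subgroup (Perm α)) :=
    (Subgroup.closure_le _).2 (by rintro _ ⟨a, rfl⟩; exact hmem a)
  set Ω : Finset ↥(evenVec α) := ({x} : Finset α)ᶜ.image (fun a => pairVec a x) with hΩ
  have hmemΩ : ∀ v, v ∈ Ω ↔ ∃ a, a ≠ x ∧ pairVec a x = v := fun v => by simp [hΩ]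
  have hinjx : ∀ {a b : α}, a ≠ x → pairVec a x = pairVec b x → a = b := by
    intro a b ha e
    rcases pairVec_eq_iff ha e with ⟨e1, -⟩ | ⟨-, e2⟩
    · exact e1.symm
    · exact absurd e2.symm ha
  have hbasis : RootBlocks.PermBasis Ω := by
    refine ⟨fun v => ⟨(Finset.univ.filter fun a => a ≠ x ∧ (v : α → ZMod 2) a = 1).image fun a => pairVec a x,
      fun w hw => ?_, ?_⟩, fun s hs s' hs' e => ?_⟩
    · obtain ⟨a, ha, rfl⟩ := Finset.mem_image.1 hw
      exact (hmemΩ _).2 ⟨a, (Finset.mem_filter.1 ha).2.1, rfl⟩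
    · rw [Finset.sum_image fun a ha b _ h => hinjx (Finset.mem_filter.1 ha).2.1 h]
      exact (eq_sum_pairVec x v).symm
    · have key : ∀ t : Finset ↥(evenVec α), t ⊆ Ω → ∀ a, a ≠ x →
          ((∑ f ∈ t, f : ↥(evenVec α)) : α → ZMod 2) a = if pairVec a x ∈ t then 1 else 0 := by
        intro t ht a ha
        rw [AddSubgroup.val_finsetSum, Finset.sum_apply]
        split_ifs with hat
        · rw [Finset.sum_eq_single _ ?_ (fun h => absurd hat h)]
          · exact pairVec_apply_left ha
          · intro w hw hwa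
            obtain ⟨b, hb, rfl⟩ := (hmemΩ w).1 (ht hw)
            exact pairVec_apply_other (fun e => hwa (by rw [e])) ha
        · refine Finset.sum_eq_zero fun w hw => ?_
          obtain ⟨b, hb, rfl⟩ := (hmemΩ w).1 (ht hw)
          exact pairVec_apply_other (fun e => hat (e ▸ hw)) ha
      ext w
      constructor <;> intro hw
      · obtain ⟨a, ha, rfl⟩ := (hmemΩ w).1 (hs hw)
        by_contra h'
        have h1 := key s hs a ha
        rw [e, key s' hs' a ha, if_pos hw, if_neg h'] at h1
        exact zero_ne_one h1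
      · obtain ⟨a, ha, rfl⟩ := (hmemΩ w).1 (hs' hw)
        by_contra h'
        have h1 := key s hs a ha
        rw [e, key s' hs' a ha, if_pos hw, if_neg h'] at h1
        exact one_ne_zero h1
  have hbound : ∀ A : Subgroup (Perm α), A ≤ (S : Subgroup (Perm α)) → (∀ a ∈ A, ∀ c ∈ A, a * c = c * a) →
      (∀ a ∈ A, a ^ 2 = 1) → mu natPerm A ≤ Nat.card ↥(evenVec α) ∧ (Nat.card ↥(evenVec α) ≤ mu natPerm A →
        A ≤ Subgroup.closure {g | g ∈ A ∧ ∃ a, μ a ≠ a ∧ g = swap a (μ a)}) := by
    intro A hA hc hp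
    have hinv : ∀ g ∈ A, ∀ w ∈ Ω, natPerm g w ∈ Ω := by
      intro g hg w hw
      obtain ⟨a, ha, rfl⟩ := (hmemΩ w).1 hw
      refine (hmemΩ _).2 ⟨g a, fun e => ha (g.injective (e.trans (hSx g (hA hg)).symm)), ?_⟩
      rw [natPerm_pairVec, hSx g (hA hg)]
    obtain ⟨h1, h2⟩ := RootBlocks.perm_bound hinj two_smul_evenVec hbasis A hinv hc hp
    refine ⟨h1, fun hmu => (h2 hmu).trans ((Subgroup.closure_le _).2 ?_)⟩
    rintro g ⟨hg, e, he, f, hf, hef, hge, hgf, hrest⟩
    obtain ⟨a, ha, rfl⟩ := (hmemΩ e).1 he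
    obtain ⟨b, hb, rfl⟩ := (hmemΩ f).1 hf
    have hgx := hSx g (hA hg)
    have hswap : g = swap a b := by
      refine hinj (end_ext x fun c => ?_)
      rw [natPerm_pairVec, natPerm_pairVec, swap_apply_of_ne_of_ne (Ne.symm ha) (Ne.symm hb), hgx]
      by_cases hca : c = a
      · subst hca
        rw [natPerm_pairVec, hgx] at hge
        rw [swap_apply_left, hge]
      by_cases hcb : c = b
      · subst hcb
        rw [natPerm_pairVec, hgx] at hgf
        rw [swap_apply_right, hgf]
      rw [swap_apply_of_ne_of_ne hca hcb]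
      by_cases hcx : c = x
      · rw [hcx, hgx]
      · have := hrest (pairVec c x) ((hmemΩ _).2 ⟨c, hcx, rfl⟩) (fun h => hca (hinjx hcx h))
          fun h => hcb (hinjx hcx h)
        rwa [natPerm_pairVec, hgx] at this
    have hab : a ≠ b := fun h => hef (by rw [h])
    have hμa : b = μ a := eq_pairing_of_swap_mem S.2 hμ hmem hab (hswap ▸ hA hg)
    exact Subgroup.subset_closure ⟨hg, a, hne ha, hμa ▸ hswap⟩
  refine ⟨μ, hμ, hmem, hJS, ?_, fun A hA hc hp => ⟨(hbound A hA hc hp).1, fun hmu => ?_⟩, ?_, ?_, ?_, ?_,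
    exists_gen hn hcard hμ hx, quad_pairGrp hn hcard hμ, ?_⟩
  · intro s hs
    refine PushUp.mem_normalizer_of_conj fun y hy => pairKernel_le hμ ?_
    exact conj_mem_pairKernel (fun a => hSC hs a) (pairGrp_le hμ hy)
  · exact ((hbound A hA hc hp).2 hmu).trans ((Subgroup.closure_le _).2 (by
      rintro g ⟨-, a, -, rfl⟩; exact swap_mem_pairGrp μ a))
  · intro A K hA hc hp hne' hmu hAK hnorm
    obtain ⟨g, hg, a, ha, rfl⟩ : ∃ g, g ∈ A ∧ ∃ a, μ a ≠ a ∧ g = swap a (μ a) := by
      by_contra hno
      refine hne' (le_bot_iff.1 (((hbound A hA hc hp).2 hmu).trans ((Subgroup.closure_le _).2 ?_)))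
      rintro g hg
      exact absurd ⟨g, hg⟩ hno
    refine (Subgroup.closure_le _).2 ?_
    rintro _ ⟨b, rfl⟩
    by_cases hb : μ b = b
    · show swap b (μ b) ∈ K
      rw [hb, swap_self]
      exact one_mem K
    obtain ⟨s, hs, rfl⟩ := sylow_transitive_moved n hn hcard S hμ hmem ha hb
    show swap (s a) (μ (s a)) ∈ K
    rw [← hconj s (fun c => hSC hs c) a]
    exact (Subgroup.mem_normalizer_iff.1 (hnorm hs) _).1 (hAK hg)
  · intro h
    obtain ⟨a, ha⟩ : ∃ a, a ≠ x := Fintype.exists_ne_of_one_lt_card (by have := three_le hn hcard; omega) x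
    have h1 : pairVec a (μ a) ∈ fix natPerm (pairGrp μ) := by
      rw [fix_pairGrp hμ]
      intro b
      rw [pairVec_coe, pairVec_coe]
      have e1 : (μ b = a) = (b = μ a) := propext ⟨fun e => by rw [← e, hμ.invol], fun e => by rw [e, hμ.invol]⟩
      simp only [μ.injective.eq_iff, e1, add_comm]
    rw [h, AddSubgroup.mem_bot] at h1
    exact pairVec_ne_zero (Ne.symm (hne ha)) h1
  · refine (AddSubgroup.eq_bot_iff_forall _).2 fun v hv => Subtype.ext ?_
    have hc : ∀ a b, (v : α → ZMod 2) a = (v : α → ZMod 2) b := fun a b => by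
      have h1 := congrFun (congrArg Subtype.val (hv (swap a b) trivial)) b
      rwa [natPerm_apply, swap_inv, swap_apply_right] at h1
    funext a
    have hs := mem_evenVec.1 v.2
    rw [Finset.sum_congr rfl (fun b _ => hc b a), Finset.sum_const, Finset.card_univ] at hs
    obtain ⟨k, hk⟩ := card_odd hn hcard
    rw [hk, add_nsmul, one_nsmul, mul_nsmul, two_nsmul, CharTwo.add_self_eq_zero, nsmul_zero, zero_add] at hs
    exact hs
  · intro t t' ht't htt' hnorm hfix _
    have hP : ∀ a, t (pairVec a (μ a)) = pairVec a (μ a) := fun a => hfix _ (by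
      rw [fix_pairGrp hμ]
      intro b
      rw [pairVec_coe, pairVec_coe]
      have e1 : (μ b = a) = (b = μ a) := propext ⟨fun e => by rw [← e, hμ.invol], fun e => by rw [e, hμ.invol]⟩
      simp only [μ.injective.eq_iff, e1, add_comm])
    have hcons : ∀ a, t (pairVec a x) = pairVec a x → t (pairVec (μ a) x) = pairVec (μ a) x := fun a h => by
      rw [← pairVec_add (μ a) a x, map_add, h, pairVec_comm (μ a) a, hP]
    let f : α → α := fun a => if t (pairVec a x) = pairVec a x then a else μ a
    have hf : Function.Involutive f := by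
      intro a
      simp only [f]
      by_cases h : t (pairVec a x) = pairVec a x
      · simp only [if_pos h]
      · rw [if_neg h, if_neg fun h' => h (by simpa [hμ.invol] using hcons _ h'), hμ.invol]
    refine ⟨hf.toPerm f, pairKernel_le hμ fun a => ?_, end_ext x fun a => ?_⟩
    · show f a = a ∨ f a = μ a
      simp only [f]
      split_ifs
      · exact Or.inl rfl
      · exact Or.inr rfl
    · rw [natPerm_pairVec]
      have hfx : hf.toPerm f x = x := by
        show f x = x
        simp only [f, hx, ite_self]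
      rw [hfx]
      show t (pairVec a x) = pairVec (f a) x
      simp only [f]
      split_ifs with h
      · exact h
      · have hax : μ a ≠ a := fun e => h (by
          rw [show a = x from hμ.fixed a x e hx, pairVec_self, map_zero])
        exact (fixer_step hn hcard hμ hx htt' ht't hnorm hP hax).resolve_left h
  · obtain ⟨a, ha⟩ : ∃ a, a ≠ x := Fintype.exists_ne_of_one_lt_card (by have := three_le hn hcard; omega) x
    have hμa := hne ha
    have hμx : μ a ≠ x := fun e => ha (by rw [← hμ.invol a, e, hx])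
    let T3 : Set α := {a, μ a, x}
    have hT : ∀ c ∈ T3, μ c ∈ T3 := by
      rintro c (rfl | rfl | rfl)
      · exact Or.inr (Or.inl rfl)
      · exact Or.inl (hμ.invol a)
      · exact Or.inr (Or.inr hx)
    set R := tripleStab μ hμ.invol T3 hT with hR
    have hJR : pairGrp μ ≤ R := by
      refine (Subgroup.closure_le _).2 ?_
      rintro _ ⟨b, rfl⟩
      refine fun c => ?_
      have hk := swap_mem_pairKernel μ hμ.invol b c
      refine ⟨?_, fun _ => hk⟩
      show swap b (μ b) c ∈ T3 ↔ c ∈ T3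
      rcases hk with e | e <;> rw [e]
      exact ⟨fun h => by simpa [hμ.invol] using hT _ h, hT c⟩
    have hax : swap a x ∈ R := fun c => by
      by_cases hc : c ∈ T3
      · refine ⟨⟨fun _ => hc, fun _ => ?_⟩, fun h => absurd hc h⟩
        rcases hc with rfl | rfl | rfl
        · rw [swap_apply_left]; exact Or.inr (Or.inr rfl)
        · rw [swap_apply_of_ne_of_ne hμa hμx]; exact Or.inr (Or.inl rfl)
        · rw [swap_apply_right]; exact Or.inl rfl
      · have e : swap a x c = c :=
          swap_apply_of_ne_of_ne (fun h => hc (Or.inl h)) (fun h => hc (Or.inr (Or.inr h)))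
        rw [e]
        exact ⟨Iff.rfl, fun _ => Or.inl rfl⟩
    have hRx : ∀ g ∈ R, g x = x → g ∈ pairKernel μ hμ.invol := by
      intro g hg hgx c
      by_cases hc : c ∈ T3
      · have key : ∀ d, g d ∈ T3 → d ≠ x → g d = a ∨ g d = μ a := fun d hd hdx => by
          rcases hd with h | h | h
          · exact Or.inl h
          · exact Or.inr h
          · exact absurd (g.injective (h.trans hgx.symm)) hdx
        rcases hc with rfl | rfl | rfl
        · exact key c ((hg c).1.2 (Or.inl rfl)) ha
        · rcases key (μ a) ((hg _).1.2 (Or.inr (Or.inl rfl))) hμx with e | e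
          · exact Or.inr (by rw [e, hμ.invol])
          · exact Or.inl e
        · exact Or.inl hgx
      · exact (hg c).2 hc
    have hJx : ∀ g ∈ pairGrp μ, g x = x := fun g hg => hSx g (hJS hg)
    have hcase : ∀ H : Subgroup (Perm α), pairGrp μ ≤ H → H ≤ R → ¬ H ≤ pairGrp μ →
        ∃ c, (c = a ∨ c = μ a) ∧ swap c x ∈ H := by
      intro H hH hHR hnot
      obtain ⟨g, hg, hgJ⟩ := SetLike.not_le_iff_exists.mp hnot
      have hgx : g x ≠ x := fun e => hgJ (pairKernel_le hμ (hRx g (hHR hg) e))
      have hconj2 : swap (g a) (g (μ a)) ∈ H := by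
        rw [Equiv.swap_apply_apply]
        exact H.mul_mem (H.mul_mem hg (hH (swap_mem_pairGrp μ a))) (H.inv_mem hg)
      have hmemT : ∀ d ∈ T3, g d ∈ T3 := fun d hd => (hHR hg d).1.2 hd
      obtain ⟨d, hd, hdx⟩ : ∃ d ∈ T3, g d = x := by
        obtain ⟨d, hd⟩ := g.surjective x
        exact ⟨d, (hHR hg d).1.1 (hd.symm ▸ Or.inr (Or.inr rfl)), hd⟩
      rcases hd with rfl | rfl | rfl
      · refine ⟨g (μ d), ?_, by rw [swap_comm, ← hdx]; exact hconj2⟩
        rcases hmemT (μ d) (Or.inr (Or.inl rfl)) with h | h | h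
        · exact Or.inl h
        · exact Or.inr h
        · exact absurd (g.injective (h.trans hdx.symm)) hμa
      · refine ⟨g a, ?_, by rw [← hdx]; exact hconj2⟩
        rcases hmemT a (Or.inl rfl) with h | h | h
        · exact Or.inl h
        · exact Or.inr h
        · exact absurd (g.injective (h.trans hdx.symm)) (Ne.symm hμa)
      · exact absurd hdx hgx
    let e3 : Fin 3 → α := ![a, μ a, x]
    have he3i : Function.Injective e3 := by
      intro i j h
      fin_cases i <;> fin_cases j <;> simp [e3, ha, hμa, hμx, Ne.symm ha, Ne.symm hμa, Ne.symm hμx] at h ⊢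
    have he3 : ∀ c, c ∈ T3 ↔ ∃ i, e3 i = c := fun c => by
      constructor
      · rintro (rfl | rfl | rfl)
        exacts [⟨0, rfl⟩, ⟨1, rfl⟩, ⟨2, rfl⟩]
      · rintro ⟨i, rfl⟩
        fin_cases i
        exacts [Or.inl rfl, Or.inr (Or.inl rfl), Or.inr (Or.inr rfl)]
    let E3 : Fin 3 ≃ T3 := Equiv.ofBijective (fun i => ⟨e3 i, (he3 _).2 ⟨i, rfl⟩⟩)
      ⟨fun i j h => he3i (congrArg Subtype.val h), fun c => let ⟨i, hi⟩ := (he3 c).1 c.2; ⟨i, Subtype.ext hi⟩⟩
    let θ : ↥R →* Perm (Fin 3) :=
      { toFun := fun g => (((g : Perm α).subtypePerm fun c => (g.2 c).1).trans E3.symm |> fun h => E3.trans h)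
        map_one' := Equiv.ext fun i => E3.injective (Subtype.ext (by simp))
        map_mul' := fun g h => Equiv.ext fun i => E3.injective (Subtype.ext (by simp [Perm.mul_apply])) }
    have hθ : ∀ g i, e3 (θ g i) = (g : Perm α) (e3 i) := fun g i => by
      have := congrArg Subtype.val (E3.apply_symm_apply ((g : Perm α).subtypePerm (fun c => (g.2 c).1) (E3 i)))
      exact this
    let mk := (PSL2.mk (F := ZMod 2))
    refine ⟨R, ZMod 2, inferInstance, inferInstance, 1, (mk.comp threeSL).comp θ, ?_, le_rfl, by simp, hJR, ?_, ?_,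
      ?_, ?_⟩
    · intro y
      obtain ⟨z, rfl⟩ := QuotientGroup.mk'_surjective _ y
      obtain ⟨π, rfl⟩ := threeSL_surjective z
      suffices h : π ∈ θ.range by
        obtain ⟨g, rfl⟩ := h
        exact ⟨g, rfl⟩
      suffices h : θ.range = ⊤ by rw [h]; trivial
      rw [eq_top_iff, ← Perm.closure_isSwap, Subgroup.closure_le]
      have h01 : swap (0 : Fin 3) 1 ∈ θ.range := ⟨⟨_, hJR (swap_mem_pairGrp μ a)⟩, Equiv.ext fun i => he3i (by
        rw [hθ]
        fin_cases i
        · simp [e3]
        · simp [e3]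
        · simp [e3, swap_apply_of_ne_of_ne (Ne.symm ha) (Ne.symm hμx),
            swap_apply_of_ne_of_ne (show (2 : Fin 3) ≠ 0 by decide) (show (2 : Fin 3) ≠ 1 by decide)])⟩
      have h02 : swap (0 : Fin 3) 2 ∈ θ.range := ⟨⟨_, hax⟩, Equiv.ext fun i => he3i (by
        rw [hθ]
        fin_cases i
        · simp [e3]
        · simp [e3, swap_apply_of_ne_of_ne hμa hμx,
            swap_apply_of_ne_of_ne (show (1 : Fin 3) ≠ 0 by decide) (show (1 : Fin 3) ≠ 2 by decide)]
        · simp [e3])⟩
      have h12 : swap (1 : Fin 3) 2 ∈ θ.range := by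
        rw [show swap (1 : Fin 3) 2 = swap 0 1 * swap 0 2 * swap 0 1 by decide]
        exact mul_mem (mul_mem h01 h02) h01
      rintro _ ⟨i, j, hij, rfl⟩
      fin_cases i <;> fin_cases j <;> first
        | exact absurd rfl hij
        | exact h01
        | exact h02
        | exact h12
        | (rw [swap_comm]; first | exact h01 | exact h02 | exact h12)
    · refine eq_top_iff.2 (Perm.closure_isSwap.ge.trans ((Subgroup.closure_le _).2 ?_))
      have hcx : ∀ c, swap c x ∈ R ⊔ (S : Subgroup (Perm α)) := by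
        intro c
        by_cases hc : c = x
        · rw [hc, swap_self]; exact one_mem _
        obtain ⟨s, hs, rfl⟩ := sylow_transitive_moved n hn hcard S hμ hmem hμa (hne hc)
        rw [show x = s x from (hSx s hs).symm, Equiv.swap_apply_apply]
        exact mul_mem (mul_mem (Subgroup.mem_sup_right hs) (Subgroup.mem_sup_left hax))
          (inv_mem (Subgroup.mem_sup_right hs))
      rintro _ ⟨c, d, hcd, rfl⟩
      by_cases hc : c = x
      · rw [hc, swap_comm]; exact hcx d
      by_cases hd : d = x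
      · rw [hd]; exact hcx c
      have e : swap c d = swap c x * swap d x * swap c x := by
        conv_rhs => rw [← swap_inv c x, mul_assoc, swap_inv c x]
        have := Equiv.swap_apply_apply (swap c x) d x
        rw [swap_apply_of_ne_of_ne (Ne.symm hcd) hd, swap_apply_right, swap_inv] at this
        rw [swap_comm, this, mul_assoc]
      rw [e]
      exact mul_mem (mul_mem (hcx c) (hcx d)) (hcx c)
    · intro h
      have h1 := (Subgroup.mem_normalizer_iff.1 (h hax) _).1 (swap_mem_pairGrp μ a)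
      rw [← Equiv.swap_apply_apply, swap_apply_left, swap_apply_of_ne_of_ne hμa hμx] at h1
      have := hJx _ h1
      rw [swap_apply_left] at this
      exact hμx this
    · intro P hPR hP hJP
      by_contra hno
      obtain ⟨c, hc, hcP⟩ := hcase P hJP hPR hno
      have ha' := hJP (swap_mem_pairGrp μ a)
      rcases hc with rfl | rfl
      · exact hμx (eq_of_swap_mem hP (Ne.symm (hne ha)) ha ha' hcP)
      · rw [swap_comm] at ha'
        exact ha (eq_of_swap_mem hP hμa hμx ha' hcP)
    · intro H hH hHR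
      by_cases hn' : H ≤ pairGrp μ
      · exact Or.inr (hn'.trans Subgroup.le_normalizer)
      refine Or.inl (le_antisymm hHR fun g hg => ?_)
      obtain ⟨c, hc, hcH⟩ := hcase H hH hHR hn'
      have haH := hH (swap_mem_pairGrp μ a)
      have hboth : swap a x ∈ H ∧ swap (μ a) x ∈ H := by
        have e1 : swap a (μ a) x = x := swap_apply_of_ne_of_ne (Ne.symm ha) (Ne.symm hμx)
        have hflip : ∀ d, swap d x ∈ H → swap (swap a (μ a) d) x ∈ H := fun d hd => by
          conv => arg 2; rw [← e1, Equiv.swap_apply_apply]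
          exact H.mul_mem (H.mul_mem haH hd) (H.inv_mem haH)
        rcases hc with rfl | rfl
        · exact ⟨hcH, by simpa using hflip _ hcH⟩
        · exact ⟨by simpa using hflip _ hcH, hcH⟩
      by_cases hgx : g x = x
      · exact hH (pairKernel_le hμ (hRx g hg hgx))
      have hsw : swap (g x) x ∈ H := by
        rcases (hg x).1.2 (Or.inr (Or.inr rfl)) with h | h | h
        · rw [h]; exact hboth.1
        · rw [h]; exact hboth.2
        · exact absurd h hgx
      have h2 : swap (g x) x * g ∈ H :=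
        hH (pairKernel_le hμ (hRx _ (R.mul_mem (hHR hsw) hg) (by rw [Perm.mul_apply, swap_apply_left])))
      have := H.mul_mem hsw h2
      rwa [swap_mul_self_mul] at this

end Main

end CfsgLib.BlockPush
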