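import Cfsg.Agent.Lib.BlockPush.Comp
import Cfsg.Agent.Lib.BlockPush.PermPiece
import Cfsg.Agent.Lib.RootBlocks.LiftDefs

/-!
The linear and the symmetric models of a component.
-/

set_option autoImplicit false
set_option linter.unusedSectionVars false
set_option linter.style.haveILetI false

namespace CfsgLib.BlockPush

open CfsgLib CfsgLib.RootCommute CfsgLib.RootBlocks Matrix Equiv CfsgLib.SymSylow
open CfsgLib.SL2Pair (fix mem_fix)
open CfsgLib.StrongFusion (cm)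
open CfsgLib.PSL2 (uSL vSL)

universe u v

section Irr

variable {F : Type} [Field F] [Fintype F]

local notation "SL" => Matrix.SpecialLinearGroup (Fin 2) F
local notation "V2" => (Fin 2 → F)

theorem natSL_injective : Function.Injective (natSL (F := F)) := by
  refine (injective_iff_map_eq_one _).2 fun g hg => Subtype.ext ?_
  have h0 : natSL g ![1, 0] = ![1, 0] := by rw [hg]; rfl
  have h1 : natSL g ![0, 1] = ![0, 1] := by rw [hg]; rfl
  have a := congrFun h0 0
  have b := congrFun h0 1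
  have c := congrFun h1 0
  have d := congrFun h1 1
  rw [natSL_apply0] at a c
  rw [natSL_apply1] at b d
  simp at a b c d
  ext i j
  fin_cases i <;> fin_cases j <;> simp [a, b, c, d]

theorem natSL_irr (p : ℕ) [Fact p.Prime] [CharP F p] (X : AddSubgroup V2) (hX : ∀ g : SL, ∀ x ∈ X, natSL g x ∈ X) :
    X = ⊥ ∨ X = ⊤ := by
  refine or_iff_not_imp_left.2 fun hne => ?_
  have hU : ∀ x : V2, p • x = 0 := fun x => funext fun i => by
    show p • x i = 0
    rw [nsmul_eq_mul, CharP.cast_eq_zero, zero_mul]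
  obtain ⟨v, hv, hv0, hvfix⟩ := exists_fix (natSL (F := F)) hU (isPGroup_uGrp p)
    (W := X) (fun g _ x hx => hX g x hx) hne
  have hv1 := mem_fix_uGrp.1 hvfix
  have hv00 : v 0 ≠ 0 := fun e => hv0 (by rw [vec_eq hv1, e]; ext i; fin_cases i <;> rfl)
  have hY : ∀ y : F, (![0, y] : V2) ∈ X := fun y => by
    have h := X.sub_mem (hX (vSL (y / v 0)) v hv) hv
    rw [natSL_v, hv1] at h
    convert h using 1
    funext i; fin_cases i <;> simp [hv1, div_mul_cancel₀ _ hv00]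
  refine eq_top_iff.2 fun u _ => ?_
  have h := X.add_mem (X.sub_mem (hX (uSL (u 0)) _ (hY 1)) (hY 1)) (hY (u 1))
  rw [natSL_u] at h
  convert h using 1
  funext i; fin_cases i <;> simp

end Irr

theorem natPerm_irr {α : Type u} [Fintype α] [DecidableEq α] (hodd : Odd (Fintype.card α))
    (X : AddSubgroup ↥(evenVec α)) (hX : ∀ g : Perm α, ∀ x ∈ X, natPerm g x ∈ X) : X = ⊥ ∨ X = ⊤ := by
  refine or_iff_not_imp_left.2 fun hne => ?_
  obtain ⟨v, hv, hv0⟩ : ∃ v ∈ X, v ≠ 0 := by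
    by_contra hno
    push Not at hno
    exact hne ((AddSubgroup.eq_bot_iff_forall X).2 hno)
  obtain ⟨a, b, hab⟩ : ∃ a b, (v : α → ZMod 2) a ≠ (v : α → ZMod 2) b := by
    by_contra hno
    push Not at hno
    refine hv0 (Subtype.ext (funext fun i => ?_))
    have hs := mem_evenVec.1 v.2
    rw [Finset.sum_congr rfl (fun j _ => hno j i), Finset.sum_const, Finset.card_univ] at hs
    obtain ⟨k, hk⟩ := hodd
    rw [hk, add_nsmul, one_nsmul, mul_nsmul, two_nsmul, CharTwo.add_self_eq_zero, nsmul_zero, zero_add] at hs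
    exact hs
  have hne' : a ≠ b := fun e => hab (by rw [e])
  have hpab : pairVec a b ∈ X := by
    have h := X.add_mem (hX (swap a b) v hv) hv
    convert h using 1
    refine Subtype.ext (funext fun i => ?_)
    show _ = (natPerm (swap a b) v : α → ZMod 2) i + (v : α → ZMod 2) i
    rw [natPerm_apply, swap_inv, pairVec_coe]
    have key : ∀ y z : ZMod 2, y ≠ z → y + z = 1 := by decide
    by_cases h1 : i = a
    · subst h1; rw [swap_apply_left, if_pos rfl, if_neg hne', add_zero, key _ _ (Ne.symm hab)]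
    by_cases h2 : i = b
    · subst h2; rw [swap_apply_right, if_neg h1, if_pos rfl, zero_add, key _ _ hab]
    rw [swap_apply_of_ne_of_ne h1 h2, if_neg h1, if_neg h2, add_zero, CharTwo.add_self_eq_zero]
  refine eq_top_iff.2 fun w _ => ?_
  rw [eq_sum_pairVec b w]
  refine sum_mem fun c hc => ?_
  have hcb := (Finset.mem_filter.1 hc).2.1
  have h := hX (swap a c) _ hpab
  rwa [natPerm_pairVec, swap_apply_left, swap_apply_of_ne_of_ne hne'.symm (Ne.symm hcb)] at h

variable {P : Type u} [Group P] [Finite P] {W : Type v} [AddCommGroup W] [Finite W] {p : ℕ} [hp : Fact p.Prime]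
  {ρ : P →* AddMonoid.End W} {T : Sylow p P} {E : Subgroup P}

/-- A component that is a linear group. -/
def IsSLKind (ρ : P →* AddMonoid.End W) (T : Sylow p P) (E : Subgroup P) : Prop :=
  ∃ (F : Type) (_ : Field F) (_ : Fintype F) (n : ℕ) (e : ↥E ≃* Matrix.SpecialLinearGroup (Fin 2) F)
    (ψ : W →+ (Fin 2 → F)), 1 ≤ n ∧ Fintype.card F = p ^ n ∧ CharP F p ∧ Function.Surjective ψ ∧
      (∀ w, ψ w = 0 ↔ w ∈ fix ρ E) ∧ (∀ (g : ↥E) w, ψ (ρ (g : P) w) = natSL (e g) (ψ w)) ∧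
      (∀ g : ↥E, e g ∈ (uGrp : Subgroup (Matrix.SpecialLinearGroup (Fin 2) F)) ↔ (g : P) ∈ (T : Subgroup P)) ∧
      ∀ g : ↥E, (g : P) ∈ offs ρ T E ↔ e g ∈ (uGrp : Subgroup (Matrix.SpecialLinearGroup (Fin 2) F))

/-- A component that is a symmetric group. -/
def IsPermKind (ρ : P →* AddMonoid.End W) (T : Sylow p P) (E : Subgroup P) : Prop :=
  ∃ (n : ℕ) (e : ↥E ≃* Perm (Fin (2 ^ n + 1))) (ψ : W →+ ↥(evenVec (Fin (2 ^ n + 1))))
    (μ : Perm (Fin (2 ^ n + 1))), p = 2 ∧ 1 ≤ n ∧ Function.Surjective ψ ∧ (∀ w, ψ w = 0 ↔ w ∈ fix ρ E) ∧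
      (∀ (g : ↥E) w, ψ (ρ (g : P) w) = natPerm (e g) (ψ w)) ∧ IsPairing μ ∧
      (∀ g : ↥E, ∀ a, e g = swap a (μ a) → (g : P) ∈ (T : Subgroup P)) ∧
      ∀ g : ↥E, (g : P) ∈ offs ρ T E ↔ e g ∈ pairGrp μ

/-- **Every component is a linear or a symmetric one, and has the properties used.** -/
theorem comp_of_natural (hnat : IsNaturalComponent p ρ E)
    (hS : ∀ X : Subgroup P, X ≤ E → IsPGroup p X → (T : Subgroup P) ⊓ E ≤ X → X ≤ (T : Subgroup P) ⊓ E) :
    (∀ A : Subgroup P, A ≤ (T : Subgroup P) ⊓ E → Elem p A → Nat.card A ≤ (qfix ρ E A).index) ∧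
      ((∃ B : Subgroup P, B ≤ (T : Subgroup P) ⊓ E ∧ Elem p B ∧ B ≠ ⊥ ∧ Nat.card W ≤ mu ρ B) →
        Comp ρ T E ∧ (IsSLKind ρ T E ∨ IsPermKind ρ T E)) := by
  classical
  obtain ⟨n, hn, h⟩ := hnat
  set TE := ((T : Subgroup P) ⊓ E).subgroupOf E with hTE
  have hTEp : IsPGroup p TE := (T.2.to_le inf_le_left).of_equiv
    (Subgroup.subgroupOfEquivOfLe (inf_le_right : (T : Subgroup P) ⊓ E ≤ E)).symm
  have hsyl : ∀ {G0 : Type} [Group G0] (e : ↥E ≃* G0), ∃ S0 : Sylow p G0,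
      ∀ g : ↥E, e g ∈ (S0 : Subgroup G0) ↔ (g : P) ∈ (T : Subgroup P) := by
    intro G0 _ e
    obtain ⟨S0, hS0⟩ := (hTEp.map e.toMonoidHom).exists_le_sylow
    refine ⟨S0, fun g => ⟨fun hg => ?_, fun hg => hS0 ⟨g, ⟨hg, g.2⟩, rfl⟩⟩⟩
    have hp' : IsPGroup p ↥(((S0 : Subgroup G0).comap e.toMonoidHom).map E.subtype) :=
      (S0.2.comap_of_injective e.toMonoidHom e.injective).map _
    refine (hS _ (Subgroup.map_subtype_le _) hp' ?_ ⟨g, hg, rfl⟩).1
    exact fun x hx => ⟨⟨x, hx.2⟩, hS0 ⟨⟨x, hx.2⟩, hx, rfl⟩, rfl⟩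
  rcases h with ⟨F, iF, iF', e, ψ, hcard, hs, hk, he⟩ | ⟨hp2, e, ψ, hsum, hs, hk, he⟩
  · haveI : CharP F p := charP_of_card_eq_prime_pow hcard
    obtain ⟨S1, hS1⟩ := hsyl e
    obtain ⟨S2, hS2⟩ := exists_sylow_uGrp (F := F) p
    obtain ⟨x, hx⟩ := MulAction.exists_smul_eq (Matrix.SpecialLinearGroup (Fin 2) F) S1 S2
    let e' := e.trans (MulAut.conj x)
    let ψ' : W →+ (Fin 2 → F) := (natSL x).comp ψ
    have hm : Model ρ T E (natSL (F := F)) S2 e' ψ' := by
      refine ⟨fun y => ?_, fun w => ?_, fun g w => ?_, fun g => ?_⟩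
      · obtain ⟨w, hw⟩ := hs (natSL x⁻¹ y)
        exact ⟨w, by show natSL x (ψ w) = y; rw [hw, act_inv']⟩
      · show natSL x (ψ w) = 0 ↔ _
        rw [← hk, map_eq_zero_iff _ (act_injective natSL x)]
      · show natSL x (ψ (ρ (g : P) w)) = natSL (x * e g * x⁻¹) (natSL x (ψ w))
        rw [he, ← act_mul, inv_mul_cancel_right, act_mul]
        rfl
      · rw [← hS1 g, ← hx, Sylow.coe_subgroup_smul]
        exact Subgroup.smul_mem_pointwise_smul_iff (a := MulAut.conj x) (x := e g)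
    have hP := piece_sl p n hn hcard S2 hS2
    refine ⟨fun A hA he => hm.bound hP hA he, fun hex =>
      ⟨hm.comp hP (natSL_irr p) natSL_injective hex, Or.inl ⟨F, iF, iF', n, e', ψ', hn, hcard, inferInstance,
      hm.surj, hm.ker, hm.act, fun g => hS2 ▸ hm.sylow g, fun g => ?_⟩⟩⟩
    rw [hm.offs_eq hP hex]
    exact coe_mem_lift
  · subst hp2
    have hcard : Fintype.card (Fin (2 ^ n + 1)) = 2 ^ n + 1 := Fintype.card_fin _
    obtain ⟨S1, hS1⟩ := hsyl e
    let ψ' : W →+ ↥(evenVec (Fin (2 ^ n + 1))) := ψ.codRestrict _ hsum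
    have hm : Model ρ T E natPerm S1 e ψ' := by
      refine ⟨fun v => ?_, fun w => ?_, fun g w => Subtype.ext (funext fun i => he g w i), hS1⟩
      · obtain ⟨w, hw⟩ := hs v.1 v.2
        exact ⟨w, Subtype.ext hw⟩
      · rw [← hk]
        exact ⟨fun h => congrArg Subtype.val h, fun h => Subtype.ext h⟩
    obtain ⟨μ, hμ, hsw, hP⟩ := piece_perm hn hcard S1
    have hodd : Odd (Fintype.card (Fin (2 ^ n + 1))) := card_odd hn hcard
    refine ⟨fun A hA he => hm.bound hP hA he, fun hex =>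
      ⟨hm.comp hP (natPerm_irr hodd) (natPerm_injective (three_le hn hcard)) hex, Or.inr ⟨n, e, ψ', μ, rfl, hn,
      hm.surj, hm.ker, hm.act, hμ, fun g a hga => (hS1 g).1 (hga ▸ hsw a), fun g => ?_⟩⟩⟩
    rw [hm.offs_eq hP hex]
    exact coe_mem_lift

end CfsgLib.BlockPush
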