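import Cfsg.Agent.Lib.BlockPush.Setup
import Cfsg.Agent.Lib.BlockPush.LayoutGlobal
import Cfsg.Agent.Lib.RootBlocks.HasSplit

/-!
The components of `G / C_G(V)` on `V = Ω₁(Z(O_p(G)))`.
-/

set_option autoImplicit false
set_option linter.unusedSectionVars false
set_option linter.style.haveILetI false

namespace CfsgLib.BlockPush

open Cfsg CfsgLib CfsgLib.RootCommute CfsgLib.RootBlocks
open CfsgLib.SL2Pair (fix)
open CfsgLib.StrongFusion (cm cm_cm cm_one cm_inv_cm cm_mono card_cm)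
open scoped commutatorElement Pointwise

universe u

variable {G : Type u} [Group G] [Finite G] {p : ℕ} [hp : Fact p.Prime]

attribute [local instance] commGroupOf

instance vQ_isMulCommutative : IsMulCommutative ↥(vQ p G) := (vQ_elem (p := p)).1

/-- The quotient map. -/
abbrev qC (p : ℕ) [Fact p.Prime] (G : Type u) [Group G] [Finite G] : G →* G ⧸ cV p G := QuotientGroup.mk' (cV p G)

theorem qC_surjective : Function.Surjective (qC p G) := QuotientGroup.mk'_surjective _

theorem qC_eq_one {g : G} : qC p G g = 1 ↔ g ∈ cV p G := QuotientGroup.eq_one_iff g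

theorem qC_ker : (qC p G).ker = cV p G := QuotientGroup.ker_mk' _

/-- The conjugation action. -/
noncomputable def vAct (p : ℕ) [Fact p.Prime] (G : Type u) [Group G] [Finite G] : G →* AddMonoid.End (Additive ↥(vQ p G)) :=
  (conjAct (P := ⊤) (Subgroup.normalizer_eq_top_iff.2 (vQ_normal (p := p) (G := G))).ge).comp
    (Subgroup.topEquiv (G := G)).symm.toMonoidHom

/-- A vector. -/
def av {v : G} (hv : v ∈ vQ p G) : Additive ↥(vQ p G) := Additive.ofMul ⟨v, hv⟩

theorem vAct_av (g : G) {v : G} (hv : v ∈ vQ p G) :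
    vAct p G g (av hv) = av (vQ_normal.conj_mem v hv g) := rfl

theorem av_eq {v w : G} {hv : v ∈ vQ p G} {hw : w ∈ vQ p G} : av hv = av hw ↔ v = w :=
  ⟨fun h => congrArg (fun x => ((Additive.toMul x : ↥(vQ p G)) : G)) h, fun h => by subst h; rfl⟩

theorem av_add {v w : G} (hv : v ∈ vQ p G) (hw : w ∈ vQ p G) : av hv + av hw = av (mul_mem hv hw) := rfl

theorem av_sub {v w : G} (hv : v ∈ vQ p G) (hw : w ∈ vQ p G) :
    av hv - av hw = av (mul_mem hv (inv_mem hw)) := by
  rw [sub_eq_add_neg]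
  rfl

theorem exists_av (x : Additive ↥(vQ p G)) : ∃ (v : G) (hv : v ∈ vQ p G), x = av hv :=
  ⟨((Additive.toMul x : ↥(vQ p G)) : G), (Additive.toMul x).2, rfl⟩

theorem vAct_ker : (vAct p G).ker = cV p G := by
  ext g
  rw [MonoidHom.mem_ker, cV, Subgroup.mem_centralizer_iff]
  constructor
  · intro h v hv
    have h1 : vAct p G g (av hv) = av hv := by rw [h]; rfl
    rw [vAct_av, av_eq, mul_inv_eq_iff_eq_mul] at h1
    exact h1.symm
  · intro h
    refine AddMonoidHom.ext fun x => ?_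
    obtain ⟨v, hv, rfl⟩ := exists_av x
    show vAct p G g (av hv) = av hv
    rw [vAct_av, av_eq, mul_inv_eq_iff_eq_mul]
    exact (h v hv).symm

/-- The action of the quotient. -/
noncomputable def qAct (p : ℕ) [Fact p.Prime] (G : Type u) [Group G] [Finite G] :
    G ⧸ cV p G →* AddMonoid.End (Additive ↥(vQ p G)) :=
  QuotientGroup.lift (cV p G) (vAct p G) vAct_ker.ge

theorem qAct_av (g : G) {v : G} (hv : v ∈ vQ p G) :
    qAct p G (qC p G g) (av hv) = av (vQ_normal.conj_mem v hv g) := vAct_av g hv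

theorem mem_fix_av {X : Subgroup G} {v : G} (hv : v ∈ vQ p G) :
    av hv ∈ fix (qAct p G) (X.map (qC p G)) ↔ ∀ x ∈ X, x * v * x⁻¹ = v := by
  refine ⟨fun h x hx => ?_, ?_⟩
  · have h1 := h (qC p G x) (Subgroup.mem_map_of_mem _ hx)
    rwa [qAct_av, av_eq] at h1
  · rintro h _ ⟨x, hx, rfl⟩
    rw [qAct_av, av_eq]
    exact h x hx

theorem sub_av (g : G) {v : G} (hv : v ∈ vQ p G) :
    qAct p G (qC p G g) (av hv) - av hv = av (mul_mem (vQ_normal.conj_mem v hv g) (inv_mem hv)) := by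
  rw [qAct_av, av_sub]

namespace Ctx

variable {T : Sylow p G} {M : Subgroup G} (c : Ctx T M)
include c

theorem comap_map_M : (M.map (qC p G)).comap (qC p G) = M := by
  rw [Subgroup.comap_map_eq, qC_ker, sup_eq_left.2 c.cV_le_M]

theorem exists_over : Over (qAct p G) (T.mapSurjective qC_surjective) (M.map (qC p G)) := by
  refine ⟨fun a b e => ?_, fun x => ?_, Subgroup.map_mono c.le_M, fun e => c.M_ne ?_, fun H hH hne => ?_,
    fun N hN hNp => ?_⟩
  · obtain ⟨a, rfl⟩ := qC_surjective a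
    obtain ⟨b, rfl⟩ := qC_surjective b
    refine QuotientGroup.eq.2 ?_
    rw [← vAct_ker, MonoidHom.mem_ker, map_mul]
    have e' : vAct p G a = vAct p G b := e
    rw [← e', ← map_mul, inv_mul_cancel, map_one]
  · obtain ⟨v, hv, rfl⟩ := exists_av x
    refine Additive.toMul.injective (Subtype.ext ?_)
    show (((⟨v, hv⟩ : ↥(vQ p G)) ^ p : ↥(vQ p G)) : G) = 1
    rw [SubmonoidClass.coe_pow]
    exact vQ_pow hv
  · rw [← c.comap_map_M, e, Subgroup.comap_top]
  · have h1 : H.comap (qC p G) ≤ M := c.uniq _ (fun t ht => hH ⟨t, ht, rfl⟩) fun e => hne (by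
      rw [← Subgroup.map_comap_eq_self_of_surjective qC_surjective H, e,
        Subgroup.map_top_of_surjective _ qC_surjective])
    rw [← Subgroup.map_comap_eq_self_of_surjective qC_surjective H]
    exact Subgroup.map_mono h1
  · haveI := hN
    set K := N.comap (qC p G)
    obtain ⟨R, hR⟩ := hNp.exists_le_sylow
    obtain ⟨y, hy⟩ := MulAction.exists_smul_eq (G ⧸ cV p G) R (T.mapSurjective qC_surjective)
    have hNT : N ≤ (T : Subgroup G).map (qC p G) := fun x hx => by
      show x ∈ ((T.mapSurjective qC_surjective : Sylow p (G ⧸ cV p G)) : Subgroup (G ⧸ cV p G))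
      rw [← hy]
      refine ⟨y⁻¹ * x * y, hR ?_, ?_⟩
      · have := hN.conj_mem x hx y⁻¹
        rwa [inv_inv] at this
      · show y * (y⁻¹ * x * y) * y⁻¹ = x
        group
    have hKM : K ≤ M := fun k hk => by
      obtain ⟨t, ht, e⟩ := hNT hk
      have h2 : t⁻¹ * k ∈ cV p G := QuotientGroup.eq.1 e
      have := M.mul_mem (c.le_M ht) (c.cV_le_M h2)
      rwa [mul_inv_cancel_left] at this
    refine eq_bot_iff.2 fun x hx => Subgroup.mem_bot.2 ?_
    obtain ⟨t, ht, rfl⟩ := hNT hx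
    exact qC_eq_one.2 (core_le_cV (c.inf_le_core inferInstance hKM (Subgroup.mem_inf.2 ⟨ht, hx⟩)))

theorem mx_not_le : ∃ A ∈ mx p (T : Subgroup G), ¬ A ≤ cV p G := by
  by_contra hno
  push Not at hno
  have hJQ : tJ T ≤ pCore p G := by
    rw [tJ_eq]
    exact sSup_le fun A hA => (le_inf hA.2 (hno A hA)).trans c.inf_cV_eq.le
  have hQeq : tJ T = thompsonSubgroupOf p (pCore p G) := by
    obtain ⟨A, hA⟩ := mx_nonempty T
    have hA' : A ∈ mx p (pCore p G) := ⟨hA.1, (le_tJ hA).trans hJQ⟩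
    rw [tJ_eq, thompsonOf_eq_sSup ⟨A, hA'⟩]
    exact le_antisymm (sSup_le fun B hB => le_sSup ⟨hB.1, (le_tJ hB).trans hJQ⟩)
      (sSup_le fun B hB => le_sSup ⟨hB.1, hB.2.trans (pCore_le_sylow T)⟩)
  have hne : tJ T ≠ ⊥ := fun e => c.omega ⟨fun z hz g => by
    obtain ⟨A, hA⟩ := mx_nonempty T
    have hzA : z ∈ A := mem_of_mx hA (fun a ha => ((BBlock.omegaOneCenter_comm p _ hz) (hA.2 ha)).symm)
      (BBlock.omegaOneCenter_pow p _ hz)
    have hz1 : z = 1 := Subgroup.mem_bot.1 (e ▸ le_tJ hA hzA)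
    rw [hz1, mul_one, mul_inv_cancel]
    exact one_mem _⟩
  have hJn : (tJ T).Normal := by
    rw [hQeq]
    refine ⟨fun x hx g => ?_⟩
    let φ : MulAut ↥(pCore p G) := MulAut.conjNormal g
    have h := (AutomizerPrime.thompson_chr (p := p) (pCore p G)).2 φ ⟨x, Subgroup.map_subtype_le _ hx⟩ hx
    exact h
  refine c.nochar (tJ T) (tJ_le_tB T) hne ?_ hJn
  refine Subgroup.characteristic_iff_le_comap.2 fun φ x hx => ?_
  have hB : tJ T = thompsonSubgroupOf p (tB T) := by
    obtain ⟨A, hA⟩ := mx_nonempty T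
    have hA' : A ∈ mx p (tB T) := ⟨hA.1, (le_tJ hA).trans (tJ_le_tB T)⟩
    rw [tJ_eq, thompsonOf_eq_sSup ⟨A, hA'⟩]
    exact le_antisymm (sSup_le fun B hB => le_sSup ⟨hB.1, (le_tJ hB).trans (tJ_le_tB T)⟩)
      (sSup_le fun B hB => le_sSup ⟨hB.1, hB.2.trans (tB_le T)⟩)
  show ((φ x : ↥(tB T)) : G) ∈ tJ T
  rw [hB]
  refine (AutomizerPrime.thompson_chr (p := p) (tB T)).2 φ x ?_
  rw [← hB]
  exact hx

/-- An elementary abelian subgroup of greatest order does not lose on `V`. -/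
theorem mx_image {A : Subgroup G} (hA : A ∈ mx p (T : Subgroup G)) :
    Elem p (A.map (qC p G)) ∧ A.map (qC p G) ≤ ((T.mapSurjective qC_surjective : Sylow p (G ⧸ cV p G)) :
      Subgroup (G ⧸ cV p G)) ∧ Nat.card (Additive ↥(vQ p G)) ≤ mu (qAct p G) (A.map (qC p G)) := by
  obtain ⟨⟨hel, hmx⟩, hAT⟩ := hA
  refine ⟨⟨?_, ?_⟩, Subgroup.map_mono hAT, ?_⟩
  · rintro _ ⟨a, ha, rfl⟩ _ ⟨d, hd, rfl⟩
    rw [← map_mul, ← map_mul]
    exact congrArg _ (congrArg Subtype.val (hel.1.is_comm.comm ⟨a, ha⟩ ⟨d, hd⟩))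
  · rintro _ ⟨a, ha, rfl⟩
    rw [← map_pow, hel.2 a ha, map_one]
  set B := A ⊓ cV p G
  set D := B ⊔ vQ p G
  have hD : D = Subgroup.closure ((B : Set G) ∪ vQ p G) := by
    rw [Subgroup.closure_union, Subgroup.closure_eq, Subgroup.closure_eq]
  have h1 : ∀ x ∈ (B : Set G) ∪ vQ p G, ∀ y ∈ (B : Set G) ∪ vQ p G, x * y = y * x := by
    rintro x (hx | hx) y (hy | hy)
    · exact congrArg Subtype.val (hel.1.is_comm.comm ⟨x, hx.1⟩ ⟨y, hy.1⟩)
    · exact (Subgroup.mem_centralizer_iff.1 hx.2 y hy).symm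
    · exact Subgroup.mem_centralizer_iff.1 hy.2 x hx
    · exact vQ_comm hx hy
  have hDel : IsElementaryAbelian p D := by
    haveI hc : IsMulCommutative ↥D := by
      rw [hD]; exact Subgroup.isMulCommutative_closure h1
    refine ⟨hc, fun x hx => ?_⟩
    rw [hD] at hx
    induction hx using Subgroup.closure_induction with
    | mem y hy =>
      rcases hy with hy | hy
      · exact hel.2 y hy.1
      · exact vQ_pow hy
    | one => exact one_pow p
    | mul a b ha hb e1 e2 =>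
      rw [← hD] at ha hb
      rw [(show Commute a b from congrArg Subtype.val (hc.is_comm.comm ⟨a, ha⟩ ⟨b, hb⟩)).mul_pow, e1, e2, one_mul]
    | inv a _ e1 => rw [inv_pow, e1, inv_one]
  have hDle : Nat.card D ≤ Nat.card A := hmx D hDel
  have h2 := Products.card_mul_card_le B (vQ p G)
  have hq' : Nat.card A = Nat.card ↥B * Nat.card ↥(A.map (qC p G)) := by
    have h3 := ((qC p G).comp A.subtype).ker.card_mul_index
    rw [Subgroup.index_ker, MonoidHom.range_comp, Subgroup.range_subtype] at h3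
    rw [← h3]
    congr 1
    exact Nat.card_congr
      { toFun := fun x => ⟨((x : A) : G), (x : A).2, qC_eq_one.1 x.2⟩
        invFun := fun x => ⟨⟨(x : G), x.2.1⟩, qC_eq_one.2 x.2.2⟩
        left_inv := fun x => rfl
        right_inv := fun x => rfl }
  have hBV : Nat.card ↥(B ⊓ vQ p G) ≤ Nat.card ↥(fix (qAct p G) (A.map (qC p G))) := by
    refine Nat.card_le_card_of_injective (fun x : ↥(B ⊓ vQ p G) => (⟨av x.2.2, (mem_fix_av _).2 fun a ha => ?_⟩ :
      ↥(fix (qAct p G) (A.map (qC p G))))) fun x y e => Subtype.ext (av_eq.1 (congrArg Subtype.val e))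
    have hcm : a * (x : G) = (x : G) * a := congrArg Subtype.val (hel.1.is_comm.comm ⟨a, ha⟩ ⟨x, x.2.1.1⟩)
    rw [hcm, mul_inv_cancel_right]
  have h4 : Nat.card B * Nat.card ↥(vQ p G) ≤ Nat.card B * mu (qAct p G) (A.map (qC p G)) := by
    rw [mu, ← mul_assoc, ← hq']
    exact h2.trans (Nat.mul_le_mul hDle hBV)
  exact (Nat.card_congr Additive.toMul).trans_le (Nat.le_of_mul_le_mul_left h4 Nat.card_pos)

/-- **The components.** -/
theorem exists_components : ∃ (r : ℕ) (E : Fin r → Subgroup (G ⧸ cV p G)), 1 ≤ r ∧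
    Layout (qAct p G) (T.mapSurjective qC_surjective) (M.map (qC p G)) E := by
  obtain ⟨A, hA, hAC⟩ := c.mx_not_le
  obtain ⟨⟨h1, h2⟩, h3, h4⟩ := c.mx_image hA
  refine exists_layout (RootBlocks.hasSplit p) c.exists_over ⟨A.map (qC p G), h3, h1, h2, fun e => hAC ?_, h4⟩
  rw [← qC_ker]
  exact (Subgroup.map_eq_bot_iff A).1 e

end Ctx

end CfsgLib.BlockPush
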