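import Cfsg.Agent.Lib.RootCommute.Module
import Cfsg.Agent.Lib.PSL2.Aut
import Cfsg.Agent.Lib.PushUp.Natural
import Mathlib.GroupTheory.Sylow
import Mathlib.FieldTheory.Finite.Basic

/-!
What is used of one component of `G/C_G(V)` acting on its natural module, and the linear case.
-/

set_option autoImplicit false
set_option linter.unusedSectionVars false
set_option linter.style.haveILetI false

namespace CfsgLib.BlockPush

open CfsgLib CfsgLib.RootCommute Matrix
open CfsgLib.SL2Pair (fix mem_fix)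
open CfsgLib.StrongFusion (cm)
open CfsgLib.PSL2 (uSL vSL)

universe u v

/-- A component with its subgroup `J` generated by the offenders in a Sylow subgroup. -/
structure Piece {E : Type u} [Group E] {U : Type v} [AddCommGroup U] (p : ℕ) (σ : E →* AddMonoid.End U)
    (S : Sylow p E) (J : Subgroup E) : Prop where
  le : J ≤ (S : Subgroup E)
  norm : (S : Subgroup E) ≤ Subgroup.normalizer (J : Set E)
  bound : ∀ A : Subgroup E, A ≤ (S : Subgroup E) → (∀ a ∈ A, ∀ c ∈ A, a * c = c * a) → (∀ a ∈ A, a ^ p = 1) →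
    mu σ A ≤ Nat.card U ∧ (Nat.card U ≤ mu σ A → A ≤ J)
  span : ∀ A K : Subgroup E, A ≤ (S : Subgroup E) → (∀ a ∈ A, ∀ c ∈ A, a * c = c * a) → (∀ a ∈ A, a ^ p = 1) →
    A ≠ ⊥ → Nat.card U ≤ mu σ A → A ≤ K → (S : Subgroup E) ≤ Subgroup.normalizer (K : Set E) → J ≤ K
  fix_ne : fix σ J ≠ ⊥
  no_fixed : fix σ ⊤ = ⊥
  /-- An automorphism of the module normalizing the group and fixing the fixed space of `J` lies in `J`. -/
  fixer : ∀ t t' : AddMonoid.End U, (∀ u, t' (t u) = u) → (∀ u, t (t' u) = u) →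
    (∀ g, ∃ g', ∀ u, t (σ g (t' u)) = σ g' u) → (∀ u ∈ fix σ J, t u = u) → (∃ k : ℕ, t ^ p ^ k = 1) →
    ∃ j ∈ J, t = σ j
  gen : ∃ g, J ⊔ cm g J = ⊤
  quad : img σ J ≤ fix σ J
  region : ∃ (R : Subgroup E) (F : Type) (_ : Field F) (_ : Fintype F) (n : ℕ)
    (f : ↥R →* Matrix.ProjectiveSpecialLinearGroup (Fin 2) F), Function.Surjective f ∧ 1 ≤ n ∧
      Fintype.card F = p ^ n ∧ J ≤ R ∧ R ⊔ (S : Subgroup E) = ⊤ ∧ ¬ R ≤ Subgroup.normalizer (J : Set E) ∧
      (∀ P ≤ R, IsPGroup p P → J ≤ P → P ≤ J) ∧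
      ∀ H, J ≤ H → H ≤ R → H = R ∨ H ≤ Subgroup.normalizer (J : Set E)

/-- A group of `p`-power order fixes a nonzero vector of a nontrivial `p`-group. -/
theorem exists_fixed {E : Type u} [Group E] [Finite E] {U : Type v} [AddCommGroup U] [Finite U] {p : ℕ}
    [Fact p.Prime] (σ : E →* AddMonoid.End U) {P : Subgroup E} (hP : IsPGroup p P) (hU : p ∣ Nat.card U) :
    ∃ v : U, v ≠ 0 ∧ v ∈ fix σ P := by
  letI : MulAction P U :=
    { smul := fun g u => σ (g : E) u
      one_smul := fun u => by show σ ((1 : P) : E) u = u; rw [Subgroup.coe_one, act_one]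
      mul_smul := fun g h u => by show σ ((g * h : P) : E) u = _; rw [Subgroup.coe_mul, act_mul]; rfl }
  have h0 : (0 : U) ∈ MulAction.fixedPoints P U := fun g => map_zero (σ (g : E))
  obtain ⟨v, hv, hne⟩ := hP.exists_fixed_point_of_prime_dvd_card_of_fixed_point U hU h0
  exact ⟨v, fun e => hne e.symm, fun a ha => hv ⟨a, ha⟩⟩

section Linear

variable {F : Type} [Field F]

local notation "SL" => Matrix.SpecialLinearGroup (Fin 2) F
local notation "V2" => (Fin 2 → F)

/-- The natural action. -/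
def natSL : SL →* AddMonoid.End V2 where
  toFun g := (g.1.mulVecLin).toAddMonoidHom
  map_one' := AddMonoidHom.ext fun x => by
    show ((1 : SL) : Matrix (Fin 2) (Fin 2) F).mulVec x = x
    simp
  map_mul' g h := AddMonoidHom.ext fun x => (Matrix.mulVec_mulVec x g.1 h.1).symm

theorem natSL_apply (g : SL) (x : V2) : natSL g x = g.1.mulVec x := rfl

theorem natSL_apply0 (g : SL) (x : V2) : natSL g x 0 = g.1 0 0 * x 0 + g.1 0 1 * x 1 := by
  simp [natSL_apply, Matrix.mulVec, dotProduct, Fin.sum_univ_two]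

theorem natSL_apply1 (g : SL) (x : V2) : natSL g x 1 = g.1 1 0 * x 0 + g.1 1 1 * x 1 := by
  simp [natSL_apply, Matrix.mulVec, dotProduct, Fin.sum_univ_two]

theorem natSL_u (a : F) (x : V2) : natSL (uSL a) x = ![x 0 + a * x 1, x 1] :=
  CfsgLib.PushUp.mulVec_uSL a x

theorem natSL_v (a : F) (x : V2) : natSL (vSL a) x = ![x 0, a * x 0 + x 1] :=
  CfsgLib.PushUp.mulVec_vSL a x

theorem vec_eq {x : V2} (h : x 1 = 0) : x = ![x 0, 0] := by
  funext i; fin_cases i
  · rfl
  · exact h

/-- The upper unitriangular group. -/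
def uGrp : Subgroup SL where
  carrier := {g | g.1 1 0 = 0 ∧ g.1 0 0 = 1}
  one_mem' := by simp
  mul_mem' {g h} hg hh := by
    constructor <;> simp [Matrix.mul_apply, Fin.sum_univ_two, hg.1, hg.2, hh.1, hh.2]
  inv_mem' {g} hg := by
    have hd : g.1 0 0 * g.1 1 1 - g.1 0 1 * g.1 1 0 = 1 := by rw [← Matrix.det_fin_two]; exact g.2
    rw [hg.1, hg.2, mul_zero, sub_zero, one_mul] at hd
    constructor <;> simp [Matrix.adjugate_fin_two, hg.1, hd]

theorem uGrp_eq {g : SL} (hg : g ∈ (uGrp : Subgroup SL)) : g = uSL (g.1 0 1) := by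
  have hd : g.1 0 0 * g.1 1 1 - g.1 0 1 * g.1 1 0 = 1 := by rw [← Matrix.det_fin_two]; exact g.2
  rw [hg.1, hg.2, mul_zero, sub_zero, one_mul] at hd
  apply Subtype.ext
  ext i j
  fin_cases i <;> fin_cases j <;> simp [PSL2.coe_uSL, hg.1, hg.2, hd]

theorem uSL_mem (a : F) : uSL a ∈ (uGrp : Subgroup SL) := by
  constructor <;> simp [PSL2.coe_uSL]

theorem fix_uGrp_nontrivial {A : Subgroup SL} (hA : A ≤ uGrp) (hne : A ≠ ⊥) {x : V2}
    (hx : x ∈ fix natSL A) : x 1 = 0 := by
  obtain ⟨g, hg, hg1⟩ := A.bot_or_exists_ne_one.resolve_left hne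
  have h := congrFun (hx g hg) 0
  rw [uGrp_eq (hA hg), natSL_u] at h
  have ha : g.1 0 1 ≠ 0 := fun e => hg1 (by
    rw [uGrp_eq (hA hg), e]
    exact Subtype.ext (by simp [PSL2.coe_uSL, Matrix.one_fin_two]))
  have h' : g.1 0 1 * x 1 = 0 := by
    simpa using h
  exact (mul_eq_zero.mp h').resolve_left ha

theorem mem_fix_uGrp {x : V2} : x ∈ fix natSL (uGrp : Subgroup SL) ↔ x 1 = 0 := by
  refine ⟨fun h => fix_uGrp_nontrivial le_rfl (fun e => ?_) h, fun h g hg => ?_⟩
  · have h1 : uSL (1 : F) ∈ (⊥ : Subgroup SL) := e ▸ uSL_mem (1 : F)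
    rw [Subgroup.mem_bot] at h1
    simpa [PSL2.coe_uSL] using congrFun (congrFun (congrArg Subtype.val h1) 0) 1
  · rw [uGrp_eq hg, natSL_u, h, mul_zero, add_zero]
    exact (vec_eq h).symm

theorem normalizer_uGrp [Finite F] {g : SL} (hg : g.1 1 0 = 0) :
    g ∈ Subgroup.normalizer ((uGrp : Subgroup SL) : Set SL) := by
  refine PushUp.mem_normalizer_of_conj fun x hx => ?_
  have hd : g.1 0 0 * g.1 1 1 - g.1 0 1 * g.1 1 0 = 1 := by rw [← Matrix.det_fin_two]; exact g.2
  rw [hg, mul_zero, sub_zero] at hd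
  rw [uGrp_eq hx]
  constructor
  · simp [PSL2.coe_uSL, Matrix.mul_apply, Fin.sum_univ_two, Matrix.adjugate_fin_two, hg]
  · simp [PSL2.coe_uSL, Matrix.mul_apply, Fin.sum_univ_two, Matrix.adjugate_fin_two, hg, hd]

variable [Fintype F]

theorem card_V2 : Nat.card V2 = Fintype.card F * Fintype.card F := by
  rw [Nat.card_eq_fintype_card, Fintype.card_fun, Fintype.card_fin, pow_two]

theorem card_uGrp : Nat.card (uGrp : Subgroup SL) = Fintype.card F := by
  rw [← Nat.card_eq_fintype_card]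
  exact Nat.card_congr
    { toFun := fun g => g.1.1 0 1
      invFun := fun a => ⟨uSL a, uSL_mem a⟩
      left_inv := fun g => Subtype.ext (uGrp_eq g.2).symm
      right_inv := fun a => by simp [PSL2.coe_uSL] }

theorem card_fix_line : Nat.card (fix natSL (uGrp : Subgroup SL)) = Fintype.card F := by
  rw [← Nat.card_eq_fintype_card]
  exact Nat.card_congr
    { toFun := fun x => (x : V2) 0
      invFun := fun a => ⟨![a, 0], mem_fix_uGrp.2 rfl⟩
      left_inv := fun x => Subtype.ext (vec_eq (mem_fix_uGrp.1 x.2)).symm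
      right_inv := fun a => rfl }

/-- The upper unitriangular group contains every `p`-subgroup containing it. -/
theorem le_uGrp (p : ℕ) [Fact p.Prime] [CharP F p] {P : Subgroup SL} (hP : IsPGroup p P) (h : uGrp ≤ P) :
    P ≤ uGrp := by
  obtain ⟨n, -, hn⟩ := FiniteField.card F p
  have hdvd : p ∣ Nat.card V2 := by
    rw [card_V2, hn]
    exact Dvd.dvd.mul_right (dvd_pow_self p n.ne_zero) _
  obtain ⟨v, hv0, hv⟩ := exists_fixed (natSL (F := F)) hP hdvd
  have hv1 : v 1 = 0 := mem_fix_uGrp.1 (fix_antitone _ h hv)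
  have hv00 : v 0 ≠ 0 := fun e => hv0 (by rw [vec_eq hv1, e]; ext i; fin_cases i <;> rfl)
  intro g hg
  have h0 := congrFun (hv g hg) 0
  have h1 := congrFun (hv g hg) 1
  rw [natSL_apply0, hv1, mul_zero, add_zero] at h0
  rw [natSL_apply1, hv1, mul_zero, add_zero] at h1
  exact ⟨(mul_eq_zero.mp h1).resolve_right hv00, mul_right_cancel₀ hv00 (by rw [one_mul]; exact h0)⟩

theorem isPGroup_uGrp (p : ℕ) [Fact p.Prime] [CharP F p] : IsPGroup p (uGrp : Subgroup SL) := by
  obtain ⟨n, -, hn⟩ := FiniteField.card F p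
  exact IsPGroup.of_card (n := (n : ℕ)) (by rw [card_uGrp, hn])

theorem exists_sylow_uGrp (p : ℕ) [Fact p.Prime] [CharP F p] :
    ∃ S : Sylow p SL, (S : Subgroup SL) = uGrp := by
  obtain ⟨S, hS⟩ := (isPGroup_uGrp (F := F) p).exists_le_sylow
  exact ⟨S, le_antisymm (le_uGrp p S.isPGroup' hS) hS⟩

/-- **The linear component.** -/
theorem piece_sl (p n : ℕ) [Fact p.Prime] [CharP F p] (hn : 1 ≤ n) (hF : Fintype.card F = p ^ n) (S : Sylow p SL)
    (hS : (S : Subgroup SL) = uGrp) : Piece p (natSL (F := F)) S uGrp := by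
  classical
  have hq : 0 < Fintype.card F := Fintype.card_pos
  have hsmall : ∀ A : Subgroup SL, A ≤ uGrp → A ≠ ⊥ → fix natSL A = fix natSL (uGrp : Subgroup SL) := by
    intro A hA hne
    exact le_antisymm (fun x hx => mem_fix_uGrp.2 (fix_uGrp_nontrivial hA hne hx)) (fix_antitone _ hA)
  have hall : ∀ A : Subgroup SL, A ≤ uGrp → A ≠ ⊥ → Nat.card V2 ≤ mu natSL A → A = uGrp := by
    intro A hA hne hmu
    rw [mu, hsmall A hA hne, card_fix_line, card_V2] at hmu
    exact Subgroup.eq_of_le_of_card_ge hA (by rw [card_uGrp]; exact Nat.le_of_mul_le_mul_right hmu hq)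
  refine ⟨hS.ge, hS ▸ Subgroup.le_normalizer, fun A hA _ _ => ⟨?_, fun _ => hS ▸ hA⟩,
    fun A K hA _ _ hne hmu hAK _ => (hall A (hS ▸ hA) hne hmu).ge.trans hAK, ?_, ?_, ?_, ?_, ?_, ?_⟩
  · by_cases hne : A = ⊥
    · subst hne
      rw [mu, Subgroup.card_bot, one_mul]
      exact Nat.card_le_card_of_injective _ Subtype.val_injective
    · rw [mu, hsmall A (hS ▸ hA) hne, card_fix_line, card_V2]
      exact Nat.mul_le_mul_right _ (card_uGrp (F := F) ▸ Subgroup.card_le_of_le (hS ▸ hA))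
  · intro h
    have h1 : (![1, 0] : V2) ∈ fix natSL (uGrp : Subgroup SL) := mem_fix_uGrp.2 rfl
    rw [h, AddSubgroup.mem_bot] at h1
    exact one_ne_zero (congrFun h1 0)
  · refine (AddSubgroup.eq_bot_iff_forall _).2 fun x hx => ?_
    have h1 := congrFun (hx (uSL 1) trivial) 0
    have h2 := congrFun (hx (vSL 1) trivial) 1
    rw [natSL_u] at h1
    rw [natSL_v] at h2
    funext i
    fin_cases i
    · simpa using h2
    · simpa using h1
  · intro t t' ht't htt' hnorm hfix hpow
    have hL : ∀ x : V2, x 1 = 0 → t x = x := fun x hx => hfix x (mem_fix_uGrp.2 hx)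
    have hL' : ∀ x : V2, x 1 = 0 → t' x = x := fun x hx => by conv_lhs => rw [← hL x hx, ht't]
    obtain ⟨g, hg⟩ := hnorm (uSL 1)
    have hgU : g ∈ (uGrp : Subgroup SL) := by
      have h : natSL g ![1, 0] = ![1, 0] := by
        rw [← hg, hL' _ rfl, natSL_u]
        simp [hL]
      have h0 := congrFun h 0
      have h1 := congrFun h 1
      rw [natSL_apply0] at h0
      rw [natSL_apply1] at h1
      exact ⟨by simpa using h1, by simpa using h0⟩
    set c := g.1 0 1 with hc
    have hcu : ∀ u : V2, t' u 1 = c * u 1 := by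
      intro u
      have h := hg u
      rw [uGrp_eq hgU, natSL_u, natSL_u] at h
      have e : (![t' u 0 + 1 * t' u 1, t' u 1] : V2) = t' u + ![t' u 1, 0] := by
        funext i; fin_cases i <;> simp
      rw [e, map_add, htt', hL _ rfl] at h
      simpa using congrFun h 0
    have hd : ∀ u : V2, c * t u 1 = u 1 := fun u => by rw [← hcu, ht't]
    obtain ⟨k, hk⟩ := hpow
    have hit : ∀ (m : ℕ) (u : V2), c ^ m * (t ^ m) u 1 = u 1 := by
      intro m
      induction m with
      | zero => intro u; simp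
      | succ m ih =>
        intro u
        have e : (t ^ (m + 1)) u = (t ^ m) (t u) := by rw [pow_succ]; rfl
        rw [e, pow_succ', mul_assoc, ih, hd]
    have hc1 : c = 1 := by
      have h := hit (p ^ k) ![0, 1]
      rw [hk] at h
      have h' : c ^ p ^ k = 1 := by simpa using h
      rw [← sub_eq_zero]
      refine pow_eq_zero_iff (pow_ne_zero k (Fact.out : p.Prime).ne_zero) |>.mp ?_
      rw [sub_pow_char_pow, h', one_pow, sub_self]
    have ht1 : ∀ u : V2, t u 1 = u 1 := fun u => by simpa [hc1] using hd u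
    set δ : F → F := fun y => t ![0, y] 0 with hδ
    have hsplit : ∀ x y : F, (![x, y] : V2) = ![x, 0] + ![0, y] := fun x y => by
      funext i; fin_cases i <;> simp
    have htxy : ∀ x y : F, t ![x, y] = ![x + δ y, y] := fun x y => by
      have h2 : t ![0, y] = ![δ y, y] := by
        funext i; fin_cases i
        · rfl
        · exact ht1 ![0, y]
      rw [hsplit x y, map_add, hL _ rfl, h2]
      funext i; fin_cases i <;> simp
    obtain ⟨g', hg'⟩ := hnorm (vSL 1)
    have hlin : ∀ x : F, x + δ x = g'.1 0 0 * x := fun x => by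
      have h := congrFun (hg' ![x, 0]) 0
      rw [hL' _ rfl, natSL_v, natSL_apply0] at h
      simp only [Matrix.cons_val_zero, Matrix.cons_val_one, one_mul, add_zero, mul_zero] at h
      rw [htxy] at h
      simpa using h
    have hδlin : ∀ x : F, δ x = δ 1 * x := fun x => by linear_combination hlin x - x * hlin 1
    refine ⟨uSL (δ 1), uSL_mem _, AddMonoidHom.ext fun u => ?_⟩
    have hu : u = ![u 0, u 1] := by funext i; fin_cases i <;> rfl
    refine ((congrArg t hu).trans (htxy (u 0) (u 1))).trans (Eq.trans ?_ (natSL_u (δ 1) u).symm)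
    rw [hδlin]
  · let w : SL := ⟨!![0, -1; 1, 0], by simp [Matrix.det_fin_two_of]⟩
    refine ⟨w, CfsgLib.PushUp.sl_top_of_transvections (fun a => Subgroup.mem_sup_left (uSL_mem a)) fun a => ?_⟩
    refine Subgroup.mem_sup_right ⟨uSL (-a), uSL_mem (-a), Subtype.ext ?_⟩
    show (w * uSL (-a) * w⁻¹).1 = (vSL a).1
    rw [Matrix.SpecialLinearGroup.coe_mul, Matrix.SpecialLinearGroup.coe_mul, Matrix.SpecialLinearGroup.coe_inv]
    simp only [w, PSL2.coe_uSL, PSL2.coe_vSL, Matrix.adjugate_fin_two]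
    ext i j
    fin_cases i <;> fin_cases j <;>
      simp [Matrix.mul_apply, Fin.sum_univ_two]
  · refine (RootCommute.img_le _).2 fun g hg x => mem_fix_uGrp.2 ?_
    rw [uGrp_eq hg, natSL_u]
    simp
  · refine ⟨⊤, F, inferInstance, inferInstance, n,
      (PSL2.mk (F := F)).comp (⊤ : Subgroup SL).subtype, ?_, hn, hF, le_top, top_sup_eq _, ?_,
      fun P _ hP h => le_uGrp p hP h, fun H hH _ => ?_⟩
    · intro x
      obtain ⟨y, rfl⟩ := QuotientGroup.mk'_surjective _ x
      exact ⟨⟨y, trivial⟩, rfl⟩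
    · intro h
      have h1 := (Subgroup.mem_normalizer_iff.1 (h (Subgroup.mem_top (vSL (1 : F)))) (uSL 1)).1 (uSL_mem 1)
      have h2 := h1.1
      simp [PSL2.coe_uSL, PSL2.coe_vSL, Matrix.mul_apply, Fin.sum_univ_two, Matrix.adjugate_fin_two] at h2
    · by_cases hN : H ≤ Subgroup.normalizer ((uGrp : Subgroup SL) : Set SL)
      · exact Or.inr hN
      obtain ⟨g, hg, hgN⟩ := SetLike.not_le_iff_exists.mp hN
      have hc : g.1 1 0 ≠ 0 := fun e => hgN (normalizer_uGrp e)
      refine Or.inl (CfsgLib.PushUp.sl_top_of_transvections (fun a => hH (uSL_mem a)) fun a => ?_)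
      set h := uSL (-(g.1 0 0) / g.1 1 0) * g with hh
      have hhH : h ∈ H := H.mul_mem (hH (uSL_mem _)) hg
      have h00 : h.1 0 0 = 0 := by
        simp [hh, PSL2.coe_uSL, Matrix.mul_apply, Fin.sum_univ_two]
        field_simp
        ring
      have h10 : h.1 1 0 = g.1 1 0 := by
        simp [hh, PSL2.coe_uSL, Matrix.mul_apply, Fin.sum_univ_two]
      have e : h * uSL (-a / g.1 1 0 ^ 2) * h⁻¹ = vSL a := by
        have hd : h.1 0 0 * h.1 1 1 - h.1 0 1 * h.1 1 0 = 1 := by rw [← Matrix.det_fin_two]; exact h.2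
        rw [h00, zero_mul, zero_sub, h10] at hd
        apply Subtype.ext
        ext i j
        fin_cases i <;> fin_cases j <;>
          simp [PSL2.coe_uSL, PSL2.coe_vSL, Matrix.mul_apply, Fin.sum_univ_two, Matrix.adjugate_fin_two, h00, h10]
        · linear_combination hd
        · field_simp
          ring
        · linear_combination hd
      rw [← e]
      exact H.mul_mem (H.mul_mem hhH (hH (uSL_mem _))) (H.inv_mem hhH)

end Linear

end CfsgLib.BlockPush
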