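import Cfsg.Agent.Lib.RootBlocks.LocalStarStar
import Cfsg.Agent.Lib.AutomizerPrime

/-!
A `p`-minimal group in which nothing characteristic in the Baumann subgroup is normal: the first facts.
-/

set_option autoImplicit false
set_option linter.unusedSectionVars false
set_option linter.style.haveILetI false

namespace CfsgLib.BlockPush

open Cfsg CfsgLib CfsgLib.RootCommute CfsgLib.RootBlocks
open CfsgLib.SL2Pair (fix)
open CfsgLib.StrongFusion (cm cm_cm cm_one cm_inv_cm cm_mono card_cm)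
open scoped commutatorElement Pointwise

universe u

variable {G : Type u} [Group G] [Finite G] {p : ℕ} [hp : Fact p.Prime]

/-- `Ω₁(Z(O_p(G)))`. -/
def vQ (p : ℕ) (G : Type u) [Group G] : Subgroup G := omegaOneCenter p (pCore p G)

/-- The centralizer of `Ω₁(Z(O_p(G)))`. -/
def cV (p : ℕ) (G : Type u) [Group G] : Subgroup G := Subgroup.centralizer (vQ p G : Set G)

theorem vQ_elem : IsElementaryAbelian p (vQ p G) := (coreOmega_facts (G := G) p).1

instance vQ_normal : (vQ p G).Normal := (coreOmega_facts (G := G) p).2.1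

instance cV_normal : (cV p G).Normal := (coreOmega_facts (G := G) p).2.2

theorem vQ_comm {a b : G} (ha : a ∈ vQ p G) (hb : b ∈ vQ p G) : a * b = b * a :=
  congrArg Subtype.val ((vQ_elem (p := p)).1.is_comm.comm ⟨a, ha⟩ ⟨b, hb⟩)

theorem vQ_pow {a : G} (ha : a ∈ vQ p G) : a ^ p = 1 := (vQ_elem (p := p)).2 a ha

theorem vQ_le_core : vQ p G ≤ pCore p G := BBlock.omegaOneCenter_le p _

theorem core_le_cV : pCore p G ≤ cV p G := fun _ hx => Subgroup.mem_centralizer_iff.2 fun _ hv =>
  (BBlock.omegaOneCenter_comm p _ hv hx).symm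

theorem vQ_le_cV : vQ p G ≤ cV p G := vQ_le_core.trans core_le_cV

/-- The elementary abelian subgroups of greatest order in `X`. -/
def mx (p : ℕ) (X : Subgroup G) : Set (Subgroup G) := {A | A ∈ maxElementaryAbelianSubgroups p G ∧ A ≤ X}

/-- The Thompson subgroup of a subgroup containing one of the elementary abelian subgroups of greatest order. -/
theorem thompsonOf_eq_sSup {X : Subgroup G} (hX : (mx p X).Nonempty) :
    thompsonSubgroupOf p X = sSup (mx p X) := by
  obtain ⟨A₀, hA₀, hA₀X⟩ := hX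
  refine le_antisymm ?_ (sSup_le fun A hA => PLocal.le_thompsonSubgroupOf hA.2 hA.1)
  rw [thompsonSubgroupOf, Subgroup.map_le_iff_le_comap]
  refine sSup_le fun A hA => Subgroup.map_le_iff_le_comap.1
    (le_sSup ⟨⟨PLocal.isElementary_map _ hA.1, fun B hB => ?_⟩, Subgroup.map_subtype_le A⟩)
  rw [Subgroup.card_map_of_injective X.subtype_injective]
  refine (hA₀.2 B hB).trans ?_
  rw [← Nat.card_congr (Subgroup.subgroupOfEquivOfLe hA₀X).toEquiv]
  exact hA.2 _ (PLocal.isElementary_comap hA₀.1)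

theorem mx_cm {X : Subgroup G} {A : Subgroup G} (g : G) (hA : A ∈ mx p X) : cm g A ∈ mx p (cm g X) :=
  ⟨⟨PLocal.isElementary_map _ hA.1.1, fun B hB => by rw [card_cm]; exact hA.1.2 B hB⟩, cm_mono hA.2⟩

theorem mx_nonempty (T : Sylow p G) : (mx p (T : Subgroup G)).Nonempty := by
  obtain ⟨A, hA, hmax⟩ := Set.exists_max_image {A : Subgroup G | IsElementaryAbelian p A} (fun A => Nat.card A)
    (Set.toFinite _) ⟨vQ p G, vQ_elem⟩
  obtain ⟨g, hg, hgm⟩ := exists_conj_max T (A := A) ⟨hA, hmax⟩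
  exact ⟨cm g A, hgm, hg⟩

/-- The standing hypotheses. -/
structure Ctx (T : Sylow p G) (M : Subgroup G) : Prop where
  charp : Subgroup.centralizer (pCore p G : Set G) ≤ pCore p G
  le_M : (T : Subgroup G) ≤ M
  M_ne : M ≠ ⊤
  uniq : ∀ H : Subgroup G, (T : Subgroup G) ≤ H → H ≠ ⊤ → H ≤ M
  nochar : ∀ C : Subgroup G, C ≤ baumannSubgroupOf p (T : Subgroup G) → C ≠ ⊥ →
    (C.subgroupOf (baumannSubgroupOf p (T : Subgroup G))).Characteristic → ¬ C.Normal
  omega : ¬ (omegaOneCenter p (T : Subgroup G)).Normal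

theorem exists_ctx (hmin : IsPMinimal p G) (hG : Subgroup.centralizer (pCore p G : Set G) ≤ pCore p G)
    (T : Sylow p G) (hchar : ∀ C : Subgroup G, C ≤ baumannSubgroupOf p (T : Subgroup G) → C ≠ ⊥ →
      (C.subgroupOf (baumannSubgroupOf p (T : Subgroup G))).Characteristic → ¬ C.Normal)
    (hz : ¬ (omegaOneCenter p (T : Subgroup G)).Normal) : ∃ M, Ctx T M := by
  obtain ⟨-, M, ⟨hMco, hTM⟩, huniq⟩ := hmin T
  refine ⟨M, hG, hTM, hMco.1, fun H hH hne => ?_, hchar, hz⟩
  rcases IsCoatomic.eq_top_or_exists_le_coatom H with h | ⟨K, hK, hHK⟩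
  · exact absurd h hne
  · exact huniq K ⟨hK, hH.trans hHK⟩ ▸ hHK

/-- `J(T)`. -/
abbrev tJ (T : Sylow p G) : Subgroup G := thompsonSubgroupOf p (T : Subgroup G)

/-- `B(T)`. -/
abbrev tB (T : Sylow p G) : Subgroup G := baumannSubgroupOf p (T : Subgroup G)

/-- `Ω₁(Z(J(T)))`. -/
abbrev tZ (T : Sylow p G) : Subgroup G := omegaOne p (centerThompsonOf p (T : Subgroup G))

theorem tJ_eq (T : Sylow p G) : tJ T = sSup (mx p (T : Subgroup G)) := thompsonOf_eq_sSup (mx_nonempty T)

theorem tJ_le_tB (T : Sylow p G) : tJ T ≤ tB T := BBlock.thompsonSubgroupOf_le_baumann p _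

theorem tB_le (T : Sylow p G) : tB T ≤ (T : Subgroup G) := inf_le_left

theorem tJ_le (T : Sylow p G) : tJ T ≤ (T : Subgroup G) := Subgroup.map_subtype_le _

theorem le_tJ {T : Sylow p G} {A : Subgroup G} (hA : A ∈ mx p (T : Subgroup G)) : A ≤ tJ T :=
  PLocal.le_thompsonSubgroupOf hA.2 hA.1

theorem tZ_comm {T : Sylow p G} {z j : G} (hz : z ∈ tZ T) (hj : j ∈ tJ T) : z * j = j * z :=
  (BBlock.omegaOneCenter_comm p (tJ T) hz hj).symm

theorem tZ_pow {T : Sylow p G} {z : G} (hz : z ∈ tZ T) : z ^ p = 1 := BBlock.omegaOneCenter_pow p _ hz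

theorem tZ_le_tJ (T : Sylow p G) : tZ T ≤ tJ T := BBlock.omegaOneCenter_le p _

/-- Centralizing elements of order `p` lie in the elementary abelian subgroups of greatest order. -/
theorem mem_of_mx {X A : Subgroup G} (hA : A ∈ mx p X) {z : G} (hz : ∀ a ∈ A, z * a = a * z) (hzp : z ^ p = 1) :
    z ∈ A := by
  set D := A ⊔ Subgroup.zpowers z with hD
  have hcomm : ∀ x ∈ (A : Set G) ∪ {z}, ∀ y ∈ (A : Set G) ∪ {z}, x * y = y * x := by
    rintro x (hx | rfl) y (hy | rfl)
    · exact congrArg Subtype.val (hA.1.1.1.is_comm.comm ⟨x, hx⟩ ⟨y, hy⟩)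
    · exact (hz x hx).symm
    · exact hz y hy
    · rfl
  have hDeq : D = Subgroup.closure ((A : Set G) ∪ {z}) := by
    rw [Subgroup.closure_union, Subgroup.closure_eq, ← Subgroup.zpowers_eq_closure]
  have hDel : IsElementaryAbelian p D := by
    haveI hc : IsMulCommutative ↥D := by
      rw [hDeq]
      exact Subgroup.isMulCommutative_closure hcomm
    refine ⟨hc, fun x hx => ?_⟩
    rw [hDeq] at hx
    induction hx using Subgroup.closure_induction with
    | mem y hy =>
      rcases hy with hy | hy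
      · exact hA.1.1.2 y hy
      · rw [Set.mem_singleton_iff.1 hy]; exact hzp
    | one => exact one_pow p
    | mul a b ha hb e1 e2 =>
      rw [← hDeq] at ha hb
      rw [(show Commute a b from congrArg Subtype.val (hc.is_comm.comm ⟨a, ha⟩ ⟨b, hb⟩)).mul_pow, e1, e2, one_mul]
    | inv a _ e1 => rw [inv_pow, e1, inv_one]
  have hle : A = D := Subgroup.eq_of_le_of_card_ge le_sup_left (hA.1.2 D hDel)
  rw [hle]
  exact Subgroup.mem_sup_right (Subgroup.mem_zpowers z)

theorem tZ_le_mx {T : Sylow p G} {A : Subgroup G} (hA : A ∈ mx p (T : Subgroup G)) : tZ T ≤ A := fun z hz =>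
  mem_of_mx hA (fun _ ha => tZ_comm hz (le_tJ hA ha)) (tZ_pow hz)

theorem mem_tB {T : Sylow p G} {t : G} :
    t ∈ tB T ↔ t ∈ (T : Subgroup G) ∧ ∀ z ∈ tZ T, z * t = t * z :=
  Subgroup.mem_inf.trans (and_congr_right fun _ => Subgroup.mem_centralizer_iff)

theorem normalizer_tJ_le_tZ (T : Sylow p G) :
    Subgroup.normalizer (tJ T : Set G) ≤ Subgroup.normalizer (tZ T : Set G) :=
  BBlock.normalizer_le_normalizer_omegaOneCenter p _

theorem le_normalizer_tJ (T : Sylow p G) : (T : Subgroup G) ≤ Subgroup.normalizer (tJ T : Set G) := by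
  have h := PLocal.normalizer_inf_le_normalizer_thompson T (C := (⊤ : Subgroup G)) le_top
  rw [inf_top_eq] at h
  exact fun t ht => h (Subgroup.le_normalizer ht)

theorem le_normalizer_tB (T : Sylow p G) : (T : Subgroup G) ≤ Subgroup.normalizer (tB T : Set G) := fun t ht =>
  ZJFailure.mem_normalizer_of_forall fun x hx => mem_tB.2 ⟨(T : Subgroup G).mul_mem ((T : Subgroup G).mul_mem ht
    (mem_tB.1 hx).1) ((T : Subgroup G).inv_mem ht), fun z hz => by
    have hN := normalizer_tJ_le_tZ T (le_normalizer_tJ T ht)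
    have h1 := (mem_tB.1 hx).2 _ ((Subgroup.mem_normalizer_iff''.1 hN z).1 hz)
    calc z * (t * x * t⁻¹) = t * (t⁻¹ * z * t * x) * t⁻¹ := by group
      _ = t * (x * (t⁻¹ * z * t)) * t⁻¹ := by rw [h1]
      _ = t * x * t⁻¹ * z := by group⟩

namespace Ctx

variable {T : Sylow p G} {M : Subgroup G} (c : Ctx T M)
include c

/-- What is normalized by the Sylow subgroup and is not normal is normalized inside `M` only. -/
theorem normalizer_le {X : Subgroup G} (hT : (T : Subgroup G) ≤ Subgroup.normalizer (X : Set G))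
    (hX : ¬ X.Normal) : Subgroup.normalizer (X : Set G) ≤ M :=
  c.uniq _ hT fun h => hX (Subgroup.normalizer_eq_top_iff.1 h)

theorem char_le_M {C : Subgroup G} (hC : C ≤ tB T) (hne : C ≠ ⊥)
    (hch : (C.subgroupOf (tB T)).Characteristic) : Subgroup.normalizer (C : Set G) ≤ M := by
  refine c.normalizer_le (fun t ht => ?_) (c.nochar C hC hne hch)
  haveI := hch
  have hN := Subgroup.mem_normalizer_iff.1 (le_normalizer_tB T ht)
  let φ : ↥(tB T) ≃* ↥(tB T) :=
    { toFun := fun x => ⟨t * x * t⁻¹, (hN x).1 x.2⟩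
      invFun := fun x => ⟨t⁻¹ * x * t, (hN _).2 (by
        rw [show t * (t⁻¹ * (x : G) * t) * t⁻¹ = x by group]; exact x.2)⟩
      left_inv := fun x => Subtype.ext (show t⁻¹ * (t * (x : G) * t⁻¹) * t = x by group)
      right_inv := fun x => Subtype.ext (show t * (t⁻¹ * (x : G) * t) * t⁻¹ = x by group)
      map_mul' := fun x y => Subtype.ext (show t * ((x : G) * y) * t⁻¹ = t * x * t⁻¹ * (t * y * t⁻¹) by group) }
  refine ZJFailure.mem_normalizer_of_forall fun x hx => ?_
  have h := (Subgroup.characteristic_iff_comap_eq.1 hch φ).ge (show (⟨x, hC hx⟩ : ↥(tB T)) ∈ C.subgroupOf (tB T) from hx)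
  exact h

theorem centralizer_omega_le : Subgroup.centralizer (omegaOneCenter p (T : Subgroup G) : Set G) ≤ M := by
  refine c.uniq _ (fun t ht => Subgroup.mem_centralizer_iff.2 fun z hz =>
    (BBlock.omegaOneCenter_comm p _ hz ht).symm) fun h => c.omega ⟨fun z hz g => ?_⟩
  have h1 : g ∈ Subgroup.centralizer (omegaOneCenter p (T : Subgroup G) : Set G) := h ▸ Subgroup.mem_top g
  have h2 : z * g = g * z := Subgroup.mem_centralizer_iff.1 h1 z hz
  rw [← h2, mul_inv_cancel_right]
  exact hz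

theorem cStar_le : cStarOf p (T : Subgroup G) ≤ M :=
  sup_le c.centralizer_omega_le (iSup_le fun C => c.char_le_M C.2.1 C.2.2.1 C.2.2.2)

theorem omega_le_vQ : omegaOneCenter p (T : Subgroup G) ≤ vQ p G :=
  (Subgroup.closure_le _).2 fun x hx => Subgroup.subset_closure
    ⟨⟨c.charp (Subgroup.centralizer_le (pCore_le_sylow T) hx.1.2),
      Subgroup.centralizer_le (pCore_le_sylow T) hx.1.2⟩, hx.2⟩

theorem cV_le_M : cV p G ≤ M := (Subgroup.centralizer_le c.omega_le_vQ).trans c.centralizer_omega_le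

theorem not_le_M {H : Subgroup G} (h : H ⊔ M = ⊤) : ¬ H ≤ M := fun hle =>
  c.M_ne (top_le_iff.1 (h.ge.trans (sup_le hle le_rfl)))

/-- A normal subgroup inside `M` meets the Sylow subgroup in `O_p(G)`. -/
theorem inf_le_core {K : Subgroup G} (hK : K.Normal) (hKM : K ≤ M) : (T : Subgroup G) ⊓ K ≤ pCore p G := by
  haveI := hK
  set T' := (T : Subgroup G)
  have h2 : T' ≤ Subgroup.normalizer ((T' ⊓ K : Subgroup G) : Set G) := fun t ht =>
    ZJFailure.mem_normalizer_of_forall fun x hx =>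
      Subgroup.mem_inf.2 ⟨T'.mul_mem (T'.mul_mem ht hx.1) (T'.inv_mem ht), hK.conj_mem x hx.2 t⟩
  by_cases hn : (T' ⊓ K).Normal
  · haveI := hn; exact le_pCore (T.2.to_le inf_le_left)
  · exact absurd (top_le_iff.1 ((frattini_inf T (K := K)).ge.trans (sup_le (c.normalizer_le h2 hn) hKM))) c.M_ne

theorem inf_cV_eq : (T : Subgroup G) ⊓ cV p G = pCore p G :=
  le_antisymm (c.inf_le_core inferInstance c.cV_le_M) (le_inf (pCore_le_sylow T) core_le_cV)

/-- `|C_G(V) : O_p(G)|` is prime to `p`. -/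
theorem not_dvd_relIndex : ¬ p ∣ (pCore p G).relIndex (cV p G) := by
  obtain ⟨P₁⟩ : Nonempty (Sylow p ↥(cV p G)) := inferInstance
  obtain ⟨a, ha⟩ := ZJFailure.exists_le_cm T (P₁.2.map (cV p G).subtype)
  have hle : (P₁ : Subgroup ↥(cV p G)).map (cV p G).subtype ≤ cm a (pCore p G) := fun x hx => by
    rw [← c.inf_cV_eq, RootCommute.mem_cm]
    have h2 := (inferInstance : (cV p G).Normal).conj_mem x (Subgroup.map_subtype_le _ hx) a⁻¹
    rw [inv_inv] at h2
    exact ⟨RootCommute.mem_cm.1 (ha hx), h2⟩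
  have hQp : IsPGroup p ((pCore p G).subgroupOf (cV p G)) :=
    (isPGroup_pCore p).of_equiv (Subgroup.subgroupOfEquivOfLe core_le_cV).symm
  obtain ⟨P₂, hP₂⟩ := hQp.exists_le_sylow
  have heq : (pCore p G).subgroupOf (cV p G) = (P₂ : Subgroup ↥(cV p G)) := by
    refine Subgroup.eq_of_le_of_card_ge hP₂ ?_
    rw [P₂.card_eq_multiplicity, ← P₁.card_eq_multiplicity, Nat.card_congr (Subgroup.subgroupOfEquivOfLe core_le_cV).toEquiv,
      ← Subgroup.card_map_of_injective (cV p G).subtype_injective (K := (P₁ : Subgroup ↥(cV p G))),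
      ← card_cm a (pCore p G)]
    exact Subgroup.card_le_of_le hle
  rw [Subgroup.relIndex, heq]
  exact P₂.not_dvd_index

/-- **What covers the group modulo `C_G(V)` covers it modulo `O_p(G)`.** -/
theorem sup_core_top {H : Subgroup G} (h : H ⊔ cV p G = ⊤) : H ⊔ pCore p G = ⊤ := by
  set H' := H ⊔ pCore p G with hH'
  have hsup : H' ⊔ cV p G = ⊤ := top_le_iff.1 (h.ge.trans (sup_le_sup_right le_sup_left _))
  have hidx : ¬ p ∣ H'.index := by
    intro hd
    refine c.not_dvd_relIndex (hd.trans ?_)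
    have h2 : (cV p G).index = (cV p G).relIndex H' := by
      rw [← Subgroup.relIndex_top_right (cV p G), ← hsup, sup_comm, Subgroup.relIndex_sup_left]
    have h3 : H'.index * Nat.card ↥(H' ⊓ cV p G) = Nat.card ↥(cV p G) := by
      refine Nat.eq_of_mul_eq_mul_left (Nat.card_pos (α := ↥H')) ?_
      have h5 := Products.card_inf_mul_relIndex (cV p G) H'
      have h6 := (cV p G).card_mul_index
      rw [← h2, inf_comm] at h5
      calc Nat.card ↥H' * (H'.index * Nat.card ↥(H' ⊓ cV p G))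
          = Nat.card G * Nat.card ↥(H' ⊓ cV p G) := by rw [← mul_assoc, Subgroup.card_mul_index]
        _ = Nat.card ↥(cV p G) * (Nat.card ↥(H' ⊓ cV p G) * (cV p G).index) := by rw [← h6]; ring
        _ = _ := by rw [h5, mul_comm]
    have h4 : H'.index = (H' ⊓ cV p G).relIndex (cV p G) := by
      refine Nat.eq_of_mul_eq_mul_right (Nat.card_pos (α := ↥(H' ⊓ cV p G))) ?_
      rw [h3, mul_comm, CfsgLib.Products.card_mul_relIndex_of_le inf_le_right]
    rw [h4]
    exact Subgroup.relIndex_dvd_of_le_left _ (le_inf le_sup_right core_le_cV)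
  obtain ⟨P₁⟩ : Nonempty (Sylow p ↥H') := inferInstance
  have hcard : Nat.card (T : Subgroup G) ∣ Nat.card ↥H' := by
    obtain ⟨k, hk⟩ := IsPGroup.iff_card.1 T.2
    rw [hk]
    refine (Nat.Coprime.pow_left k ((hp.out.coprime_iff_not_dvd).2 hidx)).dvd_of_dvd_mul_left ?_
    rw [Subgroup.index_mul_card, ← hk]
    exact Subgroup.card_subgroup_dvd_card _
  obtain ⟨a, ha⟩ := ZJFailure.exists_le_cm T (P₁.2.map H'.subtype)
  have hTa : cm a (T : Subgroup G) ≤ H' := by
    have heq : (P₁ : Subgroup ↥H').map H'.subtype = cm a (T : Subgroup G) := by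
      refine Subgroup.eq_of_le_of_card_ge ha ?_
      rw [card_cm, Subgroup.card_map_of_injective H'.subtype_injective]
      obtain ⟨k, hk⟩ := IsPGroup.iff_card.1 T.2
      rw [hk] at hcard ⊢
      rw [P₁.card_eq_multiplicity]
      exact Nat.pow_le_pow_right hp.out.pos
        ((hp.out.pow_dvd_iff_le_factorization Nat.card_pos.ne').1 hcard)
    exact heq ▸ Subgroup.map_subtype_le _
  by_contra hne
  have h1 : cm a⁻¹ H' ≤ M := by
    refine c.uniq _ (by rw [← cm_inv_cm a (T : Subgroup G)]; exact cm_mono hTa) fun e => hne ?_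
    rw [show H' = cm a (cm a⁻¹ H') by rw [cm_cm, mul_inv_cancel, cm_one], e]
    exact Subgroup.map_top_of_surjective _ (MulAut.conj a).surjective
  have h2 : H' ≤ cm a M := by
    conv_lhs => rw [← cm_one H', ← mul_inv_cancel a, ← cm_cm]
    exact cm_mono h1
  have h3 : cV p G ≤ cm a M := fun x hx => RootCommute.mem_cm.2 (c.cV_le_M (by
    have := (inferInstance : (cV p G).Normal).conj_mem x hx a⁻¹
    rwa [inv_inv] at this))
  have h5 : cm a M = ⊤ := top_le_iff.1 (hsup.ge.trans (sup_le h2 h3))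
  refine c.M_ne ?_
  rw [← cm_inv_cm a M, h5]
  exact Subgroup.map_top_of_surjective _ (MulAut.conj a⁻¹).surjective

end Ctx

end CfsgLib.BlockPush
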