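import Cfsg.Agent.Lib.BlockPush.SLFacts
import Cfsg.Agent.Lib.BlockPush.PermPiece

/-!
Small linear groups and alternating groups.
-/

set_option autoImplicit false
set_option linter.unusedSectionVars false
set_option linter.style.haveILetI false

namespace CfsgLib.BlockPush

open CfsgLib Matrix Equiv
open CfsgLib.PSL2 (uSL vSL coe_uSL coe_vSL)

local notation "S2" => Matrix.SpecialLinearGroup (Fin 2) (ZMod 2)
local notation "S3" => Matrix.SpecialLinearGroup (Fin 2) (ZMod 3)

/-- An isomorphism of rings gives one of the linear groups. -/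
theorem sl_equiv {F K : Type} [Field F] [Field K] (φ : F ≃+* K) :
    ∃ f : Matrix.SpecialLinearGroup (Fin 2) F ≃* Matrix.SpecialLinearGroup (Fin 2) K,
      ∀ g i j, (f g).1 i j = φ (g.1 i j) := by
  let f₁ := Matrix.SpecialLinearGroup.map (n := Fin 2) (φ : F →+* K)
  let f₂ := Matrix.SpecialLinearGroup.map (n := Fin 2) (φ.symm : K →+* F)
  refine ⟨MonoidHom.toMulEquiv f₁ f₂ (MonoidHom.ext fun g => Subtype.ext ?_)
    (MonoidHom.ext fun g => Subtype.ext ?_), fun g i j => rfl⟩
  · ext i j
    show φ.symm (φ (g.1 i j)) = _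
    rw [RingEquiv.symm_apply_apply]
    rfl
  · ext i j
    show φ (φ.symm (g.1 i j)) = _
    rw [RingEquiv.apply_symm_apply]
    rfl

theorem threeSL_bijective : Function.Bijective threeSL := by
  refine ⟨(injective_iff_map_eq_one _).2 fun π h => ?_, threeSL_surjective⟩
  have key : ∀ π : Perm (Fin 3), threeMat π = threeMat 1 → π = 1 := by decide
  exact key π (congrArg Subtype.val (h.trans (map_one threeSL).symm))

theorem s2_upper_sq : ∀ a : S2, a.1 1 0 = 0 → a * a = 1 := by decide +kernel

theorem perm_three_sq : ∀ g : Perm (Fin 3), g * g = 1 → Perm.sign g = 1 → g = 1 := by decide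

theorem s3_upper_iff : ∀ a : S3, a * a * (a * a) = 1 →
    (a.1 1 0 = 0 ↔ ∀ b : S3, b * b * (b * b) = 1 → a * b = b * a) := by decide +kernel

theorem sq_one_of_pow_four {F : Type} [Field F] [CharP F 2] {g : Matrix.SpecialLinearGroup (Fin 2) F}
    (h : g * g * (g * g) = 1) : g * g = 1 := by
  have h2 : (2 : F) = 0 := CharTwo.two_eq_zero
  have hi : (g * g)⁻¹ = g * g := inv_eq_of_mul_eq_one_right h
  have e := congrFun (congrFun (congrArg Subtype.val hi) 0) 0
  simp [Matrix.adjugate_fin_two, Matrix.mul_apply, Fin.sum_univ_two] at e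
  have ht : g.1 0 0 + g.1 1 1 = 0 := by
    refine mul_self_eq_zero.1 ?_
    linear_combination e + (g.1 0 0 * g.1 1 1 + g.1 0 0 * g.1 0 0) * h2
  have hg : g⁻¹ = g := by
    apply Subtype.ext
    ext i j
    fin_cases i <;> fin_cases j <;> simp [Matrix.adjugate_fin_two]
    · linear_combination ht - g.1 0 0 * h2
    · linear_combination (-g.1 0 1) * h2
    · linear_combination (-g.1 1 0) * h2
    · linear_combination ht - g.1 1 1 * h2
  nth_rw 1 [← hg]
  exact inv_mul_cancel g

theorem noncomm_sl {F : Type} [Field F] :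
    uSL (1 : F) * vSL 1 ≠ vSL 1 * uSL 1 := by
  intro h
  have e := congrFun (congrFun (congrArg Subtype.val h) 0) 0
  simp [coe_uSL, coe_vSL, Matrix.mul_apply, Fin.sum_univ_two] at e

/-- An alternating group of degree at least seven is no `SL₂`. -/
theorem alt_ne_sl {k : ℕ} (hk : 7 ≤ k) {F : Type} [Field F]
    (q : ↥(alternatingGroup (Fin k)) ≃* Matrix.SpecialLinearGroup (Fin 2) F) : False := by
  by_cases h2 : (2 : F) = 0
  · haveI : CharP F 2 := by
      have := Fact.mk Nat.prime_two
      exact ringChar.of_eq (CharP.ringChar_of_prime_eq_zero Nat.prime_two (by exact_mod_cast h2))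
    let a : Fin k := ⟨0, by omega⟩
    let b : Fin k := ⟨1, by omega⟩
    let c : Fin k := ⟨2, by omega⟩
    let d : Fin k := ⟨3, by omega⟩
    let u : Fin k := ⟨4, by omega⟩
    let v : Fin k := ⟨5, by omega⟩
    have ne : ∀ {i j : ℕ} {hi : i < k} {hj : j < k}, i ≠ j → (⟨i, hi⟩ : Fin k) ≠ ⟨j, hj⟩ :=
      fun h e => h (congrArg Fin.val e)
    set σ : Perm (Fin k) := swap a b * swap b c * swap c d * swap u v with hσ
    have hev : σ ∈ alternatingGroup (Fin k) := by
      rw [Perm.mem_alternatingGroup, hσ, map_mul, map_mul, map_mul, Perm.sign_swap (ne (by omega)),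
        Perm.sign_swap (ne (by omega)), Perm.sign_swap (ne (by omega)), Perm.sign_swap (ne (by omega))]
      decide
    have hsq : σ * σ ≠ 1 := fun e => by
      have e1 := congrArg (fun π : Perm (Fin k) => π a) e
      simp [hσ, swap_apply_def, a, b, c, d, u, v, Fin.ext_iff] at e1
    have h4 : σ * σ * (σ * σ) = 1 := by
      refine Equiv.ext fun x => ?_
      by_cases ha : x = a
      · subst ha; simp [hσ, swap_apply_def, a, b, c, d, u, v, Fin.ext_iff]
      by_cases hb : x = b
      · subst hb; simp [hσ, swap_apply_def, a, b, c, d, u, v, Fin.ext_iff]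
      by_cases hc : x = c
      · subst hc; simp [hσ, swap_apply_def, a, b, c, d, u, v, Fin.ext_iff]
      by_cases hd : x = d
      · subst hd; simp [hσ, swap_apply_def, a, b, c, d, u, v, Fin.ext_iff]
      by_cases hu : x = u
      · subst hu; simp [hσ, swap_apply_def, a, b, c, d, u, v, Fin.ext_iff]
      by_cases hv : x = v
      · subst hv; simp [hσ, swap_apply_def, a, b, c, d, u, v, Fin.ext_iff]
      have e1 : σ x = x := by
        rw [hσ, Perm.mul_apply, Perm.mul_apply, Perm.mul_apply, swap_apply_of_ne_of_ne hu hv,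
          swap_apply_of_ne_of_ne hc hd, swap_apply_of_ne_of_ne hb hc, swap_apply_of_ne_of_ne ha hb]
      simp [e1]
    set g : ↥(alternatingGroup (Fin k)) := ⟨σ, hev⟩
    have hg4 : q g * q g * (q g * q g) = 1 := by
      rw [← map_mul, ← map_mul, show g * g * (g * g) = 1 from Subtype.ext h4, map_one]
    have hg2 := sq_one_of_pow_four hg4
    rw [← map_mul, MulEquiv.map_eq_one_iff] at hg2
    exact hsq (congrArg Subtype.val hg2)
  · have hc : q.symm (-1) ∈ Subgroup.center ↥(alternatingGroup (Fin k)) := Subgroup.mem_center_iff.2 fun x => by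
      obtain ⟨y, rfl⟩ := q.symm.surjective x
      rw [← map_mul, ← map_mul]
      congr 1
      apply Subtype.ext
      ext i j
      fin_cases i <;> fin_cases j <;> simp
    rw [alternatingGroup.center_eq_bot (by rw [Nat.card_eq_fintype_card, Fintype.card_fin]; omega),
      Subgroup.mem_bot, MulEquiv.map_eq_one_iff] at hc
    have e := congrFun (congrFun (congrArg Subtype.val hc) 0) 0
    simp at e
    exact h2 (by linear_combination -e)

end CfsgLib.BlockPush
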