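import Cfsg.Agent.Lib.BlockPush.CStar
import Cfsg.Agent.Lib.BlockPush.SmallModels
import Cfsg.Agent.Lib.Baumann.Contain

/-!
The block structure.
-/

set_option autoImplicit false
set_option linter.unusedSectionVars false
set_option linter.style.haveILetI false

namespace CfsgLib.BlockPush

open Cfsg CfsgLib CfsgLib.RootCommute CfsgLib.RootBlocks Matrix Equiv CfsgLib.SymSylow
open CfsgLib.SL2Pair (fix)
open CfsgLib.StrongFusion (cm cm_cm cm_one cm_inv_cm cm_mono card_cm conj_mem_cm)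
open CfsgLib.PSL2 (uSL vSL coe_uSL coe_vSL)
open scoped commutatorElement Pointwise

universe u

/-- A subgroup that is the centre modulo a kernel. -/
theorem map_mk_center {A : Type*} [Group A] {B : Type*} [Group B] (θ : A →* B) {N : Subgroup A} [N.Normal]
    (hN : θ.ker = N) (X : Subgroup A) (h : ∀ y, y ∈ X ↔ ∀ z, θ y * θ z = θ z * θ y) :
    X.map (QuotientGroup.mk' N) = Subgroup.center (A ⧸ N) := by
  have hcomm : ∀ y z, θ y * θ z = θ z * θ y ↔
      QuotientGroup.mk' N y * QuotientGroup.mk' N z = QuotientGroup.mk' N z * QuotientGroup.mk' N y := fun y z => by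
    rw [← map_mul, ← map_mul, ← map_mul, ← map_mul]
    show _ ↔ ((y * z : A) : A ⧸ N) = ((z * y : A) : A ⧸ N)
    rw [QuotientGroup.eq, ← hN, MonoidHom.mem_ker, map_mul θ (y * z)⁻¹, map_inv, inv_mul_eq_one]
  ext q
  obtain ⟨y, rfl⟩ := QuotientGroup.mk'_surjective N q
  constructor
  · rintro ⟨y', hy', e⟩
    rw [← e, Subgroup.mem_center_iff]
    intro w
    obtain ⟨z, rfl⟩ := QuotientGroup.mk'_surjective N w
    exact ((hcomm y' z).1 ((h y').1 hy' z)).symm
  · intro hc
    exact ⟨y, (h y).2 fun z => (hcomm y z).2 ((Subgroup.mem_center_iff.1 hc _).symm), rfl⟩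

theorem degree_of_card {k m n : ℕ} (hm : 2 ≤ m) (hk : k = 2 ^ n + 1) (hn : 1 ≤ n)
    (q : ↥(alternatingGroup (Fin k)) ≃* ↥(alternatingGroup (Fin (2 * m + 1)))) : 2 * m + 1 = k := by
  have h2 : 2 ≤ k := by
    have := Nat.pow_le_pow_right (n := 2) two_pos hn
    omega
  haveI : Nontrivial (Fin k) := Fintype.one_lt_card_iff_nontrivial.1 (by rw [Fintype.card_fin]; omega)
  haveI : Nontrivial (Fin (2 * m + 1)) := Fintype.one_lt_card_iff_nontrivial.1 (by rw [Fintype.card_fin]; omega)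
  have e := Nat.card_congr q.toEquiv
  have a1 := two_mul_card_alternatingGroup (α := Fin k)
  have a2 := two_mul_card_alternatingGroup (α := Fin (2 * m + 1))
  rw [Fintype.card_perm, Fintype.card_fin, ← Nat.card_eq_fintype_card] at a1 a2
  rw [e, a2] at a1
  exact (Nat.factorial_inj (by omega)).1 a1

theorem no_small_alt {A : Type*} [Group A] {m : ℕ} (hm : 2 ≤ m) (hA : Nat.card A ≤ 8)
    (q : A ≃* ↥(alternatingGroup (Fin (2 * m + 1)))) : False := by
  haveI : Nontrivial (Fin (2 * m + 1)) := Fintype.one_lt_card_iff_nontrivial.1 (by rw [Fintype.card_fin]; omega)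
  have a2 := two_mul_card_alternatingGroup (α := Fin (2 * m + 1))
  rw [Fintype.card_perm, Fintype.card_fin, ← Nat.card_eq_fintype_card, ← Nat.card_congr q.toEquiv] at a2
  have h5 : Nat.factorial 5 ≤ Nat.factorial (2 * m + 1) := Nat.factorial_le (by omega)
  have e5 : Nat.factorial 5 = 120 := rfl
  omega

theorem card_alt_three : Nat.card ↥(alternatingGroup (Fin 3)) = 3 := by
  rw [nat_card_alternatingGroup, Nat.card_eq_fintype_card, Fintype.card_fin]
  rfl

variable {G : Type u} [Group G] [Finite G] {p : ℕ} [hp : Fact p.Prime]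

attribute [local instance] commGroupOf

namespace Ctx

variable {T : Sylow p G} {M : Subgroup G} (c : Ctx T M)
include c
variable {r : ℕ} {E : Fin r → Subgroup (G ⧸ cV p G)}
  (L : Layout (qAct p G) (T.mapSurjective qC_surjective) (M.map (qC p G)) E)
include L

theorem mem_T_iff {g : G} :
    g ∈ (T : Subgroup G) ↔ qC p G g ∈ (T.mapSurjective (f := qC p G) qC_surjective : Subgroup (G ⧸ cV p G)) := by
  refine ⟨fun h => c.T_image L h, fun h => ?_⟩
  obtain ⟨t, ht, hte⟩ := h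
  have h1 : t⁻¹ * g ∈ pCore p G := (c.mem_core_iff L).2 (by
    rw [map_mul, map_inv, show qC p G t = qC p G g from hte, inv_mul_cancel])
  have := mul_mem ht (pCore_le_sylow T h1)
  rwa [mul_inv_cancel_left] at this

theorem M_image {i : Fin r} {g : G} (hg : g ∈ cStarOf p (T : Subgroup G) ⊓ blk T (E i)) :
    qC p G g ∈ M.map (qC p G) := Subgroup.mem_map_of_mem _ (c.cStar_le hg.1)

theorem mem_cStar_iff_sl {i : Fin r} {F : Type} [Field F] [Fintype F]
    (e : ↥(E i) ≃* Matrix.SpecialLinearGroup (Fin 2) F)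
    (hT : ∀ g : ↥(E i), e g ∈ (uGrp : Subgroup (Matrix.SpecialLinearGroup (Fin 2) F)) ↔
      (g : G ⧸ cV p G) ∈ (T.mapSurjective (f := qC p G) qC_surjective : Subgroup (G ⧸ cV p G)))
    (hoffs : ∀ g : ↥(E i), (g : G ⧸ cV p G) ∈ offs (qAct p G) (T.mapSurjective qC_surjective) (E i) ↔
      e g ∈ (uGrp : Subgroup (Matrix.SpecialLinearGroup (Fin 2) F)))
    {g : G} (hg : g ∈ blk T (E i)) :
    g ∈ cStarOf p (T : Subgroup G) ↔ (e (c.qBlk L i ⟨g, hg⟩)).1 1 0 = 0 :=
  ⟨fun h => c.upper_of_M L e hT (c.qBlk L i ⟨g, hg⟩) (c.M_image L ⟨h, hg⟩),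
    fun h => c.mem_cStar_sl L e hoffs (c.blk_image L hg) h⟩

theorem mem_cStar_iff_perm {i : Fin r} {n : ℕ} (hn : 1 ≤ n) (hp2 : p = 2)
    (e : ↥(E i) ≃* Perm (Fin (2 ^ n + 1))) {μ : Perm (Fin (2 ^ n + 1))} (hμ : IsPairing μ)
    {x : Fin (2 ^ n + 1)} (hx : μ x = x)
    (hsw : ∀ g : ↥(E i), ∀ a, e g = swap a (μ a) →
      (g : G ⧸ cV p G) ∈ (T.mapSurjective (f := qC p G) qC_surjective : Subgroup (G ⧸ cV p G)))
    (ψ : Additive ↥(vQ p G) →+ ↥(evenVec (Fin (2 ^ n + 1))))
    (hk : ∀ w, ψ w = 0 ↔ w ∈ fix (qAct p G) (E i))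
    (hact : ∀ (g : ↥(E i)) w, ψ (qAct p G (g : G ⧸ cV p G) w) = natPerm (e g) (ψ w))
    {g : G} (hg : g ∈ blk T (E i)) :
    g ∈ cStarOf p (T : Subgroup G) ↔ e (c.qBlk L i ⟨g, hg⟩) x = x :=
  ⟨fun h => c.fixes_of_M L hn hp2 e hμ hx hsw ψ hk hact (c.qBlk L i ⟨g, hg⟩) (c.M_image L ⟨h, hg⟩),
    fun h => c.mem_cStar_perm L hn hp2 e hμ hx hsw ψ hk hact hg h⟩

/-- The three cases of the structure. -/
theorem struct_blk (i : Fin r) :
    (∃ (F : Type) (_ : Field F) (_ : Fintype F) (m : ℕ), 3 < p ^ m ∧ Fintype.card F = p ^ m ∧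
        Nonempty (↥(blk T (E i)) ⧸ pCore p ↥(blk T (E i)) ≃* Matrix.SpecialLinearGroup (Fin 2) F) ∧
        cStarOf p (T : Subgroup G) ⊓ blk T (E i) =
          blk T (E i) ⊓ Subgroup.normalizer (((T : Subgroup G) ⊓ blk T (E i) : Subgroup G) : Set G)) ∨
    (p = 2 ∧ ∃ m : ℕ, Nonempty (↥(blk T (E i)) ⧸ pCore p ↥(blk T (E i)) ≃* ↥(alternatingGroup (Fin (2 * m + 1)))) ∧
        Nonempty (↥(((cStarOf p (T : Subgroup G) ⊓ blk T (E i)).subgroupOf (blk T (E i))).map
          (QuotientGroup.mk' (pCore p ↥(blk T (E i))))) ≃* ↥(alternatingGroup (Fin (2 * m))))) ∨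
    (p = 3 ∧ Nonempty (↥(blk T (E i)) ⧸ pCore p ↥(blk T (E i)) ≃*
          ↥(commutator (Matrix.SpecialLinearGroup (Fin 2) (ZMod 3)))) ∧
        ((cStarOf p (T : Subgroup G) ⊓ blk T (E i)).subgroupOf (blk T (E i))).map
          (QuotientGroup.mk' (pCore p ↥(blk T (E i)))) =
          Subgroup.center (↥(blk T (E i)) ⧸ pCore p ↥(blk T (E i)))) := by
  classical
  set X := (cStarOf p (T : Subgroup G) ⊓ blk T (E i)).subgroupOf (blk T (E i)) with hX
  rcases L.kind i with ⟨F, iF, iF', n, e, ψ, hn, hcard, hch, -, -, -, hT, hoffs⟩ |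
    ⟨n, e, ψ, μ, hp2, hn, -, hk, hact, hμ, hsw, -⟩
  · haveI := hch
    have hmemX : ∀ y : ↥(blk T (E i)), y ∈ X ↔ (e (c.qBlk L i y)).1 1 0 = 0 := fun y =>
      ⟨fun h => (c.mem_cStar_iff_sl L e hT hoffs y.2).1 h.1,
        fun h => ⟨(c.mem_cStar_iff_sl L e hT hoffs y.2).2 h, y.2⟩⟩
    have hker := c.hom_ker L i e
    have hrange := c.hom_range L i e
    rw [pResidual_sl] at hrange
    rcases (show p ^ n = 2 ∨ p ^ n = 3 ∨ 3 < p ^ n by
      have := hp.out.two_le.trans (Nat.le_self_pow (by omega : n ≠ 0) p)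
      omega) with h | h | h
    · have hp2 : p = 2 := ((Nat.prime_two.pow_eq_iff).1 h).1
      subst hp2
      rw [h] at hcard
      obtain ⟨f, hf⟩ := sl_equiv (ZMod.ringEquivOfPrime F Nat.prime_two hcard).symm
      let g3 := MulEquiv.ofBijective threeSL threeSL_bijective
      let e3 : ↥(E i) ≃* Perm (Fin 3) := (e.trans f).trans g3.symm
      refine Or.inr (Or.inl ⟨rfl, 1, ?_, ?_⟩)
      · obtain ⟨q⟩ := c.quot_equiv L i e3
        exact ⟨q.trans (MulEquiv.subgroupCongr pResidual_perm)⟩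
      · obtain ⟨q⟩ := map_mk_equiv (e3.toMonoidHom.comp (c.qBlk L i)) (c.hom_ker L i e3) X
        have hbot : X.map (e3.toMonoidHom.comp (c.qBlk L i)) = ⊥ := by
          refine (Subgroup.eq_bot_iff_forall _).2 ?_
          rintro _ ⟨y, hy, rfl⟩
          refine perm_three_sq _ ?_ ?_
          · have h1 : f (e (c.qBlk L i y)) * f (e (c.qBlk L i y)) = 1 :=
              s2_upper_sq _ (by rw [hf, (hmemX y).1 hy, map_zero])
            show g3.symm (f (e (c.qBlk L i y))) * g3.symm (f (e (c.qBlk L i y))) = 1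
            rw [← map_mul, h1, map_one]
          · refine Perm.mem_alternatingGroup.1 ?_
            rw [← pResidual_perm, ← c.hom_range L i e3]
            exact ⟨y, rfl⟩
        haveI : Subsingleton ↥(X.map (e3.toMonoidHom.comp (c.qBlk L i))) := by rw [hbot]; infer_instance
        haveI : Subsingleton ↥(alternatingGroup (Fin (2 * 1))) := by
          haveI : Nontrivial (Fin (2 * 1)) := inferInstanceAs (Nontrivial (Fin 2))
          refine (Nat.card_eq_one_iff_unique.1 ?_).1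
          rw [nat_card_alternatingGroup, Nat.card_eq_fintype_card, Fintype.card_fin]
          rfl
        exact ⟨q.trans { toFun := fun _ => 1, invFun := fun _ => 1, left_inv := fun _ => Subsingleton.elim _ _,
                         right_inv := fun _ => Subsingleton.elim _ _, map_mul' := fun _ _ => Subsingleton.elim _ _ }⟩
    · have hp3 : p = 3 := ((Nat.prime_three.pow_eq_iff).1 h).1
      subst hp3
      rw [h] at hcard
      obtain ⟨f, hf⟩ := sl_equiv (ZMod.ringEquivOfPrime F Nat.prime_three hcard).symm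
      let e3 : ↥(E i) ≃* Matrix.SpecialLinearGroup (Fin 2) (ZMod 3) := e.trans f
      refine Or.inr (Or.inr ⟨rfl, ?_, ?_⟩)
      · obtain ⟨q⟩ := c.quot_equiv L i e3
        exact ⟨q.trans (MulEquiv.subgroupCongr (pResidual_sl 3))⟩
      · refine map_mk_center (e3.toMonoidHom.comp (c.qBlk L i)) (c.hom_ker L i e3) X fun y => ?_
        have hr : ∀ a, a ∈ (e3.toMonoidHom.comp (c.qBlk L i)).range ↔ a * a * (a * a) = 1 := fun a => by
          rw [c.hom_range L i e3, pResidual_sl, BBlock.sl3_commutator]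
        rw [hmemX, show ((e (c.qBlk L i y)).1 1 0 = 0) ↔ (((e3.toMonoidHom.comp (c.qBlk L i)) y).1 1 0 = 0) by
          show _ ↔ (f (e (c.qBlk L i y))).1 1 0 = 0
          rw [hf]; exact (map_eq_zero_iff _ (RingEquiv.injective _)).symm, s3_upper_iff _ ((hr _).1 ⟨y, rfl⟩)]
        refine ⟨fun hy z => hy _ ((hr _).1 ⟨z, rfl⟩), fun hy b hb => ?_⟩
        obtain ⟨z, rfl⟩ := (hr b).2 hb
        exact hy z
    · refine Or.inl ⟨F, iF, iF', n, h, hcard, ?_, le_antisymm (fun g hg => ?_) fun g hg => ?_⟩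
      · obtain ⟨q⟩ := c.quot_equiv L i e
        exact ⟨q.trans ((MulEquiv.subgroupCongr ((pResidual_sl p).trans (StSL.perfect_SL2 (by omega)))).trans
          Subgroup.topEquiv)⟩
      · refine Subgroup.mem_inf.2 ⟨hg.2, ZJFailure.mem_normalizer_of_forall fun y hy => ?_⟩
        have hyE : g * y * g⁻¹ ∈ blk T (E i) := mul_mem (mul_mem hg.2 hy.2) (inv_mem hg.2)
        refine Subgroup.mem_inf.2 ⟨(c.mem_T_iff L).2 ?_, hyE⟩
        have hu : e (c.qBlk L i ⟨y, hy.2⟩) ∈ (uGrp : Subgroup (Matrix.SpecialLinearGroup (Fin 2) F)) :=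
          (hT _).2 ((c.mem_T_iff L).1 hy.1)
        have h1 := (Subgroup.mem_normalizer_iff.1
          (normalizer_uGrp ((c.mem_cStar_iff_sl L e hT hoffs hg.2).1 hg.1)) _).1 hu
        rw [← map_inv, ← map_mul, ← map_mul, ← map_inv, ← map_mul, ← map_mul] at h1
        exact (hT _).1 h1
      · refine Subgroup.mem_inf.2 ⟨(c.mem_cStar_iff_sl L e hT hoffs hg.1).2 (upper_conj _ ?_), hg.1⟩
        obtain ⟨y, hy⟩ : uSL (1 : F) ∈ (e.toMonoidHom.comp (c.qBlk L i)).range := by
          rw [hrange, StSL.perfect_SL2 (by omega)]; trivial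
        have hyT : (y : G) ∈ (T : Subgroup G) ⊓ blk T (E i) :=
          Subgroup.mem_inf.2 ⟨(c.mem_T_iff L).2 ((hT (c.qBlk L i y)).1 (by
            rw [show e (c.qBlk L i y) = uSL 1 from hy]; exact uSL_mem 1)), y.2⟩
        have h1 := (Subgroup.mem_normalizer_iff.1 hg.2 _).1 hyT
        have h2 : e (c.qBlk L i (⟨g, hg.1⟩ * y * ⟨g, hg.1⟩⁻¹)) ∈
            (uGrp : Subgroup (Matrix.SpecialLinearGroup (Fin 2) F)) := (hT _).2 ((c.mem_T_iff L).1 h1.1)
        rw [map_mul, map_mul, map_inv, map_mul, map_mul, map_inv, show e (c.qBlk L i y) = uSL 1 from hy] at h2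
        exact h2.1
  · subst hp2
    obtain ⟨x, hx⟩ := pairing_point hμ (odd_card hn)
    have hmemX : ∀ y : ↥(blk T (E i)), y ∈ X ↔ e (c.qBlk L i y) x = x := fun y =>
      ⟨fun h => (c.mem_cStar_iff_perm L hn rfl e hμ hx hsw ψ hk hact y.2).1 h.1,
        fun h => ⟨(c.mem_cStar_iff_perm L hn rfl e hμ hx hsw ψ hk hact y.2).2 h, y.2⟩⟩
    refine Or.inr (Or.inl ⟨rfl, ?_⟩)
    have key : ∀ K m : ℕ, K = 2 * m →
        Nonempty (↥(blk T (E i)) ⧸ pCore 2 ↥(blk T (E i)) ≃* ↥(alternatingGroup (Fin (K + 1)))) →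
        Nonempty (↥(X.map (QuotientGroup.mk' (pCore 2 ↥(blk T (E i))))) ≃* ↥(alternatingGroup (Fin K))) →
        ∃ m : ℕ, Nonempty (↥(blk T (E i)) ⧸ pCore 2 ↥(blk T (E i)) ≃* ↥(alternatingGroup (Fin (2 * m + 1)))) ∧
          Nonempty (↥(X.map (QuotientGroup.mk' (pCore 2 ↥(blk T (E i))))) ≃* ↥(alternatingGroup (Fin (2 * m)))) := by
      rintro K m rfl h1 h2
      exact ⟨m, h1, h2⟩
    refine key (2 ^ n) (2 ^ (n - 1)) (by rw [← pow_succ', Nat.sub_add_cancel hn]) ?_ ?_
    · obtain ⟨q⟩ := c.quot_equiv L i e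
      exact ⟨q.trans (MulEquiv.subgroupCongr pResidual_perm)⟩
    · obtain ⟨q⟩ := map_mk_equiv (e.toMonoidHom.comp (c.qBlk L i)) (c.hom_ker L i e) X
      obtain ⟨s⟩ := alt_stab_equiv (k := 2 ^ n) x
      refine ⟨(q.trans (MulEquiv.subgroupCongr ?_)).trans s⟩
      ext σ
      constructor
      · rintro ⟨y, hy, rfl⟩
        refine Subgroup.mem_inf.2 ⟨?_, (hmemX y).1 hy⟩
        rw [← pResidual_perm, ← c.hom_range L i e]
        exact ⟨y, rfl⟩
      · intro hσ
        obtain ⟨y, rfl⟩ : σ ∈ (e.toMonoidHom.comp (c.qBlk L i)).range := by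
          rw [c.hom_range L i e, pResidual_perm]; exact hσ.1
        exact ⟨y, (hmemX y).2 hσ.2, rfl⟩

/-- The degrees of alternating blocks. -/
theorem degree_blk (i : Fin r) (m : ℕ)
    (hq : Nonempty (↥(blk T (E i)) ⧸ pCore p ↥(blk T (E i)) ≃* ↥(alternatingGroup (Fin (2 * m + 1))))) :
    ∃ n : ℕ, 2 * m + 1 = 2 ^ n + 1 := by
  obtain ⟨q⟩ := hq
  rcases (show m = 0 ∨ m = 1 ∨ 2 ≤ m by omega) with rfl | rfl | hm
  · exfalso
    have hsub : Subsingleton ↥(alternatingGroup (Fin (2 * 0 + 1))) :=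
      ⟨fun a b => Subtype.ext (Equiv.ext fun x => Fin.ext (by omega))⟩
    haveI := q.toEquiv.subsingleton
    have hb : blk T (E i) ≤ pCore p G := fun g hg => by
      have h1 : QuotientGroup.mk' (pCore p ↥(blk T (E i))) ⟨g, hg⟩ = 1 := Subsingleton.elim _ _
      exact ((c.pCoreOf_blk L i).le ⟨_, (QuotientGroup.eq_one_iff _).1 h1, rfl⟩).2
    refine c.blk_moves_omega L i ?_
    have hbot : blk T (E i) = ⊥ := (Subgroup.eq_bot_iff_forall _).2 fun g hg => by
      have := hom_eq_one_of_pResidualOf (E := blk T (E i)) (pResidualOf_idem _)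
        (H := ↥(pCore p G)) (isPGroup_pCore p) (Subgroup.inclusion hb) ⟨g, hg⟩
      exact congrArg Subtype.val this
    rw [hbot, Subgroup.commutator_bot_left]
  · exact ⟨1, rfl⟩
  rcases L.kind i with ⟨F, iF, iF', n, e, ψ, hn, hcard, hch, -, -, -, -, -⟩ |
    ⟨n, e, ψ, μ, hp2, hn, -, -, -, -, -, -⟩
  · haveI := hch
    obtain ⟨q'⟩ := c.quot_equiv L i e
    let q2 := (q.symm.trans q').trans (MulEquiv.subgroupCongr (pResidual_sl p))
    rcases (show p ^ n = 2 ∨ p ^ n = 3 ∨ 3 < p ^ n by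
      have := hp.out.two_le.trans (Nat.le_self_pow (by omega : n ≠ 0) p)
      omega) with h | h | h
    · rw [h] at hcard
      obtain ⟨f, -⟩ := sl_equiv (ZMod.ringEquivOfPrime F Nat.prime_two hcard).symm
      obtain ⟨q3⟩ := c.quot_equiv L i ((e.trans f).trans (MulEquiv.ofBijective threeSL threeSL_bijective).symm)
      have hp2 : p = 2 := ((Nat.prime_two.pow_eq_iff).1 h).1
      subst hp2
      exact (no_small_alt hm (by rw [card_alt_three]; omega)
        (((q3.trans (MulEquiv.subgroupCongr pResidual_perm)).symm).trans q)).elim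
    · rw [h] at hcard
      obtain ⟨f, -⟩ := sl_equiv (ZMod.ringEquivOfPrime F Nat.prime_three hcard).symm
      obtain ⟨q3⟩ := c.quot_equiv L i (e.trans f)
      have hp3 : p = 3 := ((Nat.prime_three.pow_eq_iff).1 h).1
      subst hp3
      exact (no_small_alt hm (by rw [BBlock.sl3_card])
        (((q3.trans (MulEquiv.subgroupCongr (pResidual_sl 3))).symm).trans q)).elim
    · rcases (show m = 2 ∨ 3 ≤ m by omega) with rfl | hm3
      · exact ⟨2, rfl⟩
      · exact (alt_ne_sl (by omega)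
          (q2.trans ((MulEquiv.subgroupCongr (StSL.perfect_SL2 (by omega))).trans Subgroup.topEquiv))).elim
  · subst hp2
    obtain ⟨q'⟩ := c.quot_equiv L i e
    exact ⟨n, degree_of_card hm rfl hn ((q'.trans (MulEquiv.subgroupCongr pResidual_perm)).symm.trans q)⟩

/-- A block outside `C*(G,T)` lies in one of the blocks. -/
theorem foreign {F : Subgroup G} (hF : IsBaumannBlock p (T : Subgroup G) F) : ∃ i, F ≤ blk T (E i) := by
  by_contra hno
  push Not at hno
  have hsub : ∀ i, BBlock.IsSubBlock p (blk T (E i)) := fun i => by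
    refine ⟨⟨T, c.isBaumannBlock_blk L i⟩, Subgroup.IsSubnormal.step _ _ (le_iSup (fun j => blk T (E j)) i)
      (Subgroup.Normal.isSubnormal (c.blk_iSup_normal L)) ?_⟩
    refine (Subgroup.normal_subgroupOf_iff_le_normalizer (le_iSup (fun j => blk T (E j)) i)).2 (iSup_le fun j => ?_)
    by_cases h : j = i
    · subst h; exact Subgroup.le_normalizer
    · intro a ha
      refine ZJFailure.mem_normalizer_of_forall fun b hb => ?_
      rw [c.blk_comm L h ha hb, mul_inv_cancel_right]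
      exact hb
  have hcomm : ∀ i, ⁅F, blk T (E i)⁆ = ⊥ := fun i =>
    (BBlock.le_or_commute c.charp (hsub i) T hF).resolve_left (hno i)
  refine hF.2.2.2.1 ?_
  have hbot : F = ⊥ := by
    refine le_bot_iff.1 (BBlock.le_of_coprime hF.1 fun g hg hc => ?_)
    have hgE : qC p G g ∈ ⨆ j, E j := by
      have h1 := c.mem_jG_of_coprime L hc
      exact (c.map_jG L).le (Subgroup.mem_map_of_mem _ h1)
    have h1 : qC p G g = 1 := L.eq_of_parts hgE (one_mem _) fun i => by
      obtain ⟨a, ha⟩ := L.exists_part i hgE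
      refine ⟨a, ha, ?_⟩
      suffices a = 1 by rw [this]; exact L.part_self (one_mem _)
      refine (L.comp i).faithful a ha.1 fun w => ?_
      obtain ⟨z, hz, u, hu, rfl⟩ := AddSubgroup.mem_sup.1 ((fix_sup_img L.sum L.other i).ge (AddSubgroup.mem_top w))
      obtain ⟨v, hv, rfl⟩ := exists_av u
      rw [map_add, hz a ha.1, add_sub_add_left_eq_sub]
      have h2 : g * v * g⁻¹ = v := by
        have h3 := Subgroup.commutator_mem_commutator hg (c.wComp_le_blk L i (⟨hv, hu⟩ : v ∈ wComp (E i)))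
        rw [hcomm i, Subgroup.mem_bot, commutatorElement_def, mul_inv_eq_one] at h3
        exact h3
      have h4 := neg_mem (ha.2 (av hv))
      rwa [neg_sub, qAct_av, (av_eq (hw := hv)).2 h2] at h4
    obtain ⟨k, hk⟩ := isPGroup_pCore (G := G) p ⟨g, (c.mem_core_iff L).2 h1⟩
    have hd : orderOf g ∣ p ^ k := orderOf_dvd_of_pow_eq_one (congrArg Subtype.val hk)
    exact Subgroup.mem_bot.2 (orderOf_eq_one_iff.1
      (Nat.dvd_one.1 ((hc.pow_right k) ▸ Nat.dvd_gcd dvd_rfl hd)))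
  rw [hbot, Subgroup.commutator_bot_left]

/-- **The block structure.** -/
theorem block_structure :
    HasBaumannBlockStructure p (T : Subgroup G) (Set.range fun i => blk T (E i)) ∧
      cStarOf p (T : Subgroup G) =
        (cStarOf p (T : Subgroup G) ⊓ sSup (Set.range fun i => blk T (E i))) ⊔ (T : Subgroup G) := by
  have hT := sylow_le_cStar (p := p) T
  have hN : sSup (Set.range fun i => blk T (E i)) = ⨆ i, blk T (E i) := sSup_range
  rw [hN]
  refine ⟨⟨?_, ?_, ?_, ?_, fun F hF _ => ?_, ?_, ?_⟩, ?_⟩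
  · rintro _ ⟨i, rfl⟩; exact c.isBaumannBlock_blk L i
  · rintro _ ⟨i, rfl⟩ g
    obtain ⟨j, hj⟩ := c.blk_conj L g i
    exact ⟨j, hj.symm⟩
  · rintro _ ⟨i, rfl⟩ _ ⟨j, rfl⟩ hne
    exact c.blk_commutator_eq_bot L fun h => hne (by rw [h])
  · rw [hN]
    exact top_le_iff.1 ((c.blk_iSup_sup_T L).ge.trans (sup_le le_sup_right (hT.trans le_sup_left)))
  · obtain ⟨i, hi⟩ := c.foreign L hF
    exact ⟨_, ⟨i, rfl⟩, hi⟩
  · rw [hN, iSup_range]
    exact le_antisymm (fun g hg => c.mem_iSup_cStar L hg.2 (Subgroup.mem_map_of_mem _ (c.cStar_le hg.1)))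
      (iSup_le fun i => inf_le_inf_left _ (le_iSup (fun j => blk T (E j)) i))
  · rintro _ ⟨i, rfl⟩; exact c.struct_blk L i
  · refine le_antisymm (fun g hg => ?_) (sup_le inf_le_left hT)
    haveI := c.blk_iSup_normal L
    obtain ⟨a, ha, t, ht, rfl⟩ := Subgroup.mem_sup_of_normal_left.1 ((c.blk_iSup_sup_T L).ge (Subgroup.mem_top g))
    have h1 : a ∈ cStarOf p (T : Subgroup G) := by
      have := mul_mem hg (inv_mem (hT ht))
      rwa [mul_inv_cancel_right] at this
    exact mul_mem (Subgroup.mem_sup_left (Subgroup.mem_inf.2 ⟨h1, ha⟩)) (Subgroup.mem_sup_right ht)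

end Ctx

end CfsgLib.BlockPush
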