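import Cfsg.Agent.Lib.BlockPush.Baumann
import Cfsg.Agent.Lib.PushUp.Summary

/-!
For each component a subgroup in the pushing-up situation over the Baumann subgroup.
-/

set_option autoImplicit false
set_option linter.unusedSectionVars false
set_option linter.style.haveILetI false

namespace CfsgLib.BlockPush

open Cfsg CfsgLib CfsgLib.RootCommute CfsgLib.RootBlocks
open CfsgLib.SL2Pair (fix)
open CfsgLib.StrongFusion (cm cm_cm cm_one cm_inv_cm cm_mono card_cm conj_mem_cm)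
open scoped commutatorElement Pointwise

universe u

variable {G : Type u} [Group G] [Finite G] {p : ℕ} [hp : Fact p.Prime]

attribute [local instance] commGroupOf

/-- The subgroup of one component. -/
structure Supp (T : Sylow p G) (L : Subgroup G) (R : Subgroup (G ⧸ cV p G)) (S : Sylow p ↥L) : Prop where
  tB_le : tB T ≤ L
  le_gZero : L ≤ gZero T
  map_eq : L.map (qC p G) = R
  sylow : (S : Subgroup ↥L) = (tB T).subgroupOf L
  qZero_le : (qZero T).subgroupOf L ≤ pCore p ↥L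
  comm_core : ∀ q ∈ pCore p G, ∀ l ∈ L, q * l * q⁻¹ * l⁻¹ ∈ qZero T
  sup_T : L ⊔ (T : Subgroup G) = ⊤
  setting : PushRankOne.Setting S
  uniq_max : ∃! K : Subgroup ↥L, IsCoatom K ∧ (S : Subgroup ↥L) ≤ K
  noChar : PushUp.NoChar (S : Subgroup ↥L)
  charp : Subgroup.centralizer (pCore p ↥L : Set ↥L) ≤ pCore p ↥L

namespace Ctx

variable {T : Sylow p G} {M : Subgroup G} (c : Ctx T M)
include c

/-- A `p`-subgroup of `C_G(V)` lies in `O_p(G)`. -/
theorem pgroup_le_core {X : Subgroup G} (hX : IsPGroup p X) (hXC : X ≤ cV p G) : X ≤ pCore p G := by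
  obtain ⟨a, ha⟩ := ZJFailure.exists_le_cm T hX
  intro x hx
  have h3 : a⁻¹ * x * a ∈ cV p G := by
    have := (cV_normal (p := p) (G := G)).conj_mem _ (hXC hx) a⁻¹
    rwa [inv_inv] at this
  have h4 := (inferInstance : (pCore p G).Normal).conj_mem _
    (c.inf_cV_eq.le (Subgroup.mem_inf.2 ⟨RootCommute.mem_cm.1 (ha hx), h3⟩)) a
  rwa [show a * (a⁻¹ * x * a) * a⁻¹ = x by group] at h4

variable {r : ℕ} {E : Fin r → Subgroup (G ⧸ cV p G)}
  (L : Layout (qAct p G) (T.mapSurjective qC_surjective) (M.map (qC p G)) E)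
include L

theorem core_gZero {q g : G} (hq : q ∈ pCore p G) (hg : g ∈ gZero T) : q * g * q⁻¹ * g⁻¹ ∈ qZero T := by
  rw [← c.gZero_inf_core L]
  refine Subgroup.mem_inf.2 ⟨mul_mem ((c.gZero_normal L).conj_mem g hg q) (inv_mem hg), ?_⟩
  rw [show q * g * q⁻¹ * g⁻¹ = q * (g * q⁻¹ * g⁻¹) by group]
  exact mul_mem hq ((inferInstance : (pCore p G).Normal).conj_mem _ (inv_mem hq) g)

/-- **One component gives a pushing-up situation.** -/
theorem exists_supp (i : Fin r) :
    ∃ (H : Subgroup G) (R : Subgroup (G ⧸ cV p G)) (S : Sylow p ↥H), Supp T H R S ∧ R ≤ (⨆ j, E j) ∧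
      offs (qAct p G) (T.mapSurjective qC_surjective) ⊤ ≤ R ∧
      (∀ g ∈ R, ∀ a, ∀ j, j ≠ i → IsPart (qAct p G) (E j) g a →
        a ∈ offs (qAct p G) (T.mapSurjective qC_surjective) (E j)) ∧
      ∃ (F : Type) (_ : Field F) (_ : Fintype F) (n : ℕ) (f : ↥H →* Matrix.ProjectiveSpecialLinearGroup (Fin 2) F)
        (T' : Subgroup ↥H), Fintype.card F = p ^ n ∧ 1 ≤ n ∧ CharP F p ∧
        PushUp.Opp ⊤ (pCore p ↥H) (S : Subgroup ↥H) T' ∧ (∃ g : ↥H, T' = PushUp.cj g (S : Subgroup ↥H)) ∧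
        PushUp.Coords p F (pCore p ↥H) (S : Subgroup ↥H) T' f := by
  classical
  obtain ⟨R, F, iF, iF', n, f, hf, hn, hcard, hJR, hRE, hRT, hRN, hRP, hRmax, hRpart⟩ := L.region i
  haveI : CharP F p := charP_of_card_eq_prime_pow (f := n) hcard
  haveI := c.gZero_normal L
  set P0 := R.comap (qC p G) ⊓ gZero T with hP0
  have hBP0 : tB T ≤ P0 := le_inf (Subgroup.map_le_iff_le_comap.1 ((c.map_tB L).le.trans hJR)) (c.tB_le_gZero L)
  have hP0map : R ≤ P0.map (qC p G) := fun x hx => by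
    obtain ⟨g, hg, rfl⟩ := (c.map_gZero L).ge (hRE hx)
    exact ⟨g, Subgroup.mem_inf.2 ⟨hx, hg⟩, rfl⟩
  obtain ⟨H, ⟨hBH, hHP, hRH⟩, hmin⟩ := Set.exists_min_image {H : Subgroup G | tB T ≤ H ∧ H ≤ P0 ∧ R ≤ H.map (qC p G)}
    (fun H => Nat.card H) (Set.toFinite _) ⟨P0, hBP0, le_rfl, hP0map⟩
  have hHmap : H.map (qC p G) = R :=
    le_antisymm ((Subgroup.map_mono (hHP.trans inf_le_left)).trans (Subgroup.map_comap_le _ _)) hRH
  have hHg : H ≤ gZero T := hHP.trans inf_le_right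
  have hQ0B : qZero T ≤ tB T := inf_le_right
  -- the Sylow subgroup
  have hBp : IsPGroup p ↥((tB T).subgroupOf H) :=
    (T.2.to_le (tB_le T)).of_equiv (Subgroup.subgroupOfEquivOfLe hBH).symm
  obtain ⟨S, hS⟩ := hBp.exists_le_sylow
  have hSeq : (S : Subgroup ↥H) = (tB T).subgroupOf H := by
    refine le_antisymm (fun x hx => ?_) hS
    show (x : G) ∈ tB T
    set X := (S : Subgroup ↥H).map H.subtype with hXdef
    have hXp : IsPGroup p X := S.2.map _
    have hxX : (x : G) ∈ X := ⟨x, hx, rfl⟩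
    have hBX : tB T ≤ X := fun b hb => ⟨⟨b, hBH hb⟩, hS hb, rfl⟩
    have h1 : X.map (qC p G) ≤ offs (qAct p G) (T.mapSurjective qC_surjective) ⊤ :=
      hRP _ ((Subgroup.map_mono (Subgroup.map_subtype_le _)).trans hHmap.le) (hXp.map _)
        ((c.map_tB L).ge.trans (Subgroup.map_mono hBX))
    obtain ⟨b, hb, hbx⟩ := (c.map_tB L).ge (h1 (Subgroup.mem_map_of_mem _ hxX))
    have hcmem : b⁻¹ * (x : G) ∈ X ⊓ cV p G := Subgroup.mem_inf.2
      ⟨mul_mem (inv_mem (hBX hb)) hxX, by rw [← qC_eq_one, map_mul, map_inv, hbx, inv_mul_cancel]⟩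
    have hcQ : b⁻¹ * (x : G) ∈ qZero T := by
      rw [← c.gZero_inf_core L]
      exact Subgroup.mem_inf.2 ⟨hHg (mul_mem (inv_mem (hBH hb)) x.2),
        c.pgroup_le_core (hXp.to_le inf_le_left) inf_le_right hcmem⟩
    have := mul_mem hb (hQ0B hcQ)
    rwa [mul_inv_cancel_left] at this
  haveI := c.qZero_normal L
  have hQ0p : IsPGroup p ↥((qZero T).subgroupOf H) :=
    ((T.2.to_le (tB_le T)).to_le hQ0B).of_equiv (Subgroup.subgroupOfEquivOfLe (hQ0B.trans hBH)).symm
  have hQ0core : (qZero T).subgroupOf H ≤ pCore p ↥H := le_pCore hQ0p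
  have hcomm : ∀ q ∈ pCore p G, ∀ l ∈ H, q * l * q⁻¹ * l⁻¹ ∈ qZero T := fun q hq l hl => c.core_gZero L hq (hHg hl)
  -- the characteristic
  have hcharp : Subgroup.centralizer (pCore p ↥H : Set ↥H) ≤ pCore p ↥H := by
    refine le_pCore (fun x => ?_)
    obtain ⟨k, hk⟩ := PResidual.exists_pow_coprime (p := p) (x : ↥H)
    refine ⟨k, Subtype.ext ?_⟩
    show (x : ↥H) ^ p ^ k = 1
    set y := ((x : ↥H) ^ p ^ k : ↥H) with hy
    have hyc : y ∈ Subgroup.centralizer (pCore p ↥H : Set ↥H) := pow_mem x.2 _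
    have hycop : (orderOf (y : G)).Coprime p := by rw [Subgroup.orderOf_coe]; exact hk
    have hyQ0 : ∀ d ∈ qZero T, d * (y : G) = (y : G) * d := fun d hd =>
      congrArg Subtype.val (Subgroup.mem_centralizer_iff.1 hyc (⟨d, hBH (hQ0B hd)⟩ : ↥H) (hQ0core hd))
    have hyQ : (y : G) ∈ Subgroup.centralizer (pCore p G : Set G) := Subgroup.mem_centralizer_iff.2 fun q hq => by
      set d := (y : G) * q * (y : G)⁻¹ * q⁻¹ with hd
      have hdQ0 : d ∈ qZero T := by
        have := inv_mem (hcomm q hq y y.2)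
        rwa [show (q * (y : G) * q⁻¹ * (y : G)⁻¹)⁻¹ = d by rw [hd]; group] at this
      have h2 : d ∈ (⊥ : Subgroup G) := PushUp.push_down (X := (⊥ : Subgroup G)) (r := (y : G)) (q := q) hycop
        (by rw [hd]; group) (by
          obtain ⟨j, hj⟩ := T.2 ⟨d, tB_le T (hQ0B hdQ0)⟩
          exact ⟨j, Subgroup.mem_bot.2 (congrArg Subtype.val hj)⟩)
        (Subgroup.mem_bot.2 (by rw [← hyQ0 d hdQ0, mul_inv_cancel_right, mul_inv_cancel]))
      rw [Subgroup.mem_bot, hd, mul_inv_eq_one, mul_inv_eq_iff_eq_mul] at h2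
      exact h2.symm
    obtain ⟨j, hj⟩ := isPGroup_pCore (G := G) p ⟨_, c.charp hyQ⟩
    have h3 : (y : G) = 1 := by
      rw [← orderOf_eq_one_iff]
      exact Nat.dvd_one.1 ((hycop.pow_right j) ▸ Nat.dvd_gcd dvd_rfl
        (orderOf_dvd_of_pow_eq_one (congrArg Subtype.val hj)))
    exact Subtype.ext h3
  -- one maximal subgroup
  set N0 := ((Subgroup.normalizer (offs (qAct p G) (T.mapSurjective qC_surjective) ⊤ : Set (G ⧸ cV p G))).comap
    ((qC p G).comp H.subtype)) with hN0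
  have hN0ne : N0 ≠ ⊤ := fun h => hRN fun x hx => by
    obtain ⟨g, hg, rfl⟩ := hHmap.ge hx
    exact (h.ge (Subgroup.mem_top (⟨g, hg⟩ : ↥H)) : _ ∈ N0)
  have hover : ∀ K : Subgroup ↥H, (S : Subgroup ↥H) ≤ K → K ≠ ⊤ → K ≤ N0 := by
    intro K hK hne
    have hBK : tB T ≤ K.map H.subtype := fun b hb => ⟨⟨b, hBH hb⟩, hK (hSeq.ge hb), rfl⟩
    have hKR : (K.map H.subtype).map (qC p G) ≤ R := (Subgroup.map_mono (Subgroup.map_subtype_le _)).trans hHmap.le
    rcases hRmax _ ((c.map_tB L).ge.trans (Subgroup.map_mono hBK)) hKR with h | h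
    · refine absurd ?_ hne
      have h1 := hmin (K.map H.subtype) ⟨hBK, (Subgroup.map_subtype_le _).trans hHP, h.ge⟩
      rw [Subgroup.card_map_of_injective H.subtype_injective] at h1
      exact Subgroup.eq_top_of_card_eq K (le_antisymm (Subgroup.card_le_card_group K) h1)
    · exact fun k hk => h (Subgroup.mem_map_of_mem (qC p G) (Subgroup.mem_map_of_mem H.subtype hk))
  have hSN : (S : Subgroup ↥H) ≤ N0 := fun s hs => Subgroup.le_normalizer
    ((c.map_tB L).le (Subgroup.mem_map_of_mem (qC p G) (hSeq.le hs : (s : G) ∈ tB T)))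
  have huniq : ∃! K : Subgroup ↥H, IsCoatom K ∧ (S : Subgroup ↥H) ≤ K := by
    refine ⟨N0, ⟨⟨hN0ne, fun K hK => ?_⟩, hSN⟩, fun K ⟨hK, hSK⟩ => ?_⟩
    · by_contra hne
      exact absurd (hover K (hSN.trans hK.le) hne) hK.not_ge
    · exact (hK.le_iff_eq hN0ne).1 (hover K hSK hK.1) |>.symm
  -- the projection
  let f' : ↥H →* Matrix.ProjectiveSpecialLinearGroup (Fin 2) F :=
    f.comp (((qC p G).comp H.subtype).codRestrict R fun h => hHmap.le (Subgroup.mem_map_of_mem _ h.2))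
  have hf' : Function.Surjective f' := hf.comp fun x => by
    obtain ⟨g, hg, hgx⟩ := hHmap.ge x.2
    exact ⟨⟨g, hg⟩, Subtype.ext hgx⟩
  haveI : Finite (Matrix.ProjectiveSpecialLinearGroup (Fin 2) F) := Quotient.finite _
  have hset : PushRankOne.Setting S :=
    PushRankOne.setting_of_hom (PushRankOne.sylowShape p) S hcharp huniq f' hf'
  have hsupT : H ⊔ (T : Subgroup G) = ⊤ := by
    have h1 : (H ⊔ (T : Subgroup G)) ⊔ cV p G = ⊤ := by
      rw [← qC_ker, ← Subgroup.comap_map_eq, Subgroup.map_sup, hHmap]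
      refine eq_top_iff.2 fun x _ => ?_
      rw [Subgroup.mem_comap]
      exact hRT.ge (Subgroup.mem_top _)
    have h2 := c.sup_core_top h1
    rwa [sup_assoc, sup_eq_left.2 (pCore_le_sylow T)] at h2
  have hnc : PushUp.NoChar (S : Subgroup ↥H) := by
    refine PushUp.noChar_of fun K hne hch hn => ?_
    -- seen in the whole group
    have eB : ∀ x : ↥(tB T), (⟨x, hBH x.2⟩ : ↥H) ∈ (S : Subgroup ↥H) := fun x => hSeq.ge x.2
    let e : ↥(tB T) ≃* ↥(S : Subgroup ↥H) :=
      { toFun := fun x => ⟨⟨x, hBH x.2⟩, eB x⟩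
        invFun := fun s => ⟨((s : ↥H) : G), hSeq.le s.2⟩
        left_inv := fun x => rfl
        right_inv := fun s => rfl
        map_mul' := fun x y => rfl }
    set C := (K.map (S : Subgroup ↥H).subtype).map H.subtype with hC
    have hCB : C ≤ tB T := by
      rintro _ ⟨_, ⟨k, hk, rfl⟩, rfl⟩
      exact hSeq.le k.2
    have hCK : C.subgroupOf (tB T) = K.comap e.toMonoidHom := by
      ext x
      constructor
      · rintro ⟨_, ⟨k, hk, rfl⟩, hke⟩
        have : e x = k := Subtype.ext (Subtype.ext hke.symm)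
        show e x ∈ K
        rw [this]; exact hk
      · intro hx
        exact ⟨_, ⟨e x, hx, rfl⟩, rfl⟩
    have hCch : (C.subgroupOf (tB T)).Characteristic := by
      rw [hCK, Subgroup.characteristic_iff_comap_eq]
      intro φ
      have h2 := Subgroup.characteristic_iff_comap_eq.1 hch ((e.symm.trans φ).trans e)
      ext x
      have h3 : e x ∈ K.comap ((e.symm.trans φ).trans e).toMonoidHom ↔ e x ∈ K := by rw [h2]
      simpa using h3
    have hCne : C ≠ ⊥ := fun h => hne (by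
      rwa [hC, Subgroup.map_eq_bot_iff_of_injective _ H.subtype_injective,
        Subgroup.map_eq_bot_iff_of_injective _ (S : Subgroup ↥H).subtype_injective] at h)
    refine c.nochar C hCB hCne hCch ?_
    have hHN : H ≤ Subgroup.normalizer (C : Set G) := fun h hh => ZJFailure.mem_normalizer_of_forall fun x hx => by
      obtain ⟨y, hy, rfl⟩ := hx
      exact ⟨_, hn.conj_mem y hy ⟨h, hh⟩, rfl⟩
    have hTN : (T : Subgroup G) ≤ Subgroup.normalizer (C : Set G) := fun t ht => by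
      haveI := hCch
      have hN := Subgroup.mem_normalizer_iff.1 (le_normalizer_tB T ht)
      let φ : ↥(tB T) ≃* ↥(tB T) :=
        { toFun := fun x => ⟨t * x * t⁻¹, (hN x).1 x.2⟩
          invFun := fun x => ⟨t⁻¹ * x * t, (hN _).2 (by
            rw [show t * (t⁻¹ * (x : G) * t) * t⁻¹ = x by group]; exact x.2)⟩
          left_inv := fun x => Subtype.ext (show t⁻¹ * (t * (x : G) * t⁻¹) * t = x by group)
          right_inv := fun x => Subtype.ext (show t * (t⁻¹ * (x : G) * t) * t⁻¹ = x by group)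
          map_mul' := fun x y => Subtype.ext (show t * ((x : G) * y) * t⁻¹ = t * x * t⁻¹ * (t * y * t⁻¹) by group) }
      refine ZJFailure.mem_normalizer_of_forall fun x hx => ?_
      exact (Subgroup.characteristic_iff_comap_eq.1 hCch φ).ge
        (show (⟨x, hCB hx⟩ : ↥(tB T)) ∈ C.subgroupOf (tB T) from hx)
    exact Subgroup.normalizer_eq_top_iff.1 (top_le_iff.1 (hsupT.ge.trans (sup_le hHN hTN)))
  obtain ⟨g, hopp⟩ := PushUp.exists_opp hset huniq (PushRankOne.sylowShape p) f' hf'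
  obtain ⟨f₁, hco⟩ := PushUp.exists_coords_of hset huniq f' hf' hopp ⟨g, rfl⟩
  exact ⟨H, R, S, ⟨hBH, hHg, hHmap, hSeq, hQ0core, hcomm, hsupT, hset, huniq, hnc, hcharp⟩, hRE, hJR, hRpart,
    F, iF, iF', n, f₁, _, hcard, hn, inferInstance, hopp, ⟨g, rfl⟩, hco⟩

end Ctx

end CfsgLib.BlockPush
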