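import Cfsg.Agent.Lib.BlockPush.Module
import Cfsg.Agent.Lib.PResidual

/-!
The Thompson subgroup in the quotient, and the elementary abelian subgroups of greatest order in `C_G(V)`.
-/

set_option autoImplicit false
set_option linter.unusedSectionVars false
set_option linter.style.haveILetI false

namespace CfsgLib.BlockPush

open Cfsg CfsgLib CfsgLib.RootCommute CfsgLib.RootBlocks
open CfsgLib.SL2Pair (fix)
open CfsgLib.StrongFusion (cm cm_cm cm_one cm_inv_cm cm_mono card_cm conj_mem_cm)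
open scoped commutatorElement Pointwise

universe u

variable {G : Type u} [Group G] [Finite G] {p : ℕ} [hp : Fact p.Prime]

attribute [local instance] commGroupOf

instance jG_normal : (thompsonSubgroup p G).Normal := Offender.thompsonSubgroup_normal'

theorem maxElem_cm {A : Subgroup G} (g : G) (hA : A ∈ maxElementaryAbelianSubgroups p G) :
    cm g A ∈ maxElementaryAbelianSubgroups p G :=
  (mx_cm (X := A) g ⟨hA, le_rfl⟩).1

theorem tJ_le_jG (T : Sylow p G) : tJ T ≤ thompsonSubgroup p G := PLocal.thompsonSubgroupOf_le T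

theorem map_cm {H : Type*} [Group H] (f : G →* H) (g : G) (X : Subgroup G) :
    (cm g X).map f = cm (f g) (X.map f) := by
  rw [cm, cm, Subgroup.map_map, Subgroup.map_map]
  congr 1
  ext x
  simp

namespace Ctx

variable {T : Sylow p G} {M : Subgroup G} (c : Ctx T M) {r : ℕ} {E : Fin r → Subgroup (G ⧸ cV p G)}
  (L : Layout (qAct p G) (T.mapSurjective qC_surjective) (M.map (qC p G)) E)
include c L

/-- **The image of `J(T)`.** -/
theorem map_tJ : (tJ T).map (qC p G) = offs (qAct p G) (T.mapSurjective qC_surjective) ⊤ := by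
  refine le_antisymm ?_ ?_
  · rw [tJ_eq, Subgroup.map_le_iff_le_comap]
    refine sSup_le fun A hA => Subgroup.map_le_iff_le_comap.1 ?_
    obtain ⟨h1, h2, h3⟩ := c.mx_image hA
    exact le_offs (le_inf h2 le_top) h1 h3
  rw [L.offs_eq]
  refine iSup_le fun j => ?_
  obtain ⟨A, hA, hAC⟩ := c.mx_not_le
  obtain ⟨h1, h2, h3⟩ := c.mx_image hA
  obtain ⟨-, hmui, hparts⟩ := L.offender_facts h2 h1 h3
  obtain ⟨i, hi⟩ : ∃ i, A.map (qC p G) ⊓ E i ≠ ⊥ := by
    by_contra hno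
    push Not at hno
    refine hAC fun a ha => qC_eq_one.1 ?_
    refine Subgroup.mem_bot.1 (L.mem_of_parts (L.gen _ h2 h1 h3 (Subgroup.mem_map_of_mem _ ha)) fun i => ?_)
    obtain ⟨b, hb, hbA, -⟩ := hparts _ (Subgroup.mem_map_of_mem _ ha) i
    exact ⟨b, hno i ▸ Subgroup.mem_inf.2 ⟨hbA, hb.1⟩, hb⟩
  obtain ⟨tb, htb, htE⟩ := L.trans i j
  obtain ⟨t, ht, rfl⟩ := htb
  have hcmT : cm t (T : Subgroup G) ≤ (T : Subgroup G) := by
    rintro _ ⟨x, hx, rfl⟩
    exact (T : Subgroup G).mul_mem ((T : Subgroup G).mul_mem ht hx) ((T : Subgroup G).inv_mem ht)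
  have hA' : cm t A ∈ mx p (T : Subgroup G) := ⟨maxElem_cm t hA.1, (cm_mono hA.2).trans hcmT⟩
  obtain ⟨h1', h2', h3'⟩ := c.mx_image hA'
  have hmap : (cm t A).map (qC p G) ⊓ E j = cm (qC p G t) (A.map (qC p G) ⊓ E i) := by
    rw [map_cm, ← htE, cm, cm, cm, Subgroup.map_inf _ _ _ (MulAut.conj (qC p G t)).injective]
  refine (L.comp j).span ((cm t A).map (qC p G) ⊓ E j) _ (inf_le_inf_right _ h2')
    ⟨fun a ha b hb => h1'.1 a ha.1 b hb.1, fun a ha => h1'.2 a ha.1⟩ ?_ ((L.offender_facts h2' h1' h3').2.1 j)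
    (inf_le_left.trans (Subgroup.map_mono (le_tJ hA'))) ?_
  · rw [hmap]
    exact fun e => hi ((Subgroup.map_eq_bot_iff_of_injective _ (MulAut.conj (qC p G t)).injective).1 e)
  · refine le_trans inf_le_left ?_
    exact (Subgroup.map_mono (le_normalizer_tJ T)).trans (Subgroup.le_normalizer_map _)

theorem map_jG : (thompsonSubgroup p G).map (qC p G) = ⨆ i, E i := by
  refine le_antisymm ?_ (L.gen_normal _ (jG_normal.map _ qC_surjective) ?_)
  · rw [thompsonSubgroup, Subgroup.map_le_iff_le_comap]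
    refine sSup_le fun A hA => ?_
    obtain ⟨g, hg, hgA⟩ := exists_conj_max T hA
    obtain ⟨h1, h2, h3⟩ := c.mx_image (A := cm g A) ⟨hgA, hg⟩
    intro a ha
    have h4 := L.gen _ h2 h1 h3 (Subgroup.mem_map_of_mem (qC p G) (conj_mem_cm ha))
    have h5 := L.normal.conj_mem _ h4 (qC p G g)⁻¹
    show qC p G a ∈ ⨆ i, E i
    rwa [inv_inv, map_mul, map_mul, map_inv,
      show (qC p G g)⁻¹ * (qC p G g * qC p G a * (qC p G g)⁻¹) * qC p G g = qC p G a by group] at h5
  · obtain ⟨A, hA, hAC⟩ := c.mx_not_le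
    obtain ⟨h1, h2, h3⟩ := c.mx_image hA
    refine ⟨_, Subgroup.map_mono (le_sSup hA.1), h2, h1, fun e => hAC ?_, h3⟩
    rw [← qC_ker]
    exact (Subgroup.map_eq_bot_iff A).1 e

theorem jG_sup_T : thompsonSubgroup p G ⊔ (T : Subgroup G) = ⊤ := by
  have h : (thompsonSubgroup p G ⊔ (T : Subgroup G)) ⊔ cV p G = ⊤ := by
    rw [← qC_ker, ← Subgroup.comap_map_eq, Subgroup.map_sup, c.map_jG L]
    refine eq_top_iff.2 fun x _ => ?_
    rw [Subgroup.mem_comap]
    exact L.sup.ge (Subgroup.mem_top _)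
  have h2 := c.sup_core_top h
  rwa [sup_assoc, sup_eq_left.2 (pCore_le_sylow T)] at h2

/-- The elements of order prime to `p` lie in the Thompson subgroup. -/
theorem mem_jG_of_coprime {g : G} (hg : (orderOf g).Coprime p) : g ∈ thompsonSubgroup p G := by
  have h1 : Cfsg.pResidual p G ≤ thompsonSubgroup p G :=
    PResidual.pResidual_le_of_sup_eq_top T.2 (by rw [sup_comm]; exact c.jG_sup_T L)
  exact h1 (Subgroup.subset_closure hg)

/-- Two conjugates of `J(T)` cover the components. -/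
theorem exists_pair : ∃ g : G, g ∈ tJ T ⊔ cm g (tJ T) ∧ (⨆ i, E i) ≤ (tJ T ⊔ cm g (tJ T)).map (qC p G) := by
  obtain ⟨gb, hgb, hgen⟩ := L.generated
  obtain ⟨g0, rfl⟩ := qC_surjective gb
  have hne : {g : G | (⨆ i, E i) ≤ (tJ T ⊔ cm g (tJ T)).map (qC p G) ∧ qC p G g ∈ ⨆ i, E i}.Nonempty :=
    ⟨g0, by rw [Subgroup.map_sup, map_cm, c.map_tJ L]; exact hgen, hgb⟩
  obtain ⟨g, ⟨hg, hgE⟩, hmin⟩ := Set.exists_min_image _ (fun g => Nat.card ↥(tJ T ⊔ cm g (tJ T))) (Set.toFinite _) hne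
  obtain ⟨h, hh, hhg⟩ := hg hgE
  have hle : tJ T ⊔ cm h (tJ T) ≤ tJ T ⊔ cm g (tJ T) := by
    refine sup_le le_sup_left ?_
    rintro _ ⟨x, hx, rfl⟩
    exact mul_mem (mul_mem hh (Subgroup.mem_sup_left hx)) (inv_mem hh)
  have hh' : (⨆ i, E i) ≤ (tJ T ⊔ cm h (tJ T)).map (qC p G) ∧ qC p G h ∈ ⨆ i, E i := by
    refine ⟨?_, by rw [hhg]; exact hgE⟩
    rw [Subgroup.map_sup, map_cm, hhg, ← map_cm, ← Subgroup.map_sup]
    exact hg
  have heq := Subgroup.eq_of_le_of_card_ge hle (hmin h hh')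
  exact ⟨h, heq.symm ▸ hh, hh'.1⟩

end Ctx

end CfsgLib.BlockPush
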